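import Mathlib
import Cfsg.Agent.Lib.Helper1.PiClasses

set_option autoImplicit false

/-!
# Commuting Sylow families and class-counting lemmas

Generic material for the "many π-classes force an abelian Hall π-subgroup" theorem:

* `Fam τ X R`: `R s` (`s ∈ τ`) are pairwise commuting abelian subgroups of `X` of full
  `s`-power order; `hull τ R` is the (abelian) subgroup they generate.
* `fam_conj`: two such families in `X` are simultaneously `X`-conjugate.
* `fam_cover`: every τ-element of `X` is `X`-conjugate into the hull.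
* `orbit_weighted`, `orbit_image_le`, `orbit_sum_le`: orbit counting for a subgroup acting
  through an explicit action function.
* `comm_of_many_classes`: a `q`-group with more than `|Q| (p²+p-1)/p³` classes (`p ≤ q`) is
  abelian.
* `Tset`, `kpi_le_sum_Tset`, `kpi_insert_le'`: decomposition of classes of
  `insert r σ`-elements, σ-part first.
-/

namespace Cfsg.Agent.Lib.Helper30.PiHall

open Cfsg.Agent.Lib.Helper1.PiClasses
open scoped Pointwise

universe u

section Arith

/-- a proper divisor `h` of `k` satisfies `p * h ≤ k` if all prime factors of `k` are `≥ p` -/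
theorem idx_le {h k p : ℕ} (hd : h ∣ k) (hne : h ≠ k) (hk : 0 < k)
    (hp : ∀ l : ℕ, l.Prime → l ∣ k → p ≤ l) : p * h ≤ k := by
  obtain ⟨d, rfl⟩ := hd
  have hd1 : d ≠ 1 := by rintro rfl; exact hne (by simp)
  have hd0 : 0 < d := Nat.pos_of_ne_zero (by rintro rfl; simp at hk)
  obtain ⟨l, hl, hld⟩ := Nat.exists_prime_and_dvd hd1
  have h1 : p ≤ l := hp l hl (hld.trans (Dvd.intro_left _ rfl))
  have h2 : l ≤ d := Nat.le_of_dvd hd0 hld
  calc p * h ≤ d * h := Nat.mul_le_mul_right _ (h1.trans h2)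
    _ = h * d := Nat.mul_comm _ _

theorem card_idx_le {G : Type*} [Group G] [Finite G] {H K : Subgroup G} (hle : H ≤ K)
    (hne : H ≠ K) {p : ℕ} (hp : ∀ l : ℕ, l.Prime → l ∣ Nat.card K → p ≤ l) :
    p * Nat.card H ≤ Nat.card K := by
  refine idx_le (Subgroup.card_dvd_of_le hle) ?_ Nat.card_pos hp
  intro h
  exact hne (Subgroup.eq_of_le_of_card_ge hle h.ge)

theorem prime_dvd_piPart {τ : Finset ℕ} (hτ : ∀ s ∈ τ, s.Prime) {n l : ℕ} (hl : l.Prime)
    (h : l ∣ piPart τ n) : l ∈ τ := by
  unfold piPart at h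
  obtain ⟨s, hs, hls⟩ := (Prime.dvd_finsetProd_iff hl.prime _).mp h
  have := (Nat.prime_dvd_prime_iff_eq hl (hτ s hs)).mp (hl.dvd_of_dvd_pow hls)
  rw [this]; exact hs

end Arith

section Syl

variable {G : Type u} [Group G] [Finite G]

theorem exists_sylow_le (X : Subgroup G) {r : ℕ} (hr : r.Prime) :
    ∃ P : Subgroup G, P ≤ X ∧ Nat.card P = r ^ (Nat.card X).factorization r := by
  have : Fact r.Prime := ⟨hr⟩
  obtain ⟨P⟩ : Nonempty (Sylow r X) := inferInstance
  refine ⟨(P : Subgroup X).map X.subtype, Subgroup.map_subtype_le _, ?_⟩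
  rw [Subgroup.card_subtype]
  exact Sylow.card_eq_multiplicity P

theorem conj_into (X : Subgroup G) {r : ℕ} (hr : r.Prime) {P R : Subgroup G} (hP : P ≤ X)
    (hR : R ≤ X) (hPr : IsPGroup r P) (hRc : Nat.card R = r ^ (Nat.card X).factorization r) :
    ∃ g ∈ X, ∀ x ∈ P, g * x * g⁻¹ ∈ R := by
  have : Fact r.Prime := ⟨hr⟩
  have hR' : Nat.card (R.subgroupOf X) = r ^ (Nat.card X).factorization r := by
    rw [← hRc]
    exact Nat.card_congr (Subgroup.subgroupOfEquivOfLe hR).toEquiv
  let S : Sylow r X := Sylow.ofCard (R.subgroupOf X) hR'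
  have hP' : IsPGroup r (P.subgroupOf X) :=
    hPr.comap_of_injective X.subtype X.subtype_injective
  obtain ⟨Q, hQ⟩ := hP'.exists_le_sylow
  obtain ⟨g, hg⟩ := MulAction.exists_smul_eq X Q S
  refine ⟨g, g.2, fun x hx => ?_⟩
  have h1 : (⟨x, hP hx⟩ : X) ∈ (Q : Subgroup X) := hQ (Subgroup.mem_subgroupOf.mpr hx)
  have h2 : g * ⟨x, hP hx⟩ * g⁻¹ ∈ (S : Subgroup X) := by
    rw [← hg, Sylow.coe_subgroup_smul]
    have := Subgroup.smul_mem_pointwise_smul (⟨x, hP hx⟩ : X) (MulAut.conj g) (Q : Subgroup X) h1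
    simpa [MulAut.smul_def] using this
  have h3 : (S : Subgroup X) = R.subgroupOf X := rfl
  rw [h3, Subgroup.mem_subgroupOf] at h2
  simpa using h2

/-- conjugate subgroup -/
def cj (g : G) (H : Subgroup G) : Subgroup G := H.map (MulAut.conj g).toMonoidHom

omit [Finite G] in
theorem mem_cj {g : G} {H : Subgroup G} {x : G} : x ∈ cj g H ↔ ∃ y ∈ H, g * y * g⁻¹ = x := by
  unfold cj
  rw [Subgroup.mem_map]
  simp [MulAut.conj_apply]

omit [Finite G] in
theorem conj_mem_cj {g : G} {H : Subgroup G} {y : G} (hy : y ∈ H) : g * y * g⁻¹ ∈ cj g H :=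
  mem_cj.mpr ⟨y, hy, rfl⟩

omit [Finite G] in
theorem card_cj (g : G) (H : Subgroup G) : Nat.card (cj g H) = Nat.card H :=
  Subgroup.card_map_of_injective (MulAut.conj g).injective

end Syl

section Family

variable {G : Type u} [Group G]

/-- a family of pairwise commuting abelian subgroups of `X` of full prime power orders -/
structure Fam (τ : Finset ℕ) (X : Subgroup G) (R : ℕ → Subgroup G) : Prop where
  prime : ∀ s ∈ τ, s.Prime
  le : ∀ s ∈ τ, R s ≤ X
  card : ∀ s ∈ τ, Nat.card (R s) = s ^ (Nat.card X).factorization s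
  comm : ∀ s ∈ τ, ∀ t ∈ τ, ∀ x ∈ R s, ∀ y ∈ R t, x * y = y * x

theorem Fam.subset {τ σ : Finset ℕ} {X : Subgroup G} {R : ℕ → Subgroup G} (h : Fam τ X R)
    (hs : σ ⊆ τ) : Fam σ X R :=
  ⟨fun s hs' => h.prime s (hs hs'), fun s hs' => h.le s (hs hs'),
    fun s hs' => h.card s (hs hs'), fun s hs' t ht => h.comm s (hs hs') t (hs ht)⟩

theorem fact_eq [Finite G] {X1 X H : Subgroup G} {s : ℕ} (hs : s.Prime) (h1 : H ≤ X1)
    (h2 : X1 ≤ X) (hc : Nat.card H = s ^ (Nat.card X).factorization s) :
    (Nat.card X1).factorization s = (Nat.card X).factorization s := by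
  apply le_antisymm
  · exact (Nat.factorization_le_iff_dvd Nat.card_pos.ne' Nat.card_pos.ne').mpr
      (Subgroup.card_dvd_of_le h2) s
  · have hd : s ^ (Nat.card X).factorization s ∣ Nat.card X1 := hc ▸ Subgroup.card_dvd_of_le h1
    exact (hs.pow_dvd_iff_le_factorization Nat.card_pos.ne').mp hd

theorem Fam.mono [Finite G] {τ : Finset ℕ} {X X1 : Subgroup G} {R : ℕ → Subgroup G}
    (h : Fam τ X R) (hX : X1 ≤ X) (hle : ∀ s ∈ τ, R s ≤ X1) : Fam τ X1 R :=
  ⟨h.prime, hle, fun s hs => by
    rw [h.card s hs, fact_eq (h.prime s hs) (hle s hs) hX (h.card s hs)], h.comm⟩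

theorem Fam.conj {τ : Finset ℕ} {X : Subgroup G} {R : ℕ → Subgroup G} (h : Fam τ X R) {g : G}
    (hg : g ∈ X) : Fam τ X (fun s => cj g (R s)) := by
  refine ⟨h.prime, ?_, ?_, ?_⟩
  · intro s hs x hx
    obtain ⟨y, hy, rfl⟩ := mem_cj.mp hx
    exact X.mul_mem (X.mul_mem hg (h.le s hs hy)) (X.inv_mem hg)
  · intro s hs
    show Nat.card (cj g (R s)) = _
    rw [card_cj]; exact h.card s hs
  · intro s hs t ht x hx y hy
    obtain ⟨x', hx', rfl⟩ := mem_cj.mp hx
    obtain ⟨y', hy', rfl⟩ := mem_cj.mp hy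
    have := h.comm s hs t ht x' hx' y' hy'
    calc g * x' * g⁻¹ * (g * y' * g⁻¹) = g * (x' * y') * g⁻¹ := by group
      _ = g * (y' * x') * g⁻¹ := by rw [this]
      _ = g * y' * g⁻¹ * (g * x' * g⁻¹) := by group

theorem Fam.extend {σ : Finset ℕ} {X : Subgroup G} {R : ℕ → Subgroup G} (h : Fam σ X R)
    {r : ℕ} (hr : r.Prime) (P : Subgroup G) (hP : P ≤ X)
    (hc : Nat.card P = r ^ (Nat.card X).factorization r)
    (hab : ∀ x ∈ P, ∀ y ∈ P, x * y = y * x)
    (hcomm : ∀ s ∈ σ, s ≠ r → ∀ x ∈ P, ∀ y ∈ R s, x * y = y * x) :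
    Fam (insert r σ) X (fun s => if s = r then P else R s) := by
  refine ⟨?_, ?_, ?_, ?_⟩
  · intro s hs
    rcases Finset.mem_insert.mp hs with rfl | hs'
    · exact hr
    · exact h.prime s hs'
  · intro s hs
    by_cases hsr : s = r
    · simp only [hsr, if_true]; exact hP
    · simp only [hsr, if_false]
      exact h.le s ((Finset.mem_insert.mp hs).resolve_left hsr)
  · intro s hs
    by_cases hsr : s = r
    · simp only [hsr, if_true]; exact hc
    · simp only [hsr, if_false]
      exact h.card s ((Finset.mem_insert.mp hs).resolve_left hsr)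
  · intro s hs t ht x hx y hy
    by_cases hsr : s = r
    · by_cases htr : t = r
      · simp only [hsr, if_true] at hx
        simp only [htr, if_true] at hy
        exact hab x hx y hy
      · simp only [hsr, if_true] at hx
        simp only [htr, if_false] at hy
        exact hcomm t ((Finset.mem_insert.mp ht).resolve_left htr) htr x hx y hy
    · by_cases htr : t = r
      · simp only [hsr, if_false] at hx
        simp only [htr, if_true] at hy
        exact (hcomm s ((Finset.mem_insert.mp hs).resolve_left hsr) hsr y hy x hx).symm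
      · simp only [hsr, if_false] at hx
        simp only [htr, if_false] at hy
        exact h.comm s ((Finset.mem_insert.mp hs).resolve_left hsr) t
          ((Finset.mem_insert.mp ht).resolve_left htr) x hx y hy

/-- the subgroup generated by the family -/
def hull (τ : Finset ℕ) (R : ℕ → Subgroup G) : Subgroup G := ⨆ s ∈ τ, R s

theorem le_hull {τ : Finset ℕ} {R : ℕ → Subgroup G} {s : ℕ} (hs : s ∈ τ) : R s ≤ hull τ R :=
  le_biSup R hs

theorem hull_le {τ : Finset ℕ} {R : ℕ → Subgroup G} {K : Subgroup G} (h : ∀ s ∈ τ, R s ≤ K) :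
    hull τ R ≤ K := iSup₂_le h

theorem hull_mono {σ τ : Finset ℕ} (h : σ ⊆ τ) (R : ℕ → Subgroup G) : hull σ R ≤ hull τ R :=
  hull_le (fun _ hs => le_hull (h hs))

theorem Fam.hull_le_centralizer {τ : Finset ℕ} {X : Subgroup G} {R : ℕ → Subgroup G}
    (h : Fam τ X R) : hull τ R ≤ Subgroup.centralizer (hull τ R : Set G) := by
  have h1 : ∀ s ∈ τ, hull τ R ≤ Subgroup.centralizer (R s : Set G) := by
    intro s hs
    apply hull_le
    intro t ht y hy
    rw [Subgroup.mem_centralizer_iff]
    intro x hx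
    exact h.comm s hs t ht x hx y hy
  apply hull_le
  intro s hs
  exact Subgroup.le_centralizer_iff.mp (h1 s hs)

theorem Fam.hull_comm {τ : Finset ℕ} {X : Subgroup G} {R : ℕ → Subgroup G} (h : Fam τ X R)
    {x y : G} (hx : x ∈ hull τ R) (hy : y ∈ hull τ R) : x * y = y * x :=
  Subgroup.mem_centralizer_iff.mp (h.hull_le_centralizer hy) x hx

theorem Fam.card_hull [Finite G] {τ : Finset ℕ} {X : Subgroup G} {R : ℕ → Subgroup G}
    (h : Fam τ X R) : Nat.card (hull τ R) = piPart τ (Nat.card X) := by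
  classical
  have hcomm : Pairwise fun i j : τ => ∀ x y : G, x ∈ R i → y ∈ R j → Commute x y := by
    intro i j _ x y hx hy
    exact h.comm i i.2 j j.2 x hx y hy
  have hF : ∀ i : τ, Fintype (R (i : ℕ)) := fun i => Fintype.ofFinite _
  have hcop : Pairwise fun i j : τ =>
      Nat.Coprime (Fintype.card (R (i : ℕ))) (Fintype.card (R (j : ℕ))) := by
    intro i j hij
    rw [← Nat.card_eq_fintype_card, ← Nat.card_eq_fintype_card, h.card i i.2, h.card j j.2]
    apply Nat.Coprime.pow
    exact (Nat.coprime_primes (h.prime i i.2) (h.prime j j.2)).mpr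
      (fun e => hij (Subtype.ext e))
  have hind := Subgroup.independent_of_coprime_order hcomm hcop
  have hinj := Subgroup.injective_noncommPiCoprod_of_iSupIndep (hcomm := hcomm) hind
  have hrange : (Subgroup.noncommPiCoprod hcomm).range = hull τ R := by
    rw [Subgroup.noncommPiCoprod_range]
    unfold hull
    rw [iSup_subtype']
  rw [← hrange, Nat.card_congr (MonoidHom.ofInjective hinj).symm.toEquiv, Nat.card_pi]
  unfold piPart
  rw [← Finset.prod_coe_sort τ (fun q => q ^ (Nat.card X).factorization q)]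
  apply Finset.prod_congr rfl
  intro i _
  exact h.card i i.2

theorem Fam.isPiElt_hull [Finite G] {τ : Finset ℕ} {X : Subgroup G} {R : ℕ → Subgroup G}
    (h : Fam τ X R) {y : G} (hy : y ∈ hull τ R) : IsPiElt (↑τ) y := by
  intro l hl hd
  have h1 : orderOf y ∣ Nat.card (hull τ R) := by
    have := orderOf_dvd_natCard (⟨y, hy⟩ : hull τ R)
    rwa [Subgroup.orderOf_mk] at this
  rw [h.card_hull] at h1
  exact prime_dvd_piPart h.prime hl (hd.trans h1)

/-- two families are simultaneously conjugate -/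
theorem fam_conj [Finite G] (τ : Finset ℕ) : ∀ (X : Subgroup G) (R R' : ℕ → Subgroup G),
    Fam τ X R → Fam τ X R' → ∃ g ∈ X, ∀ s ∈ τ, ∀ x ∈ R s, g * x * g⁻¹ ∈ R' s := by
  induction τ using Finset.induction_on with
  | empty =>
    intro X R R' _ _
    exact ⟨1, X.one_mem, fun s hs => absurd hs (Finset.notMem_empty s)⟩
  | insert r σ hr ih =>
    intro X R R' hR hR'
    have hrm : r ∈ insert r σ := Finset.mem_insert_self r σ
    have hσ : σ ⊆ insert r σ := Finset.subset_insert r σ
    have hrp := hR.prime r hrm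
    obtain ⟨g, hg, hgR⟩ := conj_into X hrp (hR.le r hrm) (hR'.le r hrm)
      (IsPGroup.of_card (hR.card r hrm)) (hR'.card r hrm)
    have hR1 := hR.conj hg
    have heq : cj g (R r) = R' r := by
      apply Subgroup.eq_of_le_of_card_ge
      · intro x hx
        obtain ⟨y, hy, rfl⟩ := mem_cj.mp hx
        exact hgR y hy
      · rw [card_cj, hR.card r hrm, hR'.card r hrm]
    have hA : Fam σ (X ⊓ Subgroup.centralizer (R' r : Set G)) (fun s => cj g (R s)) := by
      refine (hR1.subset hσ).mono inf_le_left ?_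
      intro s hs
      refine le_inf (hR1.le s (hσ hs)) ?_
      intro x hx
      rw [Subgroup.mem_centralizer_iff]
      intro z hz
      rw [← heq] at hz
      exact hR1.comm r hrm s (hσ hs) z hz x hx
    have hB : Fam σ (X ⊓ Subgroup.centralizer (R' r : Set G)) R' := by
      refine (hR'.subset hσ).mono inf_le_left ?_
      intro s hs
      refine le_inf (hR'.le s (hσ hs)) ?_
      intro x hx
      rw [Subgroup.mem_centralizer_iff]
      intro z hz
      exact hR'.comm r hrm s (hσ hs) z hz x hx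
    obtain ⟨h, hh, hhR⟩ := ih _ _ R' hA hB
    refine ⟨h * g, X.mul_mem hh.1 hg, ?_⟩
    intro s hs x hx
    have e : h * g * x * (h * g)⁻¹ = h * (g * x * g⁻¹) * h⁻¹ := by group
    rw [e]
    by_cases hsr : s = r
    · rw [hsr] at hx ⊢
      have h1 : g * x * g⁻¹ ∈ R' r := hgR x hx
      have h2 := Subgroup.mem_centralizer_iff.mp hh.2 _ h1
      rw [← h2]
      simpa using h1
    · exact hhR s ((Finset.mem_insert.mp hs).resolve_left hsr) _ (conj_mem_cj hx)

/-- every τ-element is conjugate into the hull -/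
theorem fam_cover [Finite G] (τ : Finset ℕ) : ∀ (X : Subgroup G) (R : ℕ → Subgroup G),
    Fam τ X R → ∀ y ∈ X, IsPiElt (↑τ) y → ∃ g ∈ X, g * y * g⁻¹ ∈ hull τ R := by
  induction τ using Finset.induction_on with
  | empty =>
    intro X R _ y hy hpi
    rw [Finset.coe_empty, isPiElt_empty_iff] at hpi
    subst hpi
    exact ⟨1, X.one_mem, by simp⟩
  | insert r σ hr ih =>
    intro X R hR y hy hpi
    have hrm : r ∈ insert r σ := Finset.mem_insert_self r σ
    have hσ : σ ⊆ insert r σ := Finset.subset_insert r σ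
    have hrp := hR.prime r hrm
    rw [Finset.coe_insert] at hpi
    have hpi' : IsPiElt (insert r (↑σ : Set ℕ)) (⟨y, hy⟩ : X) := isPiElt_coe.mp hpi
    obtain ⟨u, y', hc, hxe, hu, hy'⟩ := exists_decomp hrp hpi'
    obtain ⟨k, hk⟩ := (isPiElt_singleton_iff hrp).mp hu
    have hPr : IsPGroup r (Subgroup.zpowers (u : G)) := by
      apply IsPGroup.of_card (n := k)
      rw [Nat.card_zpowers, Subgroup.orderOf_coe, hk]
    have hPle : Subgroup.zpowers (u : G) ≤ X := by
      rw [Subgroup.zpowers_le]; exact u.2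
    obtain ⟨g, hg, hgR⟩ := conj_into X hrp hPle (hR.le r hrm) hPr (hR.card r hrm)
    have hu1 : g * (u : G) * g⁻¹ ∈ R r := hgR _ (Subgroup.mem_zpowers _)
    have hy1X : g * (y' : G) * g⁻¹ ∈ X := X.mul_mem (X.mul_mem hg y'.2) (X.inv_mem hg)
    have hc' : (u : G) * (y' : G) = (y' : G) * (u : G) := by
      have := congrArg Subtype.val hc.eq
      simpa using this
    have hcomm1 : g * (u : G) * g⁻¹ * (g * (y' : G) * g⁻¹)
        = g * (y' : G) * g⁻¹ * (g * (u : G) * g⁻¹) := by
      calc g * (u : G) * g⁻¹ * (g * (y' : G) * g⁻¹) = g * ((u : G) * (y' : G)) * g⁻¹ := by group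
        _ = g * ((y' : G) * (u : G)) * g⁻¹ := by rw [hc']
        _ = g * (y' : G) * g⁻¹ * (g * (u : G) * g⁻¹) := by group
    have hA : Fam σ (X ⊓ Subgroup.centralizer ({g * (u : G) * g⁻¹} : Set G)) R := by
      refine (hR.subset hσ).mono inf_le_left ?_
      intro s hs
      refine le_inf (hR.le s (hσ hs)) ?_
      intro x hx
      rw [Subgroup.mem_centralizer_iff]
      intro z hz
      rw [Set.mem_singleton_iff] at hz
      rw [hz]
      exact hR.comm r hrm s (hσ hs) _ hu1 x hx
    have hy1X1 : g * (y' : G) * g⁻¹ ∈ X ⊓ Subgroup.centralizer ({g * (u : G) * g⁻¹} : Set G) := by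
      refine Subgroup.mem_inf.mpr ⟨hy1X, ?_⟩
      rw [Subgroup.mem_centralizer_iff]
      intro z hz
      rw [Set.mem_singleton_iff] at hz
      rw [hz]; exact hcomm1
    have hy1pi : IsPiElt (↑σ) (g * (y' : G) * g⁻¹) := isPiElt_conj g (isPiElt_coe.mpr hy')
    obtain ⟨h, hh, hhy⟩ := ih _ R hA _ hy1X1 hy1pi
    refine ⟨h * g, X.mul_mem hh.1 hg, ?_⟩
    have hye : y = (u : G) * (y' : G) := by
      have := congrArg Subtype.val hxe
      simpa using this
    have hhu : g * (u : G) * g⁻¹ * h = h * (g * (u : G) * g⁻¹) :=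
      Subgroup.mem_centralizer_iff.mp hh.2 _ (Set.mem_singleton _)
    have e : h * g * y * (h * g)⁻¹ = g * (u : G) * g⁻¹ * (h * (g * (y' : G) * g⁻¹) * h⁻¹) := by
      rw [hye]
      calc h * g * ((u : G) * (y' : G)) * (h * g)⁻¹
          = h * (g * (u : G) * g⁻¹) * (g * (y' : G) * g⁻¹) * h⁻¹ := by group
        _ = g * (u : G) * g⁻¹ * h * (g * (y' : G) * g⁻¹) * h⁻¹ := by rw [hhu]
        _ = g * (u : G) * g⁻¹ * (h * (g * (y' : G) * g⁻¹) * h⁻¹) := by group
    rw [e]
    exact (hull (insert r σ) R).mul_mem (le_hull hrm hu1) (hull_mono hσ R hhy)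

end Family

section Orbit

variable {Γ : Type*} [Group Γ] [Fintype Γ] {X : Type*}

open scoped Classical in
/-- number of elements of `N` fixing `x` -/
noncomputable def stc (N : Subgroup Γ) (act : Γ → X → X) (x : X) : ℕ :=
  (Finset.univ.filter (fun g : Γ => g ∈ N ∧ act g x = x)).card

open scoped Classical in
/-- the elements of a subgroup as a finset -/
noncomputable def elts (N : Subgroup Γ) : Finset Γ := Finset.univ.filter (fun g => g ∈ N)

theorem mem_elts {N : Subgroup Γ} {g : Γ} : g ∈ elts N ↔ g ∈ N := by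
  simp [elts]

theorem card_elts (N : Subgroup Γ) : (elts N).card = Nat.card N :=
  (Nat.subtype_card (elts N) (fun _ => mem_elts)).symm

open scoped Classical in
theorem orbit_weighted {ι : Type*} [Fintype ι] (N : Subgroup Γ) (act : Γ → X → X)
    (ho : ∀ x, act 1 x = x) (hm : ∀ g h x, act (g * h) x = act g (act h x))
    (S : Finset X) (W : X → ℕ) (pts : ι → X)
    (hW : ∀ i, ∀ g ∈ N, W (act g (pts i)) = W (pts i))
    (hS : ∀ i, ∀ g ∈ N, act g (pts i) ∈ S)
    (hpts : ∀ i j, ∀ g ∈ N, act g (pts i) = pts j → i = j) :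
    (∑ i, W (pts i)) * Nat.card N ≤ ∑ x ∈ S, W x * stc N act x := by
  set dom : Finset (ι × Γ) := Finset.univ ×ˢ elts N with hdom
  set φ : ι × Γ → X := fun t => act t.2 (pts t.1) with hφ
  have hmemN : ∀ t ∈ dom, t.2 ∈ N := by
    intro t ht
    rw [hdom, Finset.mem_product] at ht
    exact mem_elts.mp ht.2
  have hmaps : ∀ t ∈ dom, φ t ∈ S := fun t ht => hS t.1 t.2 (hmemN t ht)
  have h1 : ∑ t ∈ dom, W (pts t.1) = (∑ i, W (pts i)) * Nat.card N := by
    rw [hdom, Finset.sum_product]
    simp only [Finset.sum_const, smul_eq_mul, card_elts]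
    rw [Finset.sum_mul]
    apply Finset.sum_congr rfl
    intro i _
    ring
  have h2 : ∑ t ∈ dom, W (pts t.1) = ∑ t ∈ dom, W (φ t) := by
    apply Finset.sum_congr rfl
    intro t ht
    exact (hW t.1 t.2 (hmemN t ht)).symm
  rw [← h1, h2, ← Finset.sum_fiberwise_of_maps_to hmaps]
  apply Finset.sum_le_sum
  intro x hx
  have h3 : ∑ t ∈ dom.filter (fun t => φ t = x), W (φ t)
      = (dom.filter (fun t => φ t = x)).card * W x := by
    rw [Finset.sum_congr rfl (fun t ht => by rw [(Finset.mem_filter.mp ht).2] :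
      ∀ t ∈ dom.filter (fun t => φ t = x), W (φ t) = W x)]
    rw [Finset.sum_const, smul_eq_mul]
  rw [h3, mul_comm]
  apply Nat.mul_le_mul_left
  rcases (dom.filter (fun t => φ t = x)).eq_empty_or_nonempty with he | ⟨t0, ht0⟩
  · rw [he]; simp
  · have ht0' := Finset.mem_filter.mp ht0
    have ht0N : t0.2 ∈ N := hmemN t0 ht0'.1
    have e2 : act t0.2 (pts t0.1) = x := ht0'.2
    have e3 : act t0.2⁻¹ x = pts t0.1 := by rw [← e2, ← hm, inv_mul_cancel, ho]
    have key : ∀ t ∈ dom.filter (fun t => φ t = x), t.1 = t0.1 := by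
      intro t ht
      have ht' := Finset.mem_filter.mp ht
      have htN : t.2 ∈ N := hmemN t ht'.1
      have e1 : act t.2 (pts t.1) = x := ht'.2
      apply hpts t.1 t0.1 (t0.2⁻¹ * t.2) (N.mul_mem (N.inv_mem ht0N) htN)
      rw [hm, e1, e3]
    unfold stc
    apply Finset.card_le_card_of_injOn (fun t => t.2 * t0.2⁻¹)
    · intro t ht
      have ht1 := Finset.mem_coe.mp ht
      have ht' := Finset.mem_filter.mp ht1
      have htN : t.2 ∈ N := hmemN t ht'.1
      have e1 : act t.2 (pts t.1) = x := ht'.2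
      apply Finset.mem_coe.mpr
      apply Finset.mem_filter.mpr
      refine ⟨Finset.mem_univ _, N.mul_mem htN (N.inv_mem ht0N), ?_⟩
      rw [hm, e3, ← key t ht1, e1]
    · intro t ht t' ht' hEq
      have ht1 := Finset.mem_coe.mp ht
      have ht1' := Finset.mem_coe.mp ht'
      have hEq' : t.2 = t'.2 := mul_right_cancel hEq
      exact Prod.ext ((key t ht1).trans (key t' ht1').symm) hEq'

open scoped Classical in
theorem orbit_image_le {Y : Type*} [DecidableEq Y] (N : Subgroup Γ) (act : Γ → X → X)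
    (ho : ∀ x, act 1 x = x) (hm : ∀ g h x, act (g * h) x = act g (act h x))
    (S : Finset X) (Φ : X → Y)
    (hS : ∀ x ∈ S, ∀ g ∈ N, act g x ∈ S) (hΦ : ∀ x ∈ S, ∀ g ∈ N, Φ (act g x) = Φ x) :
    (S.image Φ).card * Nat.card N ≤ ∑ x ∈ S, stc N act x := by
  have hex : ∀ i : (S.image Φ), ∃ x ∈ S, Φ x = i.1 := fun i => Finset.mem_image.mp i.2
  choose pts hptsS hptsΦ using hex
  have := orbit_weighted N act ho hm S (fun _ => 1) pts (fun _ _ _ => rfl)
    (fun i g hg => hS _ (hptsS i) g hg)
    (fun i j g hg h => by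
      apply Subtype.ext
      rw [← hptsΦ i, ← hptsΦ j, ← h, hΦ _ (hptsS i) g hg])
  simpa using this

open scoped Classical in
theorem orbit_sum_le {Y : Type*} [DecidableEq Y] (N : Subgroup Γ) (act : Γ → X → X)
    (hm : ∀ g h x, act (g * h) x = act g (act h x))
    (S : Finset X) (Φ : X → Y)
    (hΦ : ∀ x ∈ S, ∀ x' ∈ S, Φ x = Φ x' → ∃ g ∈ N, act g x = x') :
    ∑ x ∈ S, stc N act x ≤ (S.image Φ).card * Nat.card N := by
  have hfib := Finset.sum_fiberwise_of_maps_to (g := Φ) (t := S.image Φ) (s := S)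
    (fun x hx => Finset.mem_image_of_mem Φ hx) (fun x => stc N act x)
  rw [← hfib, ← smul_eq_mul, ← Finset.sum_const]
  apply Finset.sum_le_sum
  intro c hc
  obtain ⟨x0, hx0, rfl⟩ := Finset.mem_image.mp hc
  have hex : ∀ x ∈ S.filter (fun x => Φ x = Φ x0), ∃ g ∈ N, act g x0 = x := by
    intro x hx
    have hx' := Finset.mem_filter.mp hx
    exact hΦ x0 hx0 x hx'.1 hx'.2.symm
  choose! gx hgxN hgx using hex
  have hle : ∀ x ∈ S.filter (fun x => Φ x = Φ x0),
      stc N act x ≤ ((elts N).filter (fun g => act g x0 = x)).card := by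
    intro x hx
    unfold stc
    apply Finset.card_le_card_of_injOn (fun n => n * gx x)
    · intro n hn
      have hn' := (Finset.mem_filter.mp (Finset.mem_coe.mp hn)).2
      apply Finset.mem_coe.mpr
      apply Finset.mem_filter.mpr
      refine ⟨mem_elts.mpr (N.mul_mem hn'.1 (hgxN x hx)), ?_⟩
      rw [hm, hgx x hx, hn'.2]
    · intro n _ n' _ h
      exact mul_right_cancel h
  calc ∑ x ∈ S.filter (fun x => Φ x = Φ x0), stc N act x
      ≤ ∑ x ∈ S.filter (fun x => Φ x = Φ x0), ((elts N).filter (fun g => act g x0 = x)).card :=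
        Finset.sum_le_sum hle
    _ = ((S.filter (fun x => Φ x = Φ x0)).biUnion
          (fun x => (elts N).filter (fun g => act g x0 = x))).card := by
        rw [Finset.card_biUnion]
        intro x _ x' _ hne
        rw [Function.onFun, Finset.disjoint_left]
        intro g hg hg'
        have e1 := (Finset.mem_filter.mp hg).2
        have e2 := (Finset.mem_filter.mp hg').2
        exact hne (e1.symm.trans e2)
    _ ≤ (elts N).card := by
        apply Finset.card_le_card
        intro g hg
        obtain ⟨x, _, hgx'⟩ := Finset.mem_biUnion.mp hg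
        exact (Finset.mem_filter.mp hgx').1
    _ = Nat.card N := card_elts N

end Orbit

section ClassCount

/-- a `q`-group with many classes is abelian -/
theorem comm_of_many_classes {Q : Type*} [Group Q] [Finite Q] {q p : ℕ} (hq : q.Prime)
    (hp : 1 ≤ p) (hpq : p ≤ q) (hQ : IsPGroup q Q)
    (h : Nat.card Q * (p ^ 2 + p - 1) < p ^ 3 * Nat.card (ConjClasses Q)) :
    ∀ x y : Q, x * y = y * x := by
  classical
  by_contra hcon
  push Not at hcon
  obtain ⟨x0, y0, hxy⟩ := hcon
  have : Fintype Q := Fintype.ofFinite Q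
  have : Fact q.Prime := ⟨hq⟩
  obtain ⟨n, hn⟩ := IsPGroup.iff_card.mp hQ
  have hi : q ^ 2 * Nat.card (Subgroup.center Q) ≤ Nat.card Q := by
    have hidx : Nat.card (Subgroup.center Q) * (Subgroup.center Q).index = Nat.card Q :=
      Subgroup.card_mul_index _
    obtain ⟨j, hj⟩ : ∃ j, (Subgroup.center Q).index = q ^ j := by
      have h1 : (Subgroup.center Q).index ∣ q ^ n := hn ▸ Subgroup.index_dvd_card _
      obtain ⟨j, _, hj⟩ := (Nat.dvd_prime_pow hq).mp h1
      exact ⟨j, hj⟩
    have hj2 : 2 ≤ j := by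
      by_contra hlt
      have hc : Nat.card (Q ⧸ Subgroup.center Q) = q ^ j := by rw [← hj]; rfl
      have hcyc : IsCyclic (Q ⧸ Subgroup.center Q) := by
        interval_cases j
        · have : Subsingleton (Q ⧸ Subgroup.center Q) :=
            (Nat.card_eq_one_iff_unique.mp (by simpa using hc)).1
          infer_instance
        · exact isCyclic_of_prime_card (p := q) (by simpa using hc)
      have := MonoidHom.isMulCommutative_of_isCyclic_of_ker_le_center
        (QuotientGroup.mk' (Subgroup.center Q)) (by rw [QuotientGroup.ker_mk'])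
      exact hxy (this.is_comm.comm x0 y0)
    rw [← hidx, hj]
    calc q ^ 2 * Nat.card (Subgroup.center Q) ≤ q ^ j * Nat.card (Subgroup.center Q) :=
          Nat.mul_le_mul_right _ (Nat.pow_le_pow_right hq.pos hj2)
      _ = Nat.card (Subgroup.center Q) * q ^ j := Nat.mul_comm _ _
  have hii : ∀ a : Q, a ∉ Subgroup.center Q →
      q * Nat.card {b : Q // Commute a b} ≤ Nat.card Q := by
    intro a ha
    have e : Nat.card {b : Q // Commute a b} = Nat.card (Subgroup.centralizer ({a} : Set Q)) := by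
      apply Nat.card_congr
      apply Equiv.subtypeEquivRight
      intro b
      rw [Subgroup.mem_centralizer_iff]
      constructor
      · intro hc z hz
        rw [Set.mem_singleton_iff] at hz
        rw [hz]; exact hc.eq
      · intro hc; exact hc a (Set.mem_singleton a)
    rw [e, ← Subgroup.card_top (G := Q)]
    apply card_idx_le le_top
    · intro htop
      apply ha
      rw [Subgroup.mem_center_iff]
      intro g
      have : g ∈ Subgroup.centralizer ({a} : Set Q) := by rw [htop]; exact Subgroup.mem_top g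
      exact (Subgroup.mem_centralizer_iff.mp this a (Set.mem_singleton a)).symm
    · intro l hl hld
      rw [Subgroup.card_top, hn] at hld
      exact Nat.le_of_eq ((Nat.prime_dvd_prime_iff_eq hl hq).mp (hl.dvd_of_dvd_pow hld)).symm
  have hcnt : Nat.card (ConjClasses Q) * Nat.card Q = ∑ a : Q, Nat.card {b : Q // Commute a b} := by
    rw [← card_comm_eq_card_conjClasses_mul_card,
      Nat.card_congr (Equiv.subtypeProdEquivSigmaSubtype Commute), Nat.card_sigma]
  have hNpos : 0 < Nat.card Q := Nat.card_pos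
  have hzc : (Finset.univ.filter (fun a : Q => a ∈ Subgroup.center Q)).card
      = Nat.card (Subgroup.center Q) :=
    (Nat.subtype_card _ (fun x => by simp)).symm
  have hzw : (Finset.univ.filter (fun a : Q => a ∈ Subgroup.center Q)).card
      + (Finset.univ.filter (fun a : Q => ¬ a ∈ Subgroup.center Q)).card = Nat.card Q := by
    rw [Finset.card_filter_add_card_filter_not, Finset.card_univ, Nat.card_eq_fintype_card]
  generalize hk : Nat.card (ConjClasses Q) = k at h hcnt
  generalize hN : Nat.card Q = N at h hcnt hNpos hzw hi hii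
  generalize hz : Nat.card (Subgroup.center Q) = z at hi hzc
  generalize hw : (Finset.univ.filter (fun a : Q => ¬ a ∈ Subgroup.center Q)).card = w at hzw
  rw [hzc] at hzw
  have hsum : q * (k * N) ≤ (q * z + w) * N := by
    rw [hcnt, Finset.mul_sum]
    calc ∑ a : Q, q * Nat.card {b : Q // Commute a b}
        ≤ ∑ a : Q, (if a ∈ Subgroup.center Q then q * N else N) := by
          apply Finset.sum_le_sum
          intro a _
          split_ifs with ha
          · apply Nat.mul_le_mul_left
            rw [← hN]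
            exact Nat.card_le_card_of_injective Subtype.val Subtype.val_injective
          · exact hii a ha
      _ = (q * z + w) * N := by
          rw [Finset.sum_ite, Finset.sum_const, Finset.sum_const, hzc, hw, smul_eq_mul,
            smul_eq_mul]
          ring
  have h1 : q * k ≤ q * z + w := by
    have : q * k * N ≤ (q * z + w) * N := by rw [mul_assoc]; exact hsum
    exact Nat.le_of_mul_le_mul_right this hNpos
  have h2 : p * k ≤ p * z + w := by
    have h3 : q * (p * k) ≤ q * (p * z + w) := by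
      calc q * (p * k) = p * (q * k) := by ring
        _ ≤ p * (q * z + w) := Nat.mul_le_mul_left _ h1
        _ = q * (p * z) + p * w := by ring
        _ ≤ q * (p * z) + q * w := Nat.add_le_add_left (Nat.mul_le_mul_right _ hpq) _
        _ = q * (p * z + w) := by ring
    exact Nat.le_of_mul_le_mul_left h3 hq.pos
  have h3 : p ^ 2 * z ≤ N := le_trans (Nat.mul_le_mul_right _ (Nat.pow_le_pow_left hpq 2)) hi
  obtain ⟨e, rfl⟩ : ∃ e, p = e + 1 := ⟨p - 1, by omega⟩
  have hF : (e + 1) ^ 2 + (e + 1) - 1 = (e + 1) ^ 2 + e := by omega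
  rw [hF] at h
  have h4 : (e + 1) ^ 3 * k ≤ N * ((e + 1) ^ 2 + e) := by
    calc (e + 1) ^ 3 * k = (e + 1) ^ 2 * ((e + 1) * k) := by ring
      _ ≤ (e + 1) ^ 2 * ((e + 1) * z + w) := Nat.mul_le_mul_left _ h2
      _ = ((e + 1) ^ 2 * z) * e + (e + 1) ^ 2 * (z + w) := by ring
      _ ≤ N * e + (e + 1) ^ 2 * N := by
          rw [hzw]; exact Nat.add_le_add_right (Nat.mul_le_mul_right _ h3) _
      _ = N * ((e + 1) ^ 2 + e) := by ring
  exact absurd h (not_lt.mpr h4)

end ClassCount

section Cover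

variable {G : Type u} [Group G]

/-- classes of the form `v * z` with `z` a β-element centralizing `v` -/
def Tset (β : Set ℕ) (v : G) : Set (ConjClasses G) :=
  {C | ∃ z, z ∈ Subgroup.centralizer ({v} : Set G) ∧ IsPiElt β z ∧ C = ConjClasses.mk (v * z)}

theorem ncard_Tset_le [Finite G] (β : Set ℕ) (v : G) :
    (Tset β v).ncard ≤ kpi β (Subgroup.centralizer ({v} : Set G)) := by
  classical
  choose rep hrep hrep' using (exists_rep (π := β) (G := Subgroup.centralizer ({v} : Set G)))
  let f : PiCls β (Subgroup.centralizer ({v} : Set G)) → ConjClasses G :=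
    fun d => ConjClasses.mk (v * (rep d : G))
  have hsub : Tset β v ⊆ Set.range f := by
    rintro C ⟨z, hz, hzpi, rfl⟩
    have hz' : IsPiElt β (⟨z, hz⟩ : Subgroup.centralizer ({v} : Set G)) := isPiElt_coe.mp hzpi
    obtain ⟨h, hh⟩ := (mkPi_eq_iff hz' (hrep (mkPi _ hz'))).mp (hrep' (mkPi _ hz')).symm
    refine ⟨mkPi _ hz', ?_⟩
    show ConjClasses.mk (v * (rep (mkPi _ hz') : G)) = ConjClasses.mk (v * z)
    rw [eq_comm, ConjClasses.mk_eq_mk_iff_isConj, isConj_iff]
    refine ⟨(h : G), ?_⟩
    have hh' : (h : G) * z * (h : G)⁻¹ = (rep (mkPi _ hz') : G) := by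
      have := congrArg Subtype.val hh
      simpa using this
    have hch : v * (h : G) = (h : G) * v :=
      Subgroup.mem_centralizer_iff.mp h.2 v (Set.mem_singleton v)
    rw [← hh']
    calc (h : G) * (v * z) * (h : G)⁻¹ = (h : G) * v * z * (h : G)⁻¹ := by group
      _ = v * (h : G) * z * (h : G)⁻¹ := by rw [hch]
      _ = v * ((h : G) * z * (h : G)⁻¹) := by group
  calc (Tset β v).ncard ≤ (Set.range f).ncard := Set.ncard_le_ncard hsub (Set.toFinite _)
    _ ≤ Nat.card (PiCls β (Subgroup.centralizer ({v} : Set G))) := by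
        rw [← Set.image_univ]
        exact (Set.ncard_image_le (Set.toFinite _)).trans (by rw [Set.ncard_univ])

theorem mem_Tset {β : Set ℕ} {u y v g : G} (hc : u * y = y * u) (hy : IsPiElt β y)
    (hg : g * u * g⁻¹ = v) : ConjClasses.mk (u * y) ∈ Tset β v := by
  refine ⟨g * y * g⁻¹, ?_, isPiElt_conj g hy, ?_⟩
  · rw [Subgroup.mem_centralizer_iff]
    intro z hz
    rw [Set.mem_singleton_iff] at hz
    rw [hz, ← hg]
    calc g * u * g⁻¹ * (g * y * g⁻¹) = g * (u * y) * g⁻¹ := by group
      _ = g * (y * u) * g⁻¹ := by rw [hc]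
      _ = g * y * g⁻¹ * (g * u * g⁻¹) := by group
  · rw [ConjClasses.mk_eq_mk_iff_isConj, isConj_iff]
    exact ⟨g, by rw [← hg]; group⟩

theorem kpi_eq_ncard (π : Set ℕ) :
    kpi π G = {C : ConjClasses G | ∀ x ∈ C.carrier, IsPiElt π x}.ncard :=
  Nat.card_coe_set_eq _

/-- classes of `insert r σ`-elements, σ-part first -/
theorem kpi_le_sum_Tset [Finite G] (σ : Set ℕ) {r : ℕ} (hr : r.Prime) [Fintype (PiCls σ G)]
    (rep : PiCls σ G → G) (hrep : ∀ c, ∃ h : IsPiElt σ (rep c), mkPi (rep c) h = c) :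
    kpi (insert r σ) G ≤ ∑ c, (Tset {r} (rep c)).ncard := by
  rw [kpi_eq_ncard]
  refine le_trans (Set.ncard_le_ncard ?_ (Set.toFinite _)) (Set.ncard_iUnion_le_of_fintype _)
  intro C hC
  obtain ⟨x, rfl⟩ := ConjClasses.exists_rep C
  have hx : IsPiElt (insert r σ) x := hC x ConjClasses.mem_carrier_mk
  obtain ⟨u, y, huy, rfl, hu, hy⟩ := exists_decomp hr hx
  obtain ⟨hh, hc⟩ := hrep (mkPi y hy)
  obtain ⟨g, hg⟩ := (mkPi_eq_iff hy hh).mp hc.symm
  rw [Set.mem_iUnion]
  refine ⟨mkPi y hy, ?_⟩
  have h1 := mem_Tset (β := ({r} : Set ℕ)) huy.symm.eq hu hg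
  rwa [← huy.eq] at h1

theorem kpi_insert_le' [Finite G] (σ : Set ℕ) {r : ℕ} (hr : r.Prime) :
    kpi (insert r σ) G ≤ kpi σ G * r ^ (Nat.card G).factorization r := by
  classical
  let _ : Fintype (PiCls σ G) := Fintype.ofFinite _
  choose rep hrep hrep' using (exists_rep (π := σ) (G := G))
  refine (kpi_le_sum_Tset σ hr rep (fun c => ⟨hrep c, hrep' c⟩)).trans ?_
  calc ∑ c : PiCls σ G, (Tset {r} (rep c)).ncard
      ≤ ∑ _c : PiCls σ G, r ^ (Nat.card G).factorization r := by
        apply Finset.sum_le_sum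
        intro c _
        refine (ncard_Tset_le _ _).trans ((kpi_prime_le hr).trans ?_)
        exact Nat.pow_le_pow_right hr.pos
          ((Nat.factorization_le_iff_dvd Nat.card_pos.ne' Nat.card_pos.ne').mpr
            (Subgroup.card_subgroup_dvd_card _) r)
    _ = kpi σ G * r ^ (Nat.card G).factorization r := by
        rw [Finset.sum_const, Finset.card_univ, smul_eq_mul, kpi, ← Nat.card_eq_fintype_card]

end Cover

end Cfsg.Agent.Lib.Helper30.PiHall
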