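import Mathlib
import Cfsg.Agent.Lib.Helper1.PiClasses
import Cfsg.Agent.Lib.Helper30.PiHall

set_option autoImplicit false

/-!
# Abelian Hall subgroups from many π-classes: the normal complement case

`NR σ R`, `DR σ R`: the common normalizer and centralizer of a family.
`frattini_val`: a Frattini argument for a family inside a normal `r'`-subgroup.
`caseA`: if `G` has a normal `r`-complement containing a commuting family for `τ \ {r}`, and
`G` has many classes of τ-elements, then the family extends to `τ`.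
-/

namespace Cfsg.Agent.Lib.Helper30.PiHall

open Cfsg.Agent.Lib.Helper1.PiClasses

universe u

section Norm

variable {G : Type u} [Group G]

/-- the common normalizer of the family -/
def NR (σ : Finset ℕ) (R : ℕ → Subgroup G) : Subgroup G :=
  ⨅ s ∈ σ, Subgroup.normalizer (R s : Set G)

/-- the common centralizer of the family -/
def DR (σ : Finset ℕ) (R : ℕ → Subgroup G) : Subgroup G :=
  ⨅ s ∈ σ, Subgroup.centralizer (R s : Set G)

theorem mem_NR {σ : Finset ℕ} {R : ℕ → Subgroup G} {n : G} :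
    n ∈ NR σ R ↔ ∀ s ∈ σ, n ∈ Subgroup.normalizer (R s : Set G) := by
  simp [NR, Subgroup.mem_iInf]

theorem mem_DR {σ : Finset ℕ} {R : ℕ → Subgroup G} {n : G} :
    n ∈ DR σ R ↔ ∀ s ∈ σ, n ∈ Subgroup.centralizer (R s : Set G) := by
  simp [DR, Subgroup.mem_iInf]

theorem DR_le_NR (σ : Finset ℕ) (R : ℕ → Subgroup G) : DR σ R ≤ NR σ R := by
  intro n hn
  rw [mem_NR]
  intro s hs
  exact Subgroup.centralizer_le_normalizer _ (mem_DR.mp hn s hs)

theorem NR_conj_mem {σ : Finset ℕ} {R : ℕ → Subgroup G} {n : G} (hn : n ∈ NR σ R) {s : ℕ}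
    (hs : s ∈ σ) {y : G} (hy : y ∈ R s) : n * y * n⁻¹ ∈ R s :=
  (Subgroup.mem_normalizer_iff.mp (mem_NR.mp hn s hs) y).mp hy

theorem NR_conj_hull {σ : Finset ℕ} {R : ℕ → Subgroup G} {n : G} (hn : n ∈ NR σ R) {y : G}
    (hy : y ∈ hull σ R) : n * y * n⁻¹ ∈ hull σ R := by
  have h1 : hull σ R ≤ (hull σ R).comap (MulAut.conj n).toMonoidHom := by
    apply hull_le
    intro s hs y hy
    rw [Subgroup.mem_comap]
    exact le_hull hs (by simpa [MulAut.conj_apply] using NR_conj_mem hn hs hy)
  have := h1 hy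
  rw [Subgroup.mem_comap] at this
  simpa [MulAut.conj_apply] using this

theorem DR_comm {σ : Finset ℕ} {R : ℕ → Subgroup G} {n : G} (hn : n ∈ DR σ R) {y : G}
    (hy : y ∈ hull σ R) : y * n = n * y := by
  have h1 : hull σ R ≤ Subgroup.centralizer ({n} : Set G) := by
    apply hull_le
    intro s hs y hy
    rw [Subgroup.mem_centralizer_iff]
    intro z hz
    rw [Set.mem_singleton_iff] at hz
    rw [hz]
    exact (Subgroup.mem_centralizer_iff.mp (mem_DR.mp hn s hs) y hy).symm
  exact (Subgroup.mem_centralizer_iff.mp (h1 hy) n (Set.mem_singleton n)).symm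

theorem mem_NR_of_conj [Finite G] {σ : Finset ℕ} {R : ℕ → Subgroup G} {n : G}
    (h : ∀ s ∈ σ, ∀ y ∈ R s, n * y * n⁻¹ ∈ R s) : n ∈ NR σ R := by
  rw [mem_NR]
  intro s hs
  exact Subgroup.mem_normalizer_fintype (fun y hy => h s hs y hy)

theorem NR_conj_DR {σ : Finset ℕ} {R : ℕ → Subgroup G} {n x : G} (hn : n ∈ NR σ R)
    (hx : x ∈ DR σ R) : n * x * n⁻¹ ∈ DR σ R := by
  rw [mem_DR]
  intro s hs
  rw [Subgroup.mem_centralizer_iff]
  intro y hy
  have hy' : n⁻¹ * y * n ∈ R s :=
    (Subgroup.mem_normalizer_iff''.mp (mem_NR.mp hn s hs) y).mp hy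
  have hc := Subgroup.mem_centralizer_iff.mp (mem_DR.mp hx s hs) _ hy'
  calc y * (n * x * n⁻¹) = n * ((n⁻¹ * y * n) * x) * n⁻¹ := by group
    _ = n * (x * (n⁻¹ * y * n)) * n⁻¹ := by rw [hc]
    _ = n * x * n⁻¹ * y := by group

theorem stc_conj_eq [Fintype G] (N : Subgroup G) (z : G) :
    stc N (fun g z => g * z * g⁻¹) z
      = Nat.card (N ⊓ Subgroup.centralizer ({z} : Set G) : Subgroup G) := by
  unfold stc
  refine (Nat.subtype_card _ (fun x => ?_)).symm
  simp only [Finset.mem_filter, Finset.mem_univ, true_and, Subgroup.mem_inf,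
    Subgroup.mem_centralizer_iff, Set.mem_singleton_iff, forall_eq]
  rw [mul_inv_eq_iff_eq_mul, eq_comm]

/-- for abelian `P` and `g ∈ P`, `C_P(g z g⁻¹) = C_P(z)` -/
theorem inf_centralizer_conj_eq {P : Subgroup G} (hab : ∀ x ∈ P, ∀ y ∈ P, x * y = y * x)
    {g : G} (hg : g ∈ P) (y : G) :
    P ⊓ Subgroup.centralizer ({g * y * g⁻¹} : Set G) = P ⊓ Subgroup.centralizer ({y} : Set G) := by
  ext x
  simp only [Subgroup.mem_inf, Subgroup.mem_centralizer_iff, Set.mem_singleton_iff, forall_eq]
  constructor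
  · rintro ⟨hx, hc⟩
    refine ⟨hx, ?_⟩
    have hxg : x * g = g * x := hab x hx g hg
    have hgx : g * x * g⁻¹ = x := by rw [← hxg]; group
    have hgx' : g⁻¹ * x * g = x := by rw [mul_assoc, hxg]; group
    calc y * x = g⁻¹ * (g * y * g⁻¹ * (g * x * g⁻¹)) * g := by group
      _ = g⁻¹ * (g * y * g⁻¹ * x) * g := by rw [hgx]
      _ = g⁻¹ * (x * (g * y * g⁻¹)) * g := by rw [hc]
      _ = (g⁻¹ * x * g) * y := by group
      _ = x * y := by rw [hgx']
  · rintro ⟨hx, hc⟩
    refine ⟨hx, ?_⟩
    have hxg : x * g = g * x := hab x hx g hg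
    have hgx : g * x * g⁻¹ = x := by rw [← hxg]; group
    calc g * y * g⁻¹ * x = g * y * g⁻¹ * (g * x * g⁻¹) := by rw [hgx]
      _ = g * (y * x) * g⁻¹ := by group
      _ = g * (x * y) * g⁻¹ := by rw [hc]
      _ = (g * x * g⁻¹) * (g * y * g⁻¹) := by group
      _ = x * (g * y * g⁻¹) := by rw [hgx]

theorem val_eq_relIndex [Finite G] (K X : Subgroup G) {r : ℕ} (hK : ¬ r ∣ Nat.card K) :
    (Nat.card X).factorization r = (K.relIndex X).factorization r := by
  have h1 : Nat.card (K ⊓ X : Subgroup G) * K.relIndex X = Nat.card X := by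
    have := Subgroup.relIndex_mul_relIndex ⊥ (K ⊓ X) X bot_le inf_le_right
    rwa [Subgroup.relIndex_bot_left, Subgroup.relIndex_bot_left, Subgroup.inf_relIndex_right]
      at this
  have h2 : ¬ r ∣ Nat.card (K ⊓ X : Subgroup G) :=
    fun h => hK (h.trans (Subgroup.card_dvd_of_le inf_le_left))
  have h3 : K.relIndex X ≠ 0 := by
    intro h0
    rw [h0, mul_zero] at h1
    exact Nat.card_pos.ne' h1.symm
  rw [← h1, Nat.factorization_mul Nat.card_pos.ne' h3, Finsupp.add_apply,
    Nat.factorization_eq_zero_of_not_dvd h2, zero_add]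

theorem frattini_val [Finite G] {σ : Finset ℕ} {R : ℕ → Subgroup G} (hR : Fam σ ⊤ R)
    (K : Subgroup G) [hKn : K.Normal] {r : ℕ} (hK : ¬ r ∣ Nat.card K) (hRK : ∀ s ∈ σ, R s ≤ K)
    (X : Subgroup G) (hRX : ∀ s ∈ σ, R s ≤ X) :
    (Nat.card (X ⊓ NR σ R : Subgroup G)).factorization r = (Nat.card X).factorization r := by
  have hF : ∀ u ∈ X, ∃ k ∈ X ⊓ K, k * u ∈ NR σ R := by
    intro u hu
    have h1 : Fam σ (X ⊓ K) (fun s => cj u (R s)) := by
      refine (hR.conj (Subgroup.mem_top u)).mono le_top ?_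
      intro s hs x hx
      obtain ⟨y, hy, rfl⟩ := mem_cj.mp hx
      exact Subgroup.mem_inf.mpr ⟨X.mul_mem (X.mul_mem hu (hRX s hs hy)) (X.inv_mem hu),
        hKn.conj_mem y (hRK s hs hy) u⟩
    have h2 : Fam σ (X ⊓ K) R := hR.mono le_top (fun s hs => le_inf (hRX s hs) (hRK s hs))
    obtain ⟨k, hk, hkR⟩ := fam_conj σ _ _ R h1 h2
    refine ⟨k, hk, mem_NR_of_conj ?_⟩
    intro s hs y hy
    have := hkR s hs _ (conj_mem_cj (g := u) hy)
    have e : k * u * y * (k * u)⁻¹ = k * (u * y * u⁻¹) * k⁻¹ := by group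
    rw [e]; exact this
  have hsup : X ⊔ K = (X ⊓ NR σ R) ⊔ K := by
    apply le_antisymm
    · apply sup_le _ le_sup_right
      intro u hu
      obtain ⟨k, hk, hku⟩ := hF u hu
      have hk' := Subgroup.mem_inf.mp hk
      have e : u = k⁻¹ * (k * u) := by group
      rw [e]
      exact Subgroup.mul_mem _ (Subgroup.mem_sup_right (K.inv_mem hk'.2))
        (Subgroup.mem_sup_left (Subgroup.mem_inf.mpr ⟨X.mul_mem hk'.1 hu, hku⟩))
    · exact sup_le_sup_right inf_le_left K
  have h3 : K.relIndex X = K.relIndex (X ⊓ NR σ R) := by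
    rw [← Subgroup.relIndex_sup_right (H := X) (K := K), hsup, Subgroup.relIndex_sup_right]
  rw [val_eq_relIndex K (X ⊓ NR σ R) hK, val_eq_relIndex K X hK, h3]

end Norm

section CaseA

variable {G : Type u} [Group G] [Finite G]

theorem caseA (τ : Finset ℕ) (p : ℕ) (hp : 1 ≤ p) (hτ : ∀ s ∈ τ, s.Prime ∧ p ≤ s) {r : ℕ}
    (hr : r ∈ τ)
    (hab : ∀ Q : Subgroup G, Nat.card Q = r ^ (Nat.card G).factorization r →
      ∀ x ∈ Q, ∀ y ∈ Q, x * y = y * x)
    (K : Subgroup G) [K.Normal] (hK : ¬ r ∣ Nat.card K)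
    (R : ℕ → Subgroup G) (hR : Fam (τ.erase r) ⊤ R) (hRK : ∀ s ∈ τ.erase r, R s ≤ K)
    (hmany : piPart τ (Nat.card G) * (p ^ 2 + p - 1) < p ^ 3 * kpi (↑τ) G) :
    ∃ R' : ℕ → Subgroup G, Fam τ ⊤ R' := by
  classical
  have hrp : r.Prime := (hτ r hr).1
  have hpr : p ≤ r := (hτ r hr).2
  have hσp : ∀ s ∈ τ.erase r, s.Prime := fun s hs => (hτ s (Finset.mem_of_mem_erase hs)).1
  have hτσ : insert r (τ.erase r) = τ := Finset.insert_erase hr
  obtain ⟨R1, hR1le, hR1c⟩ := exists_sylow_le (NR (τ.erase r) R) hrp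
  have hval : (Nat.card (NR (τ.erase r) R)).factorization r = (Nat.card G).factorization r := by
    have := frattini_val hR K hK hRK ⊤ (fun s _ => le_top)
    rwa [top_inf_eq, Subgroup.card_top] at this
  have hR1c' : Nat.card R1 = r ^ (Nat.card G).factorization r := by rw [← hval]; exact hR1c
  have hR1ab := hab R1 hR1c'
  by_cases hcent : ∀ s ∈ τ.erase r, ∀ x ∈ R1, ∀ y ∈ R s, x * y = y * x
  · refine ⟨fun s => if s = r then R1 else R s, ?_⟩
    rw [← hτσ]
    exact hR.extend hrp R1 le_top (by rw [Subgroup.card_top]; exact hR1c') hR1ab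
      (fun s hs _ => hcent s hs)
  · exfalso
    push Not at hcent
    obtain ⟨s0, hs0, x0, hx0, y0, hy0, hne0⟩ := hcent
    have : Fintype G := Fintype.ofFinite G
    let _ : Fintype (PiCls (↑(τ.erase r) : Set ℕ) G) := Fintype.ofFinite _
    have hbc : Nat.card (hull (τ.erase r) R) = piPart (τ.erase r) (Nat.card G) := by
      rw [hR.card_hull, Subgroup.card_top]
    have hm : piPart τ (Nat.card G)
        = r ^ (Nat.card G).factorization r * piPart (τ.erase r) (Nat.card G) :=
      piPart_eq_mul_erase τ hr _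
    -- representatives
    have hreps : ∀ c : PiCls (↑(τ.erase r) : Set ℕ) G, ∃ y : G, y ∈ hull (τ.erase r) R ∧
        (∃ h : IsPiElt (↑(τ.erase r)) y, mkPi y h = c) ∧
        (Tset {r} y).ncard ≤ Nat.card (R1 ⊓ Subgroup.centralizer ({y} : Set G) : Subgroup G) := by
      intro c
      obtain ⟨y0, hy0pi, hy0c⟩ := exists_rep c
      obtain ⟨g, -, hgy⟩ := fam_cover (τ.erase r) ⊤ R hR y0 (Subgroup.mem_top _) hy0pi
      have hypi : IsPiElt (↑(τ.erase r)) (g * y0 * g⁻¹) := isPiElt_conj g hy0pi
      have hyc : mkPi (g * y0 * g⁻¹) hypi = c := by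
        rw [← hy0c, eq_comm, mkPi_eq_iff]; exact ⟨g, rfl⟩
      generalize g * y0 * g⁻¹ = y at hgy hypi hyc
      have hRX : ∀ s ∈ τ.erase r, R s ≤ Subgroup.centralizer ({y} : Set G) := by
        intro s hs x hx
        rw [Subgroup.mem_centralizer_iff]
        intro z hz
        rw [Set.mem_singleton_iff] at hz
        rw [hz]
        exact hR.hull_comm hgy (le_hull hs hx)
      have hv := frattini_val hR K hK hRK (Subgroup.centralizer ({y} : Set G)) hRX
      obtain ⟨S, hSle, hSc⟩ :=
        exists_sylow_le (Subgroup.centralizer ({y} : Set G) ⊓ NR (τ.erase r) R) hrp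
      rw [hv] at hSc
      obtain ⟨n, hn, hnS⟩ := conj_into (NR (τ.erase r) R) hrp (hSle.trans inf_le_right) hR1le
        (IsPGroup.of_card hSc) hR1c
      refine ⟨n * y * n⁻¹, NR_conj_hull hn hgy, ⟨isPiElt_conj n hypi, ?_⟩, ?_⟩
      · rw [← hyc, eq_comm, mkPi_eq_iff]; exact ⟨n, rfl⟩
      · have h1 := (ncard_Tset_le ({r} : Set ℕ) (n * y * n⁻¹)).trans (kpi_prime_le hrp)
        have h2 : Subgroup.centralizer ({n * y * n⁻¹} : Set G)
            ≤ cj n (Subgroup.centralizer ({y} : Set G)) := by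
          intro x hx
          rw [mem_cj]
          refine ⟨n⁻¹ * x * n, ?_, by group⟩
          rw [Subgroup.mem_centralizer_iff]
          intro z hz
          rw [Set.mem_singleton_iff] at hz
          rw [hz]
          have hx' := Subgroup.mem_centralizer_iff.mp hx _ (Set.mem_singleton _)
          calc y * (n⁻¹ * x * n) = n⁻¹ * ((n * y * n⁻¹) * x) * n := by group
            _ = n⁻¹ * (x * (n * y * n⁻¹)) * n := by rw [hx']
            _ = n⁻¹ * x * n * y := by group
        have h3 : (Nat.card (Subgroup.centralizer ({n * y * n⁻¹} : Set G))).factorization r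
            ≤ (Nat.card (Subgroup.centralizer ({y} : Set G))).factorization r := by
          have hd := Subgroup.card_dvd_of_le h2
          rw [card_cj] at hd
          exact (Nat.factorization_le_iff_dvd Nat.card_pos.ne' Nat.card_pos.ne').mpr hd r
        have h4 : cj n S ≤ R1 ⊓ Subgroup.centralizer ({n * y * n⁻¹} : Set G) := by
          intro x hx
          obtain ⟨z, hz, rfl⟩ := mem_cj.mp hx
          refine Subgroup.mem_inf.mpr ⟨hnS z hz, ?_⟩
          rw [Subgroup.mem_centralizer_iff]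
          intro w hw
          rw [Set.mem_singleton_iff] at hw
          rw [hw]
          have hz' := Subgroup.mem_centralizer_iff.mp (Subgroup.mem_inf.mp (hSle hz)).1 y
            (Set.mem_singleton y)
          calc n * y * n⁻¹ * (n * z * n⁻¹) = n * (y * z) * n⁻¹ := by group
            _ = n * (z * y) * n⁻¹ := by rw [hz']
            _ = n * z * n⁻¹ * (n * y * n⁻¹) := by group
        calc (Tset {r} (n * y * n⁻¹)).ncard
            ≤ r ^ (Nat.card (Subgroup.centralizer ({n * y * n⁻¹} : Set G))).factorization r := h1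
          _ ≤ r ^ (Nat.card (Subgroup.centralizer ({y} : Set G))).factorization r :=
              Nat.pow_le_pow_right hrp.pos h3
          _ = Nat.card (cj n S) := by rw [card_cj, hSc]
          _ ≤ Nat.card (R1 ⊓ Subgroup.centralizer ({n * y * n⁻¹} : Set G) : Subgroup G) :=
              Subgroup.card_le_of_le h4
    choose yy hyyH hyyc hyyT using hreps
    have hk1 : kpi (↑τ) G
        ≤ ∑ c, Nat.card (R1 ⊓ Subgroup.centralizer ({yy c} : Set G) : Subgroup G) := by
      have h1 := kpi_le_sum_Tset (↑(τ.erase r) : Set ℕ) hrp yy hyyc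
      have h2 : (insert r (↑(τ.erase r) : Set ℕ)) = ↑τ := by rw [← Finset.coe_insert, hτσ]
      rw [h2] at h1
      exact h1.trans (Finset.sum_le_sum (fun c _ => hyyT c))
    have hk3 : (∑ c, Nat.card (R1 ⊓ Subgroup.centralizer ({yy c} : Set G) : Subgroup G))
        * r ^ (Nat.card G).factorization r
        ≤ ∑ z ∈ elts (hull (τ.erase r) R),
          Nat.card (R1 ⊓ Subgroup.centralizer ({z} : Set G) : Subgroup G)
            * Nat.card (R1 ⊓ Subgroup.centralizer ({z} : Set G) : Subgroup G) := by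
      have := orbit_weighted R1 (fun g z => g * z * g⁻¹) (by intro x; simp)
        (by intro g h x; group) (elts (hull (τ.erase r) R))
        (fun z => Nat.card (R1 ⊓ Subgroup.centralizer ({z} : Set G) : Subgroup G)) yy
        (fun c g hg => by
          show Nat.card (R1 ⊓ Subgroup.centralizer ({g * yy c * g⁻¹} : Set G) : Subgroup G) = _
          rw [inf_centralizer_conj_eq hR1ab hg])
        (fun c g hg => mem_elts.mpr (NR_conj_hull (hR1le hg) (hyyH c)))
        (fun c c' g hg heq => by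
          obtain ⟨h1, e1⟩ := hyyc c
          obtain ⟨h2, e2⟩ := hyyc c'
          rw [← e1, ← e2, mkPi_eq_iff]
          exact ⟨g, heq⟩)
      rw [hR1c'] at this
      refine this.trans (le_of_eq (Finset.sum_congr rfl (fun z _ => by rw [stc_conj_eq])))
    have hω1 : ∀ z : G, Nat.card (R1 ⊓ Subgroup.centralizer ({z} : Set G) : Subgroup G)
        ≤ r ^ (Nat.card G).factorization r := fun z => by
      rw [← hR1c']; exact Subgroup.card_le_of_le inf_le_left
    have hω2 : ∀ z : G, z ∉ Subgroup.centralizer (R1 : Set G) →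
        r * Nat.card (R1 ⊓ Subgroup.centralizer ({z} : Set G) : Subgroup G)
          ≤ r ^ (Nat.card G).factorization r := by
      intro z hz
      rw [← hR1c']
      apply card_idx_le inf_le_left
      · intro hEq
        apply hz
        rw [Subgroup.mem_centralizer_iff]
        intro x hx
        have hx' : x ∈ R1 ⊓ Subgroup.centralizer ({z} : Set G) := by rw [hEq]; exact hx
        exact (Subgroup.mem_centralizer_iff.mp (Subgroup.mem_inf.mp hx').2 z
          (Set.mem_singleton z)).symm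
      · intro l hl hld
        rw [hR1c'] at hld
        exact Nat.le_of_eq ((Nat.prime_dvd_prime_iff_eq hl hrp).mp (hl.dvd_of_dvd_pow hld)).symm
    have hH0 : hull (τ.erase r) R ⊓ Subgroup.centralizer (R1 : Set G) ≠ hull (τ.erase r) R := by
      intro hEq
      have : y0 ∈ hull (τ.erase r) R ⊓ Subgroup.centralizer (R1 : Set G) := by
        rw [hEq]; exact le_hull hs0 hy0
      exact hne0 (Subgroup.mem_centralizer_iff.mp (Subgroup.mem_inf.mp this).2 x0 hx0)
    have hH0c : p * Nat.card (hull (τ.erase r) R ⊓ Subgroup.centralizer (R1 : Set G) : Subgroup G)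
        ≤ piPart (τ.erase r) (Nat.card G) := by
      rw [← hbc]
      apply card_idx_le inf_le_left hH0
      intro l hl hld
      rw [hbc] at hld
      exact (hτ l (Finset.mem_of_mem_erase (prime_dvd_piPart hσp hl hld))).2
    have hc0 : ((elts (hull (τ.erase r) R)).filter
        (fun z => z ∈ Subgroup.centralizer (R1 : Set G))).card
        = Nat.card (hull (τ.erase r) R ⊓ Subgroup.centralizer (R1 : Set G) : Subgroup G) :=
      (Nat.subtype_card _ (fun x => by
        simp only [Finset.mem_filter, mem_elts, Subgroup.mem_inf])).symm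
    have hzw : ((elts (hull (τ.erase r) R)).filter
        (fun z => z ∈ Subgroup.centralizer (R1 : Set G))).card
        + ((elts (hull (τ.erase r) R)).filter
        (fun z => ¬ z ∈ Subgroup.centralizer (R1 : Set G))).card
        = piPart (τ.erase r) (Nat.card G) := by
      rw [Finset.card_filter_add_card_filter_not, card_elts, hbc]
    rw [hc0] at hzw
    have hsum : r ^ 2 * ∑ z ∈ elts (hull (τ.erase r) R),
          Nat.card (R1 ⊓ Subgroup.centralizer ({z} : Set G) : Subgroup G)
            * Nat.card (R1 ⊓ Subgroup.centralizer ({z} : Set G) : Subgroup G)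
        ≤ Nat.card (hull (τ.erase r) R ⊓ Subgroup.centralizer (R1 : Set G) : Subgroup G)
            * (r ^ 2 * (r ^ (Nat.card G).factorization r) ^ 2)
          + ((elts (hull (τ.erase r) R)).filter
              (fun z => ¬ z ∈ Subgroup.centralizer (R1 : Set G))).card
            * (r ^ (Nat.card G).factorization r) ^ 2 := by
      rw [Finset.mul_sum]
      refine le_trans (Finset.sum_le_sum (g := fun z =>
        if z ∈ Subgroup.centralizer (R1 : Set G)
          then r ^ 2 * (r ^ (Nat.card G).factorization r) ^ 2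
          else (r ^ (Nat.card G).factorization r) ^ 2) ?_) ?_
      · intro z _
        split_ifs with hz
        · have := hω1 z
          have h5 := Nat.mul_le_mul this this
          rw [← pow_two (r ^ (Nat.card G).factorization r)] at h5
          exact Nat.mul_le_mul_left _ h5
        · have := hω2 z hz
          have h5 := Nat.mul_le_mul this this
          rw [← pow_two (r ^ (Nat.card G).factorization r)] at h5
          calc r ^ 2 * (Nat.card (R1 ⊓ Subgroup.centralizer ({z} : Set G) : Subgroup G)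
                * Nat.card (R1 ⊓ Subgroup.centralizer ({z} : Set G) : Subgroup G))
              = r * Nat.card (R1 ⊓ Subgroup.centralizer ({z} : Set G) : Subgroup G)
                * (r * Nat.card (R1 ⊓ Subgroup.centralizer ({z} : Set G) : Subgroup G)) := by
                ring
            _ ≤ (r ^ (Nat.card G).factorization r) ^ 2 := h5
      · rw [Finset.sum_ite, Finset.sum_const, Finset.sum_const, smul_eq_mul, smul_eq_mul, hc0]
    -- arithmetic
    generalize kpi (↑τ) G = kk at hmany hk1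
    generalize (∑ c, Nat.card (R1 ⊓ Subgroup.centralizer ({yy c} : Set G) : Subgroup G)) = Sω
      at hk1 hk3
    generalize (∑ z ∈ elts (hull (τ.erase r) R),
          Nat.card (R1 ⊓ Subgroup.centralizer ({z} : Set G) : Subgroup G)
            * Nat.card (R1 ⊓ Subgroup.centralizer ({z} : Set G) : Subgroup G)) = S2 at hk3 hsum
    generalize Nat.card (hull (τ.erase r) R ⊓ Subgroup.centralizer (R1 : Set G) : Subgroup G)
      = h0 at hH0c hzw hsum
    generalize ((elts (hull (τ.erase r) R)).filter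
              (fun z => ¬ z ∈ Subgroup.centralizer (R1 : Set G))).card = w at hzw hsum
    have hapos : 0 < r ^ (Nat.card G).factorization r := pow_pos hrp.pos _
    have hbpos : 0 < piPart (τ.erase r) (Nat.card G) := piPart_pos _ hσp _
    rw [hm] at hmany
    generalize r ^ (Nat.card G).factorization r = a at hmany hk3 hsum hapos
    generalize piPart (τ.erase r) (Nat.card G) = b at hmany hH0c hzw hbpos
    obtain ⟨e, rfl⟩ : ∃ e, p = e + 1 := ⟨p - 1, by omega⟩
    have hF : (e + 1) ^ 2 + (e + 1) - 1 = (e + 1) ^ 2 + e := by omega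
    rw [hF] at hmany
    have hr2 : (e + 1) ^ 2 ≤ r ^ 2 := Nat.pow_le_pow_left hpr 2
    obtain ⟨ρ, hρ⟩ : ∃ ρ, r ^ 2 = ρ + 1 :=
      ⟨r ^ 2 - 1, by have := Nat.pos_of_ne_zero (pow_ne_zero 2 hrp.ne_zero); omega⟩
    rw [hρ] at hsum hr2
    have hA : (ρ + 1) * kk ≤ a * (h0 * (ρ + 1) + w) := by
      have h6 : (ρ + 1) * kk * a ≤ a * (h0 * (ρ + 1) + w) * a := by
        calc (ρ + 1) * kk * a ≤ (ρ + 1) * Sω * a :=
              Nat.mul_le_mul_right _ (Nat.mul_le_mul_left _ hk1)
          _ = (ρ + 1) * (Sω * a) := by ring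
          _ ≤ (ρ + 1) * S2 := Nat.mul_le_mul_left _ hk3
          _ ≤ h0 * ((ρ + 1) * a ^ 2) + w * a ^ 2 := hsum
          _ = a * (h0 * (ρ + 1) + w) * a := by ring
      exact Nat.le_of_mul_le_mul_right h6 hapos
    have hB : (e + 1) * ((ρ + 1) * kk) ≤ a * (b * (ρ + 1 + e)) := by
      calc (e + 1) * ((ρ + 1) * kk) ≤ (e + 1) * (a * (h0 * (ρ + 1) + w)) :=
            Nat.mul_le_mul_left _ hA
        _ = a * (((e + 1) * h0) * ρ + (e + 1) * (h0 + w)) := by ring
        _ ≤ a * (b * ρ + (e + 1) * b) := by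
            rw [hzw]
            exact Nat.mul_le_mul_left _ (Nat.add_le_add_right (Nat.mul_le_mul_right _ hH0c) _)
        _ = a * (b * (ρ + 1 + e)) := by ring
    have hC : (ρ + 1) * (a * b * ((e + 1) ^ 2 + e)) < (e + 1) ^ 2 * (a * (b * (ρ + 1 + e))) := by
      calc (ρ + 1) * (a * b * ((e + 1) ^ 2 + e)) < (ρ + 1) * ((e + 1) ^ 3 * kk) :=
            Nat.mul_lt_mul_of_pos_left hmany (Nat.succ_pos ρ)
        _ = (e + 1) ^ 2 * ((e + 1) * ((ρ + 1) * kk)) := by ring
        _ ≤ (e + 1) ^ 2 * (a * (b * (ρ + 1 + e))) := Nat.mul_le_mul_left _ hB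
    have hab' : 0 < a * b := Nat.mul_pos hapos hbpos
    have hD : (ρ + 1) * ((e + 1) ^ 2 + e) < (e + 1) ^ 2 * (ρ + 1 + e) := by
      have h7 : (a * b) * ((ρ + 1) * ((e + 1) ^ 2 + e)) < (a * b) * ((e + 1) ^ 2 * (ρ + 1 + e)) := by
        calc (a * b) * ((ρ + 1) * ((e + 1) ^ 2 + e)) = (ρ + 1) * (a * b * ((e + 1) ^ 2 + e)) := by
              ring
          _ < (e + 1) ^ 2 * (a * (b * (ρ + 1 + e))) := hC
          _ = (a * b) * ((e + 1) ^ 2 * (ρ + 1 + e)) := by ring
      exact Nat.lt_of_mul_lt_mul_left h7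
    have hE : (e + 1) ^ 2 * e ≤ (ρ + 1) * e := Nat.mul_le_mul_right _ hr2
    nlinarith [hD, hE]

end CaseA

end Cfsg.Agent.Lib.Helper30.PiHall
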