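import Mathlib
import Cfsg.Agent.Lib.Helper88.WNStmt
import Cfsg.Agent.H85.Aut

set_option autoImplicit false

/-! Piece [WSYL] of S5141: an element of `Aut_F(R)` (`R` fully automized, `T` strongly closed)
that is the identity on `R ∩ T` and moves every element by an element of `T` centralizing
`R ∩ T` is induced by conjugation by an element of `S`. -/

namespace Cfsg.Agent.Lib.Helper30.WNWSYL

open Cfsg Cfsg.FusionSystem Cfsg.Agent.Lib.Helper88.WNStmt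

universe u

variable {Ω : Type u} [Group Ω]

/-- the automorphisms of `R` that are trivial on `R ∩ T` and move every element by an element
of `T` centralizing `R ∩ T` -/
def W0 (T R : Subgroup Ω) : Subgroup (MulAut R) where
  carrier := {ξ | (∀ x : R, (x : Ω) ∈ T → ξ x = x) ∧ ∀ y : R, ((y⁻¹ * ξ y : R) : Ω) ∈ T ∧
    ∀ x : R, (x : Ω) ∈ T → Commute (y⁻¹ * ξ y) x}
  one_mem' := by
    refine ⟨fun x _ => rfl, fun y => ?_⟩
    have e : y⁻¹ * (1 : MulAut R) y = 1 := by rw [MulAut.one_apply, inv_mul_cancel]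
    rw [e]
    exact ⟨T.one_mem, fun x _ => Commute.one_left x⟩
  mul_mem' := by
    rintro ξ η ⟨h1, h2⟩ ⟨k1, k2⟩
    refine ⟨fun x hx => ?_, fun y => ?_⟩
    · rw [MulAut.mul_apply, k1 x hx, h1 x hx]
    · have e : y⁻¹ * (ξ * η) y = (y⁻¹ * η y) * ((η y)⁻¹ * ξ (η y)) := by
        rw [MulAut.mul_apply]; group
      rw [e]
      refine ⟨?_, fun x hx => ((k2 y).2 x hx).mul_left ((h2 (η y)).2 x hx)⟩
      rw [Subgroup.coe_mul]
      exact T.mul_mem (k2 y).1 (h2 (η y)).1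
  inv_mem' := by
    rintro ξ ⟨h1, h2⟩
    refine ⟨fun x hx => ?_, fun y => ?_⟩
    · calc ξ⁻¹ x = ξ⁻¹ (ξ x) := by rw [h1 x hx]
        _ = x := MulAut.inv_apply_self _ _ _
    · have e : y⁻¹ * ξ⁻¹ y = ((ξ⁻¹ y)⁻¹ * ξ (ξ⁻¹ y))⁻¹ := by
        rw [MulAut.apply_inv_self]; group
      rw [e]
      refine ⟨?_, fun x hx => ((h2 (ξ⁻¹ y)).2 x hx).inv_left⟩
      rw [Subgroup.coe_inv]
      exact T.inv_mem (h2 (ξ⁻¹ y)).1

theorem mem_W0 (T R : Subgroup Ω) (ξ : MulAut R) :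
    ξ ∈ W0 T R ↔ (∀ x : R, (x : Ω) ∈ T → ξ x = x) ∧ ∀ y : R, ((y⁻¹ * ξ y : R) : Ω) ∈ T ∧
      ∀ x : R, (x : Ω) ∈ T → Commute (y⁻¹ * ξ y) x := Iff.rfl

/-- powers of an element of `W0` -/
theorem pow_apply_of_mem {T R : Subgroup Ω} {η : MulAut R} (hη : η ∈ W0 T R) (y : R) (n : ℕ) :
    (η ^ n) y = y * (y⁻¹ * η y) ^ n := by
  induction n with
  | zero => rw [pow_zero, pow_zero, MulAut.one_apply, mul_one]
  | succ n ih =>
    have hz : η (y⁻¹ * η y) = y⁻¹ * η y := hη.1 _ (hη.2 y).1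
    rw [pow_succ', MulAut.mul_apply, ih, map_mul, map_pow, hz, pow_succ', ← mul_assoc,
      mul_inv_cancel_left]

theorem isPGroup_W0 {S : Subgroup Ω} [Finite S] (p : ℕ) [Fact p.Prime] (hS : IsPGroup p S)
    (T R : Subgroup Ω) (hTS : T ≤ S) : IsPGroup p (W0 T R) := by
  obtain ⟨m, hm⟩ := (IsPGroup.iff_card).1 hS
  rintro ⟨η, hη⟩
  refine ⟨m, ?_⟩
  apply Subtype.ext
  show η ^ p ^ m = 1
  rw [← hm]
  apply MulEquiv.ext
  intro y
  rw [pow_apply_of_mem hη, MulAut.one_apply]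
  have hz : ((y⁻¹ * η y : R) : Ω) ∈ T := (hη.2 y).1
  have h1 : (⟨((y⁻¹ * η y : R) : Ω), hTS hz⟩ : S) ^ Nat.card S = 1 := pow_card_eq_one'
  have h2 : (y⁻¹ * η y) ^ Nat.card S = 1 := by
    apply Subtype.ext
    have h3 := congrArg Subtype.val h1
    rw [Subgroup.coe_pow]
    exact h3
  rw [h2, mul_one]

theorem main : WSyl.{u} := by
  intro Ω _ S _ p _ hS F T hT R hfa ξ hξ h1 h2
  obtain ⟨hR, Q, hQ⟩ := hfa
  obtain ⟨hTS, hsc⟩ := hT
  -- strong closure for automorphisms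
  have hSC : ∀ β ∈ F.autGroup R, ∀ x : R, (x : Ω) ∈ T → ((β x : R) : Ω) ∈ T := by
    intro β hβ x hx
    have hβ' := (Cfsg.Agent.H85.mem_autGroup_iff F hR β).1 hβ
    have hres := Cfsg.Agent.H85.restrict_mem F hβ' (inf_le_left : R ⊓ T ≤ R)
    exact hsc (R ⊓ T) inf_le_right _ hres ⟨x, ⟨x.2, hx⟩⟩
  have hξW : ξ ∈ W0 T R := by
    refine ⟨h1, fun y => ⟨(h2 y).1, fun x hx => ?_⟩⟩
    exact Subtype.ext ((h2 y).2 x hx)
  have hW0 : IsPGroup p (W0 T R) := isPGroup_W0 p hS T R hTS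
  have hWn : ((W0 T R).subgroupOf (F.autGroup R)).Normal := by
    refine ⟨fun n hn g => ?_⟩
    rw [Subgroup.mem_subgroupOf] at hn ⊢
    obtain ⟨α, hα⟩ := g
    obtain ⟨η, hη'⟩ := n
    have hn' : η ∈ W0 T R := hn
    show α * η * α⁻¹ ∈ W0 T R
    obtain ⟨k1, k2⟩ := hn'
    have hαi : α⁻¹ ∈ F.autGroup R := inv_mem hα
    refine ⟨fun x hx => ?_, fun y => ?_⟩
    · show α (η (α⁻¹ x)) = x
      rw [k1 _ (hSC _ hαi x hx), MulAut.apply_inv_self]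
    · have e : y⁻¹ * (α * η * α⁻¹) y = α ((α⁻¹ y)⁻¹ * η (α⁻¹ y)) := by
        show y⁻¹ * α (η (α⁻¹ y)) = _
        rw [map_mul, map_inv, MulAut.apply_inv_self]
      rw [e]
      refine ⟨hSC α hα _ (k2 (α⁻¹ y)).1, fun x hx => ?_⟩
      have hc := (k2 (α⁻¹ y)).2 (α⁻¹ x) (hSC _ hαi x hx)
      have hc' := hc.map α
      rw [MulAut.apply_inv_self] at hc'
      exact hc'
  have hWp : IsPGroup p ((W0 T R).subgroupOf (F.autGroup R)) := hW0.comap_subtype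
  have hle := hWp.le_sylow_of_normal Q
  have hmem : (⟨ξ, hξ⟩ : F.autGroup R) ∈ (Q : Subgroup (F.autGroup R)) :=
    hle (Subgroup.mem_subgroupOf.2 hξW)
  rw [hQ, Subgroup.mem_subgroupOf] at hmem
  obtain ⟨g, hg, hgx⟩ := (Cfsg.Agent.H85.mem_autInducedBy_iff S R ξ).1 hmem
  exact ⟨g, hg, hgx⟩

end Cfsg.Agent.Lib.Helper30.WNWSYL
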