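import Mathlib
import Cfsg.Agent.Lib.Helper18.R59Stmt

set_option autoImplicit false

/-! Piece [SLC] of S2359: the centraliser in `SL₂(q)`, `q = 3^(2m+1)`, of an element of prime
order `p ∤ 6(q-1)` is commutative of order `q + 1`. -/

namespace Cfsg.Agent.Lib.Helper30.R59SLC

open Matrix

universe u

variable {K : Type u} [Field K]

/-- the norm form `u² + τ u v + v²` -/
def N (τ : K) (z : K × K) : K := z.1 * z.1 + τ * z.1 * z.2 + z.2 * z.2

/-- multiplication of `u + v X` and `u' + v' X` when `X² = τ X - 1` -/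
def mulE (τ : K) (z w : K × K) : K × K :=
  (z.1 * w.1 - z.2 * w.2, z.1 * w.2 + z.2 * w.1 + τ * z.2 * w.2)

/-- the conjugate -/
def conjE (τ : K) (z : K × K) : K × K := (z.1 + τ * z.2, -z.2)

theorem N_mulE (τ : K) (z w : K × K) : N τ (mulE τ z w) = N τ z * N τ w := by
  simp only [N, mulE]; ring

theorem N_conjE (τ : K) (z : K × K) : N τ (conjE τ z) = N τ z := by
  simp only [N, conjE]; ring

theorem N_smul (τ c : K) (z : K × K) : N τ (c * z.1, c * z.2) = c * c * N τ z := by
  simp only [N]; ring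

theorem mulE_conj_left (τ : K) (z w : K × K) :
    mulE τ (mulE τ z w) (conjE τ w) = (N τ w * z.1, N τ w * z.2) := by
  simp only [N, mulE, conjE]
  refine Prod.ext ?_ ?_ <;> simp only <;> ring

theorem mulE_conj_right (τ : K) (z w : K × K) :
    mulE τ (mulE τ z (conjE τ w)) w = (N τ w * z.1, N τ w * z.2) := by
  simp only [N, mulE, conjE]
  refine Prod.ext ?_ ?_ <;> simp only <;> ring

theorem mulE_smul_left (τ c : K) (z w : K × K) :
    mulE τ (c * z.1, c * z.2) w = (c * (mulE τ z w).1, c * (mulE τ z w).2) := by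
  simp only [mulE]
  refine Prod.ext ?_ ?_ <;> simp only <;> ring

theorem card_fiber_eq [Fintype K] [DecidableEq K] (τ : K) {c : K} (hc : c ≠ 0) (w : K × K)
    (hw : N τ w = c) :
    (Finset.univ.filter (fun z : K × K => N τ z = c)).card =
      (Finset.univ.filter (fun z : K × K => N τ z = 1)).card := by
  symm
  refine Finset.card_bij' (fun z _ => mulE τ z w)
    (fun z _ => (c⁻¹ * (mulE τ z (conjE τ w)).1, c⁻¹ * (mulE τ z (conjE τ w)).2)) ?_ ?_ ?_ ?_
  · intro z hz
    rw [Finset.mem_filter] at hz ⊢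
    refine ⟨Finset.mem_univ _, ?_⟩
    rw [N_mulE, hz.2, hw, one_mul]
  · intro z hz
    rw [Finset.mem_filter] at hz ⊢
    refine ⟨Finset.mem_univ _, ?_⟩
    rw [N_smul, N_mulE, N_conjE, hz.2, hw]
    field_simp
  · intro z hz
    show (c⁻¹ * (mulE τ (mulE τ z w) (conjE τ w)).1, c⁻¹ * (mulE τ (mulE τ z w) (conjE τ w)).2) = z
    rw [mulE_conj_left, hw]
    refine Prod.ext ?_ ?_
    · show c⁻¹ * (c * z.1) = z.1
      rw [← mul_assoc, inv_mul_cancel₀ hc, one_mul]
    · show c⁻¹ * (c * z.2) = z.2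
      rw [← mul_assoc, inv_mul_cancel₀ hc, one_mul]
  · intro z hz
    show mulE τ (c⁻¹ * (mulE τ z (conjE τ w)).1, c⁻¹ * (mulE τ z (conjE τ w)).2) w = z
    rw [mulE_smul_left, mulE_conj_right, hw]
    refine Prod.ext ?_ ?_
    · show c⁻¹ * (c * z.1) = z.1
      rw [← mul_assoc, inv_mul_cancel₀ hc, one_mul]
    · show c⁻¹ * (c * z.2) = z.2
      rw [← mul_assoc, inv_mul_cancel₀ hc, one_mul]

theorem card_norm_one [Fintype K] [DecidableEq K] (τ : K)
    (haniso : ∀ z : K × K, N τ z = 0 → z = 0)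
    (hsurj : ∀ c : K, c ≠ 0 → ∃ w : K × K, N τ w = c) :
    (Finset.univ.filter (fun z : K × K => N τ z = 1)).card = Fintype.card K + 1 := by
  obtain ⟨s, hs⟩ : ∃ s : ℕ, s = (Finset.univ.filter (fun z : K × K => N τ z = 1)).card :=
    ⟨_, rfl⟩
  have htot : Fintype.card (K × K) =
      ∑ c : K, (Finset.univ.filter (fun z : K × K => N τ z = c)).card := by
    rw [← Finset.card_univ]
    exact Finset.card_eq_sum_card_fiberwise (fun x _ => Finset.mem_univ _)
  have h0 : (Finset.univ.filter (fun z : K × K => N τ z = 0)).card = 1 := by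
    rw [Finset.card_eq_one]
    refine ⟨0, ?_⟩
    ext z
    rw [Finset.mem_filter, Finset.mem_singleton]
    constructor
    · rintro ⟨-, hz⟩; exact haniso z hz
    · rintro rfl; exact ⟨Finset.mem_univ _, by simp [N]⟩
  have hc : ∀ c ∈ (Finset.univ : Finset K).erase 0,
      (Finset.univ.filter (fun z : K × K => N τ z = c)).card = s := by
    intro c hc
    obtain ⟨w, hw⟩ := hsurj c (Finset.ne_of_mem_erase hc)
    rw [hs]
    exact card_fiber_eq τ (Finset.ne_of_mem_erase hc) w hw
  rw [← Finset.add_sum_erase _ _ (Finset.mem_univ (0 : K)), h0, Finset.sum_congr rfl hc,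
    Finset.sum_const, Finset.card_erase_of_mem (Finset.mem_univ _), Finset.card_univ,
    Fintype.card_prod, smul_eq_mul] at htot
  rw [← hs]
  have hq : 1 < Fintype.card K := Fintype.one_lt_card
  obtain ⟨r, hr⟩ : ∃ r, Fintype.card K = r + 2 := ⟨Fintype.card K - 2, by omega⟩
  rw [hr] at htot ⊢
  have h1 : (r + 1) * s = (r + 1) * (r + 3) := by
    have h2 : r + 2 - 1 = r + 1 := by omega
    rw [h2] at htot
    nlinarith
  have := Nat.eq_of_mul_eq_mul_left (Nat.succ_pos r) h1
  omega

/-- Cayley–Hamilton for a `2 × 2` matrix of determinant one -/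
theorem cayley (X : Matrix (Fin 2) (Fin 2) K) (hdet : X 0 0 * X 1 1 - X 0 1 * X 1 0 = 1) :
    X * X = (X 0 0 + X 1 1) • X - 1 := by
  ext i j
  fin_cases i <;> fin_cases j
  · simp [Matrix.mul_apply, Fin.sum_univ_two]
    linear_combination (-1 : K) * hdet
  · simp [Matrix.mul_apply, Fin.sum_univ_two]
    ring
  · simp [Matrix.mul_apply, Fin.sum_univ_two]
    ring
  · simp [Matrix.mul_apply, Fin.sum_univ_two]
    linear_combination (-1 : K) * hdet

/-- the determinant of `u + v X` -/
theorem det_lin (X : Matrix (Fin 2) (Fin 2) K) (hdet : X 0 0 * X 1 1 - X 0 1 * X 1 0 = 1)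
    (u v : K) :
    (u • (1 : Matrix (Fin 2) (Fin 2) K) + v • X).det = N (X 0 0 + X 1 1) (u, v) := by
  rw [Matrix.det_fin_two]
  simp [N]
  linear_combination (v * v) * hdet

/-- the commutant of `X` when `X 0 1 ≠ 0` -/
theorem commutant (X : Matrix (Fin 2) (Fin 2) K) (hb : X 0 1 ≠ 0)
    (Y : Matrix (Fin 2) (Fin 2) K) (hY : Y * X = X * Y) :
    Y = (Y 0 0 - Y 0 1 / X 0 1 * X 0 0) • (1 : Matrix (Fin 2) (Fin 2) K) +
      (Y 0 1 / X 0 1) • X := by
  have e00 := congrFun (congrFun hY 0) 0
  have e01 := congrFun (congrFun hY 0) 1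
  simp only [Matrix.mul_apply, Fin.sum_univ_two] at e00 e01
  ext i j
  fin_cases i <;> fin_cases j
  · simp
  · simp
    field_simp
  · simp
    field_simp
    linear_combination (-1 : K) * e00
  · simp
    field_simp
    linear_combination (-1 : K) * e01

theorem mulVec_pow (X : Matrix (Fin 2) (Fin 2) K) (w : Fin 2 → K) (l : K)
    (h : X *ᵥ w = l • w) (n : ℕ) : (X ^ n) *ᵥ w = l ^ n • w := by
  induction n with
  | zero => rw [pow_zero, pow_zero, Matrix.one_mulVec, one_smul]
  | succ n ih =>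
    rw [pow_succ, ← Matrix.mulVec_mulVec, h, Matrix.mulVec_smul, ih, smul_smul, pow_succ']

theorem main : Cfsg.Agent.Lib.Helper18.R59Stmt.SLC.{u} := by
  intro K _ _ m hq x p hp hp2 hp3 hpq hx
  classical
  obtain ⟨X, hXdef⟩ : ∃ X : Matrix (Fin 2) (Fin 2) K, X = (x : Matrix (Fin 2) (Fin 2) K) :=
    ⟨_, rfl⟩
  have hdet0 : X.det = 1 := by rw [hXdef]; exact x.2
  have hdet : X 0 0 * X 1 1 - X 0 1 * X 1 0 = 1 := by rw [← Matrix.det_fin_two]; exact hdet0
  obtain ⟨τ, hτ⟩ : ∃ τ : K, τ = X 0 0 + X 1 1 := ⟨_, rfl⟩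
  have h3 : (3 : K) = 0 := by
    have h := FiniteField.cast_card_eq_zero K
    rw [hq] at h
    push_cast at h
    exact pow_eq_zero_iff (Nat.succ_ne_zero _) |>.1 h
  have hXp : X ^ p = 1 := by
    have h : x ^ p = 1 := by rw [← hx]; exact pow_orderOf_eq_one x
    have h2 : (x : Matrix (Fin 2) (Fin 2) K) ^ p = 1 := congrArg Subtype.val h
    rw [hXdef]; exact h2
  have hCH : X * X = τ • X - 1 := by rw [hτ]; exact cayley X hdet
  -- no eigenvalue
  have hirr : ∀ l : K, l * l - τ * l + 1 ≠ 0 := by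
    intro l hl
    have hdetl : (X - l • (1 : Matrix (Fin 2) (Fin 2) K)).det = 0 := by
      rw [Matrix.det_fin_two]
      simp
      linear_combination hl + hdet + l * hτ
    obtain ⟨w, hw0, hw⟩ := Matrix.exists_mulVec_eq_zero_iff.2 hdetl
    have hXw : X *ᵥ w = l • w := by
      rw [Matrix.sub_mulVec, Matrix.smul_mulVec, Matrix.one_mulVec, sub_eq_zero] at hw
      exact hw
    have hlp : l ^ p = 1 := by
      have h := mulVec_pow X w l hXw p
      rw [hXp, Matrix.one_mulVec] at h
      by_contra hne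
      have h2 : (1 - l ^ p) • w = 0 := by rw [sub_smul, one_smul, ← h, sub_self]
      rcases smul_eq_zero.1 h2 with h4 | h4
      · exact hne (sub_eq_zero.1 h4).symm
      · exact hw0 h4
    have hl0 : l ≠ 0 := by
      rintro rfl
      simp at hl
    have hlq : l ^ (3 ^ (2 * m + 1) - 1) = 1 := by
      rw [← hq]; exact FiniteField.pow_card_sub_one_eq_one l hl0
    have hl1 : l = 1 := by
      have hcop : Nat.gcd p (3 ^ (2 * m + 1) - 1) = 1 :=
        (Nat.Prime.coprime_iff_not_dvd hp).2 hpq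
      have h := pow_gcd_eq_one.2 ⟨hlp, hlq⟩
      rw [hcop, pow_one] at h
      exact h
    rw [hl1] at hl
    have hτ2 : τ = 2 := by linear_combination (-1 : K) * hl
    have hX3 : X ^ 3 = 1 := by
      have e : X ^ 3 = X * X * X := by rw [pow_succ, pow_two]
      rw [e, hCH, hτ2, sub_mul, smul_mul_assoc, one_mul, hCH, hτ2]
      have e2 : (2 : K) • ((2 : K) • X - 1) - X = 1 + (3 : K) • (X - 1) := by
        ext i j
        simp [Matrix.one_apply]
        ring
      rw [e2, h3, zero_smul, add_zero]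
    have hx3 : x ^ 3 = 1 := by
      apply Subtype.ext
      show (x : Matrix (Fin 2) (Fin 2) K) ^ 3 = 1
      rw [← hXdef]
      exact hX3
    have hd : p ∣ 3 := by rw [← hx]; exact orderOf_dvd_of_pow_eq_one hx3
    exact hp3 ((Nat.prime_dvd_prime_iff_eq hp Nat.prime_three).1 hd)
  have hb : X 0 1 ≠ 0 := by
    intro hb
    apply hirr (X 1 1)
    rw [hb] at hdet
    linear_combination (-1 : K) * hdet - X 1 1 * hτ
  -- the commutant
  have hcomm : ∀ y : SpecialLinearGroup (Fin 2) K, y * x = x * y →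
      (y : Matrix (Fin 2) (Fin 2) K) =
        ((y : Matrix (Fin 2) (Fin 2) K) 0 0 - (y : Matrix (Fin 2) (Fin 2) K) 0 1 / X 0 1 * X 0 0) •
          (1 : Matrix (Fin 2) (Fin 2) K) + ((y : Matrix (Fin 2) (Fin 2) K) 0 1 / X 0 1) • X := by
    intro y hy
    apply commutant X hb
    have h2 : (y : Matrix (Fin 2) (Fin 2) K) * (x : Matrix (Fin 2) (Fin 2) K) =
        (x : Matrix (Fin 2) (Fin 2) K) * (y : Matrix (Fin 2) (Fin 2) K) := congrArg Subtype.val hy
    rw [hXdef]; exact h2
  have hlincomm : ∀ u v u' v' : K,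
      (u • (1 : Matrix (Fin 2) (Fin 2) K) + v • X) * (u' • (1 : Matrix (Fin 2) (Fin 2) K) + v' • X) =
        (u' • (1 : Matrix (Fin 2) (Fin 2) K) + v' • X) * (u • (1 : Matrix (Fin 2) (Fin 2) K) + v • X) := by
    intro u v u' v'
    simp only [add_mul, mul_add, smul_mul_assoc, mul_smul_comm, one_mul, mul_one]
    module
  refine ⟨?_, ?_⟩
  · intro y z hy hz
    apply Subtype.ext
    show (y : Matrix (Fin 2) (Fin 2) K) * (z : Matrix (Fin 2) (Fin 2) K) =
      (z : Matrix (Fin 2) (Fin 2) K) * (y : Matrix (Fin 2) (Fin 2) K)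
    rw [hcomm y hy, hcomm z hz]
    exact hlincomm _ _ _ _
  · -- counting
    have haniso : ∀ z : K × K, N τ z = 0 → z = 0 := by
      intro z hz
      by_cases hv : z.2 = 0
      · have h1 : z.1 * z.1 = 0 := by
          simp only [N, hv] at hz
          linear_combination hz
        have h2 : z.1 = 0 := by
          rcases mul_eq_zero.1 h1 with h | h <;> exact h
        exact Prod.ext h2 hv
      · exfalso
        apply hirr (-z.1 / z.2)
        simp only [N] at hz
        field_simp
        linear_combination hz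
    have hsurj : ∀ c : K, c ≠ 0 → ∃ w : K × K, N τ w = c := by
      intro c hc
      have hδ : 1 - τ * τ ≠ 0 := by
        intro hδ0
        apply hirr (-τ)
        linear_combination (-2 : K) * hδ0 + h3
      have hodd : Fintype.card K % 2 = 1 := by
        rw [hq]
        exact Nat.odd_iff.1 (Odd.pow (by decide))
      have hf : (Polynomial.X ^ 2 : Polynomial K).degree = 2 := by
        rw [Polynomial.degree_X_pow]; rfl
      have hg : (Polynomial.C (1 - τ * τ) * Polynomial.X ^ 2 - Polynomial.C c :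
          Polynomial K).degree = 2 := by
        rw [Polynomial.degree_sub_C (by rw [Polynomial.degree_C_mul_X_pow 2 hδ]; norm_num),
          Polynomial.degree_C_mul_X_pow 2 hδ]
        rfl
      obtain ⟨a, b, hab⟩ := FiniteField.exists_root_sum_quadratic hf hg hodd
      simp only [Polynomial.eval_pow, Polynomial.eval_X, Polynomial.eval_sub, Polynomial.eval_mul,
        Polynomial.eval_C] at hab
      refine ⟨(a + τ * b, b), ?_⟩
      simp only [N]
      linear_combination hab + (τ * a * b + τ * τ * b * b) * h3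
    have hcount := card_norm_one τ haniso hsurj
    have hbij : Nat.card {y : SpecialLinearGroup (Fin 2) K // y * x = x * y} =
        Nat.card {z : K × K // N τ z = 1} := by
      have hN : ∀ y : {y : SpecialLinearGroup (Fin 2) K // y * x = x * y},
          N τ ((y.1 : Matrix (Fin 2) (Fin 2) K) 0 0 -
            (y.1 : Matrix (Fin 2) (Fin 2) K) 0 1 / X 0 1 * X 0 0,
            (y.1 : Matrix (Fin 2) (Fin 2) K) 0 1 / X 0 1) = 1 := by
        intro y
        rw [hτ, ← det_lin X hdet, ← hcomm y.1 y.2]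
        exact y.1.2
      refine Nat.card_congr (Equiv.ofBijective
        (fun y => (⟨_, hN y⟩ : {z : K × K // N τ z = 1})) ⟨?_, ?_⟩)
      · intro y y' hyy'
        have h1 := congrArg (fun z : {z : K × K // N τ z = 1} => z.1.1) hyy'
        have h2 := congrArg (fun z : {z : K × K // N τ z = 1} => z.1.2) hyy'
        simp only at h1 h2
        apply Subtype.ext
        apply Subtype.ext
        rw [hcomm y.1 y.2, hcomm y'.1 y'.2, h1, h2]
      · rintro ⟨z, hz⟩
        have hdz : (z.1 • (1 : Matrix (Fin 2) (Fin 2) K) + z.2 • X).det = 1 := by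
          rw [det_lin X hdet, ← hτ]; exact hz
        obtain ⟨g, hg⟩ : ∃ g : SpecialLinearGroup (Fin 2) K,
            (g : Matrix (Fin 2) (Fin 2) K) = z.1 • (1 : Matrix (Fin 2) (Fin 2) K) + z.2 • X :=
          ⟨⟨_, hdz⟩, rfl⟩
        have hcz : g * x = x * g := by
          apply Subtype.ext
          show (g : Matrix (Fin 2) (Fin 2) K) * (x : Matrix (Fin 2) (Fin 2) K) =
            (x : Matrix (Fin 2) (Fin 2) K) * (g : Matrix (Fin 2) (Fin 2) K)
          rw [← hXdef, hg]
          have h := hlincomm z.1 z.2 0 1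
          simp only [zero_smul, zero_add, one_smul] at h
          exact h
        refine ⟨⟨g, hcz⟩, ?_⟩
        apply Subtype.ext
        refine Prod.ext ?_ ?_
        · show (g : Matrix (Fin 2) (Fin 2) K) 0 0 -
            (g : Matrix (Fin 2) (Fin 2) K) 0 1 / X 0 1 * X 0 0 = z.1
          rw [hg]
          simp
          field_simp
          ring
        · show (g : Matrix (Fin 2) (Fin 2) K) 0 1 / X 0 1 = z.2
          rw [hg]
          simp
          field_simp
    rw [hbij, Nat.card_eq_fintype_card, Fintype.card_subtype, hcount, hq]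

end Cfsg.Agent.Lib.Helper30.R59SLC
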