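import Mathlib
import Cfsg.Agent.Lib.Helper4.UniStmt

set_option autoImplicit false

/-! Piece [HEIS] of S4395: the Heisenberg-type group `{(x, z) : z + s z = x * s x}` with
`(x, z) (x', z') = (x + x', z + z' + s x * x')` and the automorphism `(x, z) ↦ (lam x, z)`. -/

namespace Cfsg.Agent.Lib.Helper30.UniHEIS

open Cfsg.Agent.Lib.Helper4.UniStmt

universe u

/-- the underlying type of the Heisenberg-type group -/
@[ext] structure Heis (K : Type u) [Field K] (s : K →+* K) where
  /-- first coordinate -/
  x : K
  /-- second coordinate -/
  z : K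
  /-- the defining relation -/
  h : z + s z = x * s x

namespace Heis

variable {K : Type u} [Field K] {s : K →+* K}

/-- the product -/
def mul' (hs : ∀ x, s (s x) = x) (g h : Heis K s) : Heis K s :=
  ⟨g.x + h.x, g.z + h.z + s g.x * h.x, by
    rw [map_add, map_add, map_mul, hs, map_add]
    linear_combination g.h + h.h⟩

/-- the identity -/
def one' : Heis K s := ⟨0, 0, by simp⟩

/-- the inverse -/
def inv' (hs : ∀ x, s (s x) = x) (g : Heis K s) : Heis K s :=
  ⟨-g.x, s g.x * g.x - g.z, by
    rw [map_sub, map_mul, hs, map_neg]
    linear_combination (-1 : K) * g.h⟩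

/-- the group structure -/
def group (hs : ∀ x, s (s x) = x) : Group (Heis K s) where
  mul := mul' hs
  one := one'
  inv := inv' hs
  mul_assoc := by
    intro a b c
    show mul' hs (mul' hs a b) c = mul' hs a (mul' hs b c)
    apply Heis.ext
    · show a.x + b.x + c.x = a.x + (b.x + c.x)
      ring
    · show a.z + b.z + s a.x * b.x + c.z + s (a.x + b.x) * c.x =
        a.z + (b.z + c.z + s b.x * c.x) + s a.x * (b.x + c.x)
      rw [map_add]
      ring
  one_mul := by
    intro a
    show mul' hs one' a = a
    apply Heis.ext
    · show (0 : K) + a.x = a.x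
      ring
    · show (0 : K) + a.z + s 0 * a.x = a.z
      rw [map_zero]
      ring
  mul_one := by
    intro a
    show mul' hs a one' = a
    apply Heis.ext
    · show a.x + (0 : K) = a.x
      ring
    · show a.z + (0 : K) + s a.x * 0 = a.z
      ring
  inv_mul_cancel := by
    intro a
    show mul' hs (inv' hs a) a = one'
    apply Heis.ext
    · show -a.x + a.x = (0 : K)
      ring
    · show s a.x * a.x - a.z + a.z + s (-a.x) * a.x = (0 : K)
      rw [map_neg]
      ring

theorem finite [Finite K] : Finite (Heis K s) :=
  Finite.of_injective (fun g : Heis K s => (g.x, g.z)) (by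
    intro g h e
    have e1 : g.x = h.x := congrArg Prod.fst e
    have e2 : g.z = h.z := congrArg Prod.snd e
    exact Heis.ext e1 e2)

end Heis

theorem main : HEIS.{u} := by
  intro K _ _ lam s hs hlam
  letI : Group (Heis K s) := Heis.group hs
  have hlam' : s lam * lam = 1 := by rw [mul_comm]; exact hlam
  have hmulx : ∀ g h : Heis K s, (g * h).x = g.x + h.x := fun g h => rfl
  have hmulz : ∀ g h : Heis K s, (g * h).z = g.z + h.z + s g.x * h.x := fun g h => rfl
  let f : Heis K s → Heis K s := fun g => ⟨lam * g.x, g.z, by
    rw [map_mul, g.h]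
    linear_combination (-(g.x * s g.x)) * hlam⟩
  let fi : Heis K s → Heis K s := fun g => ⟨s lam * g.x, g.z, by
    rw [map_mul, hs, g.h]
    linear_combination (-(g.x * s g.x)) * hlam⟩
  let α : MulAut (Heis K s) :=
    { toFun := f
      invFun := fi
      left_inv := by
        intro g
        apply Heis.ext
        · show s lam * (lam * g.x) = g.x
          rw [← mul_assoc, hlam', one_mul]
        · rfl
      right_inv := by
        intro g
        apply Heis.ext
        · show lam * (s lam * g.x) = g.x
          rw [← mul_assoc, hlam, one_mul]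
        · rfl
      map_mul' := by
        intro g h
        apply Heis.ext
        · show lam * (g * h).x = (f g * f h).x
          rw [hmulx, hmulx]
          show lam * (g.x + h.x) = lam * g.x + lam * h.x
          ring
        · show (g * h).z = (f g * f h).z
          rw [hmulz, hmulz]
          show g.z + h.z + s g.x * h.x = g.z + h.z + s (lam * g.x) * (lam * h.x)
          rw [map_mul]
          linear_combination (-(s g.x * h.x)) * hlam' }
  refine ⟨Heis K s, inferInstance, Heis.finite, α, fun g => g.x, fun g => g.z, hmulx, hmulz,
    fun g h e1 e2 => Heis.ext e1 e2, fun g => g.h, fun x z hxz => ⟨⟨x, z, hxz⟩, rfl, rfl⟩,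
    fun g => rfl, fun g => rfl⟩

end Cfsg.Agent.Lib.Helper30.UniHEIS
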