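import Mathlib
import Cfsg.Agent.Lib.Helper25.AICSpec

/-!
# S2202 / D2e: the Burnside-type contradiction for `W ≤ Y`
-/

set_option autoImplicit false

namespace Cfsg.Agent.Lib.Helper30.AICD2e

open Cfsg.Agent.Lib.Helper25.AICSpec Subgroup

universe u

variable {G : Type u} [Group G] {S : Sylow 2 G} {Y : Subgroup G}

theorem S_le_NS (hD : DSet G S Y) : (S : Subgroup G) ≤ NS S :=
  fun _ hx => hD.loc.l1.cle (hD.loc.l1.le hx)

variable [Finite G]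

theorem card_S (hD : DSet G S Y) : Nat.card (S : Subgroup G) = qm1 S + 1 := by
  have h1 : qm1 S = ({t : G | t ∈ S ∧ orderOf t = 2} : Set G).ncard := rfl
  have h2 : ((S : Subgroup G) : Set G) = insert 1 {t : G | t ∈ S ∧ orderOf t = 2} := by
    ext t
    constructor
    · intro ht
      by_cases h : t = 1
      · exact Or.inl h
      · exact Or.inr ⟨ht, orderOf_eq_prime (hD.elem t ht) h⟩
    · rintro (rfl | ⟨ht, _⟩)
      · exact (S : Subgroup G).one_mem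
      · exact ht
  have h3 : (1 : G) ∉ ({t : G | t ∈ S ∧ orderOf t = 2} : Set G) := by
    rintro ⟨_, h⟩
    rw [orderOf_one] at h
    omega
  have h4 : Nat.card (S : Subgroup G) = (((S : Subgroup G) : Set G)).ncard := rfl
  rw [h4, h2, Set.ncard_insert_of_notMem h3, h1]

omit [Finite G] in
/-- semiregularity of `S` on the cosets outside `H`. -/
theorem semireg (hD : DSet G S Y) {s y : G} (hs : s ∈ S) (hy : y ∉ NS S)
    (h : y⁻¹ * s * y ∈ NS S) : s = 1 := by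
  by_contra h1
  have ho' : orderOf (y⁻¹ * s * y) = 2 := by
    refine orderOf_eq_prime ?_ ?_
    · have : (y⁻¹ * s * y) ^ 2 = y⁻¹ * s ^ 2 * y := by simp [sq, mul_assoc]
      rw [this, hD.elem s hs]; group
    · intro h2
      apply h1
      have : s = y * (y⁻¹ * s * y) * y⁻¹ := by group
      rw [this, h2]; group
  have hmem := hD.loc.l1.inv_mem _ h ho'
  exact hy (hD.loc.l1.ti y s hs h1 hmem)

/-- regularity: `Y \ H = S y₁ H`. -/
theorem reg (hD : DSet G S Y) {y₁ y₂ : G} (h1 : y₁ ∈ Y) (h1' : y₁ ∉ NS S) (h2 : y₂ ∈ Y)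
    (h2' : y₂ ∉ NS S) : ∃ s ∈ S, ∃ h ∈ NS S, y₂ = s * y₁ * h := by
  classical
  let f : ↥(S : Subgroup G) × ↥(NS S) → G := fun x => x.1.1 * y₁ * x.2.1
  have hinj : Function.Injective f := by
    rintro ⟨⟨s, hs⟩, ⟨h, hh⟩⟩ ⟨⟨s', hs'⟩, ⟨h', hh'⟩⟩ heq
    have heq' : s * y₁ * h = s' * y₁ * h' := heq
    have e1 : y₁⁻¹ * (s'⁻¹ * s) * y₁ = h' * h⁻¹ := by
      calc y₁⁻¹ * (s'⁻¹ * s) * y₁ = y₁⁻¹ * s'⁻¹ * (s * y₁ * h) * h⁻¹ := by group
        _ = y₁⁻¹ * s'⁻¹ * (s' * y₁ * h') * h⁻¹ := by rw [heq']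
        _ = h' * h⁻¹ := by group
    have e2 : s'⁻¹ * s = 1 :=
      semireg hD ((S : Subgroup G).mul_mem ((S : Subgroup G).inv_mem hs') hs) h1'
        (by rw [e1]; exact (NS S).mul_mem hh' ((NS S).inv_mem hh))
    have e3 : s = s' := (inv_mul_eq_one.mp e2).symm
    subst e3
    have e4 : h = h' := mul_left_cancel heq'
    subst e4
    rfl
  have hsub : Set.range f ⊆ (Y : Set G) \ (NS S : Set G) := by
    rintro _ ⟨⟨⟨s, hs⟩, ⟨h, hh⟩⟩, rfl⟩
    refine ⟨?_, ?_⟩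
    · exact Y.mul_mem (Y.mul_mem (hD.le (S_le_NS hD hs)) h1) (hD.le hh)
    · intro hmem
      apply h1'
      have : y₁ = s⁻¹ * (s * y₁ * h) * h⁻¹ := by group
      rw [this]
      exact (NS S).mul_mem ((NS S).mul_mem ((NS S).inv_mem (S_le_NS hD hs)) hmem)
        ((NS S).inv_mem hh)
  have hc1 : (Set.range f).ncard = Nat.card (S : Subgroup G) * Nat.card (NS S) := by
    rw [Set.ncard_range_of_injective hinj, Nat.card_prod]
  have hc2 : ((Y : Set G) \ (NS S : Set G)).ncard =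
      Nat.card (S : Subgroup G) * Nat.card (NS S) := by
    have hsubHY : ((NS S : Subgroup G) : Set G) ⊆ (Y : Set G) := hD.le
    rw [Set.ncard_sdiff hsubHY]
    have e1 : ((Y : Set G)).ncard = Nat.card Y := rfl
    have e2 : ((NS S : Subgroup G) : Set G).ncard = Nat.card (NS S) := rfl
    rw [e1, e2, hD.card]
    have : (Nat.card (S : Subgroup G) + 1) * Nat.card (NS S) =
        Nat.card (S : Subgroup G) * Nat.card (NS S) + Nat.card (NS S) := by ring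
    omega
  have heq : Set.range f = (Y : Set G) \ (NS S : Set G) :=
    Set.eq_of_subset_of_ncard_le hsub (by rw [hc1, hc2])
  have hmem : y₂ ∈ Set.range f := by rw [heq]; exact ⟨h2, h2'⟩
  obtain ⟨⟨⟨s, hs⟩, ⟨h, hh⟩⟩, rfl⟩ := hmem
  exact ⟨s, hs, h, hh, rfl⟩

/-- an element of `H \ C` fixes at most one coset outside `H`. -/
theorem fix_unique (hD : DSet G S Y) {p y₁ y₂ : G} (hp : p ∈ NS S) (hpC : p ∉ CS S)
    (h1 : y₁ ∈ Y) (h1' : y₁ ∉ NS S) (h2 : y₂ ∈ Y) (h2' : y₂ ∉ NS S)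
    (hf1 : y₁⁻¹ * p * y₁ ∈ NS S) (hf2 : y₂⁻¹ * p * y₂ ∈ NS S) : y₁⁻¹ * y₂ ∈ NS S := by
  obtain ⟨s, hs, h, hh, rfl⟩ := reg hD h1 h1' h2 h2'
  have hs' : s ∈ (S : Subgroup G) := hs
  have hpsp : p * s * p⁻¹ ∈ (S : Subgroup G) := by
    have := (Subgroup.mem_normalizer_iff.mp hp s).1 hs'
    exact this
  have e1 : y₁⁻¹ * (s⁻¹ * (p * s * p⁻¹)) * y₁ ∈ NS S := by
    have e : y₁⁻¹ * (s⁻¹ * (p * s * p⁻¹)) * y₁ =
        h * ((s * y₁ * h)⁻¹ * p * (s * y₁ * h)) * h⁻¹ * (y₁⁻¹ * p * y₁)⁻¹ := by group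
    rw [e]
    exact (NS S).mul_mem ((NS S).mul_mem ((NS S).mul_mem hh hf2) ((NS S).inv_mem hh))
      ((NS S).inv_mem hf1)
  have e2 : s⁻¹ * (p * s * p⁻¹) = 1 :=
    semireg hD ((S : Subgroup G).mul_mem ((S : Subgroup G).inv_mem hs') hpsp) h1' e1
  have e3 : p * s * p⁻¹ = s := by
    have := inv_mul_eq_one.mp e2
    exact this.symm
  have hs1 : s = 1 := by
    by_contra hne
    have ho : orderOf s = 2 := orderOf_eq_prime (hD.elem s hs) hne
    have hcent := hD.loc.l1.cent s hs ho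
    apply hpC
    rw [← hcent, Subgroup.mem_centralizer_iff]
    intro x hx
    rw [Set.mem_singleton_iff] at hx
    subst hx
    have : p * x = x * p := by
      calc p * x = p * x * p⁻¹ * p := by group
        _ = x * p := by rw [e3]
    exact this.symm
  subst hs1
  have : y₁⁻¹ * (1 * y₁ * h) = h := by group
  rw [this]
  exact hh

omit [Finite G] in
/-- elements of `W ⊓ C` are central in `Y`. -/
theorem z_central (hD : DSet G S Y) {W : Subgroup G} (hodd : Odd (Nat.card W)) {z y : G}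
    (hz : z ∈ W) (hzC : z ∈ CS S) (hy : y ∈ Y) : y * z = z * y := by
  refine hD.cen y hy z ⟨hzC, ?_⟩
  have h1 : orderOf z ∣ Nat.card W := by
    have := orderOf_dvd_natCard (⟨z, hz⟩ : W)
    rwa [Subgroup.orderOf_mk] at this
  exact Odd.of_dvd_nat hodd h1

omit [Finite G] in
theorem sy_mem (hD : DSet G S Y) {s y₁ : G} (hs : s ∈ S) (h1 : y₁ ∈ Y) : s * y₁ ∈ Y :=
  Y.mul_mem (hD.le (S_le_NS hD hs)) h1

omit [Finite G] in
theorem gy_not_mem {g y₁ : G} (hg : g ∈ NS S) (h1' : y₁ ∉ NS S) : g * y₁ ∉ NS S := by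
  intro h
  apply h1'
  have : y₁ = g⁻¹ * (g * y₁) := by group
  rw [this]
  exact (NS S).mul_mem ((NS S).inv_mem hg) h

/-- some coset outside `H` has stabiliser in `P = W ⊓ H` equal to `W ⊓ C`. -/
theorem exists_free (hD : DSet G S Y) {W : Subgroup G} (hodd : Odd (Nat.card W))
    (hcard : Nat.card (W ⊓ NS S : Subgroup G) = qm1 S * Nat.card (W ⊓ CS S : Subgroup G))
    {y₁ : G} (h1 : y₁ ∈ Y) (h1' : y₁ ∉ NS S) :
    ∃ s ∈ S, ∀ p ∈ W ⊓ NS S, (s * y₁)⁻¹ * p * (s * y₁) ∈ NS S → p ∈ CS S := by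
  classical
  by_contra hcon
  push Not at hcon
  choose! P hP using hcon
  let φ : ↥(S : Subgroup G) × ↥(W ⊓ CS S : Subgroup G) → G := fun x => P x.1.1 * x.2.1
  have hfixed : ∀ s ∈ S, ∀ z ∈ (W ⊓ CS S : Subgroup G),
      (s * y₁)⁻¹ * (P s * z) * (s * y₁) ∈ NS S := by
    intro s hs z hz
    have hc : (s * y₁) * z = z * (s * y₁) := z_central hD hodd hz.1 hz.2 (sy_mem hD hs h1)
    have e : (s * y₁)⁻¹ * (P s * z) * (s * y₁) = (s * y₁)⁻¹ * P s * (s * y₁) * z := by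
      calc (s * y₁)⁻¹ * (P s * z) * (s * y₁) = (s * y₁)⁻¹ * P s * (z * (s * y₁)) := by group
        _ = (s * y₁)⁻¹ * P s * ((s * y₁) * z) := by rw [hc]
        _ = (s * y₁)⁻¹ * P s * (s * y₁) * z := by group
    rw [e]
    exact (NS S).mul_mem (hP s hs).2.1 (hD.loc.l1.cle hz.2)
  have hnotC : ∀ s ∈ S, ∀ z ∈ (W ⊓ CS S : Subgroup G), P s * z ∉ CS S := by
    intro s hs z hz hmem
    apply (hP s hs).2.2
    have : P s = P s * z * z⁻¹ := by group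
    rw [this]
    exact (CS S).mul_mem hmem ((CS S).inv_mem hz.2)
  have hinj : Function.Injective φ := by
    rintro ⟨⟨s, hs⟩, ⟨z, hz⟩⟩ ⟨⟨s', hs'⟩, ⟨z', hz'⟩⟩ heq
    have heq' : P s * z = P s' * z' := heq
    have hpH : P s * z ∈ NS S :=
      (NS S).mul_mem (hP s hs).1.2 (hD.loc.l1.cle hz.2)
    have hf1 := hfixed s hs z hz
    have hf2 := hfixed s' hs' z' hz'
    rw [← heq'] at hf2
    have h3 := fix_unique hD hpH (hnotC s hs z hz) (sy_mem hD hs h1)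
      (gy_not_mem (S_le_NS hD hs) h1') (sy_mem hD hs' h1) (gy_not_mem (S_le_NS hD hs') h1')
      hf1 hf2
    have e1 : y₁⁻¹ * (s⁻¹ * s') * y₁ = (s * y₁)⁻¹ * (s' * y₁) := by group
    have e2 : s⁻¹ * s' = 1 :=
      semireg hD ((S : Subgroup G).mul_mem ((S : Subgroup G).inv_mem hs) hs') h1'
        (by rw [e1]; exact h3)
    have e3 : s' = s := (inv_mul_eq_one.mp e2).symm
    subst e3
    have e4 : z = z' := mul_left_cancel heq'
    subst e4
    rfl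
  have hsub : Set.range φ ⊆
      ((W ⊓ NS S : Subgroup G) : Set G) \ ((W ⊓ CS S : Subgroup G) : Set G) := by
    rintro _ ⟨⟨⟨s, hs⟩, ⟨z, hz⟩⟩, rfl⟩
    refine ⟨?_, ?_⟩
    · exact (W ⊓ NS S).mul_mem (hP s hs).1 ⟨hz.1, hD.loc.l1.cle hz.2⟩
    · intro hmem
      exact hnotC s hs z hz hmem.2
  have hc1 : (Set.range φ).ncard =
      Nat.card (S : Subgroup G) * Nat.card (W ⊓ CS S : Subgroup G) := by
    rw [Set.ncard_range_of_injective hinj, Nat.card_prod]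
  have hc2 : (((W ⊓ NS S : Subgroup G) : Set G) \ ((W ⊓ CS S : Subgroup G) : Set G)).ncard =
      Nat.card (W ⊓ NS S : Subgroup G) - Nat.card (W ⊓ CS S : Subgroup G) := by
    have hsubCH : ((W ⊓ CS S : Subgroup G) : Set G) ⊆ ((W ⊓ NS S : Subgroup G) : Set G) :=
      fun p hp => ⟨hp.1, hD.loc.l1.cle hp.2⟩
    rw [Set.ncard_sdiff hsubCH]
    rfl
  have hle := Set.ncard_le_ncard hsub
  rw [hc1, hc2, hcard, card_S hD] at hle
  have hpos : 0 < Nat.card (W ⊓ CS S : Subgroup G) := Nat.card_pos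
  have : (qm1 S + 1) * Nat.card (W ⊓ CS S : Subgroup G) =
      qm1 S * Nat.card (W ⊓ CS S : Subgroup G) + Nat.card (W ⊓ CS S : Subgroup G) := by ring
  omega

omit [Finite G] in
theorem smul_mk_eq_iff {H : Subgroup G} (P : Subgroup G) (p : P) (y y' : G) :
    p • (y : G ⧸ H) = (y' : G ⧸ H) ↔ y'⁻¹ * (p : G) * y ∈ H := by
  have e0 : p • (y : G ⧸ H) = (((p : G) * y : G) : G ⧸ H) := rfl
  rw [e0, QuotientGroup.eq]
  constructor
  · intro h
    have : y'⁻¹ * (p : G) * y = ((↑p * y)⁻¹ * y')⁻¹ := by group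
    rw [this]; exact H.inv_mem h
  · intro h
    have : (↑p * y)⁻¹ * y' = (y'⁻¹ * (p : G) * y)⁻¹ := by group
    rw [this]; exact H.inv_mem h

/-- `P = W ⊓ H` fixes a coset outside `H`. -/
theorem exists_fixed (hD : DSet G S Y) {W : Subgroup G} (hodd : Odd (Nat.card W))
    (hcard : Nat.card (W ⊓ NS S : Subgroup G) = qm1 S * Nat.card (W ⊓ CS S : Subgroup G)) :
    ∃ y ∈ Y, y ∉ NS S ∧ ∀ p ∈ W ⊓ NS S, y⁻¹ * p * y ∈ NS S := by
  classical
  obtain ⟨y₁, h1, h1'⟩ : ∃ y₁ ∈ Y, y₁ ∉ NS S := by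
    by_contra h
    push Not at h
    exact hD.not_le h
  obtain ⟨s₀, hs₀, hfree⟩ := exists_free hD hodd hcard h1 h1'
  have hy₀Y : s₀ * y₁ ∈ Y := sy_mem hD hs₀ h1
  have hy₀H : s₀ * y₁ ∉ NS S := gy_not_mem (S_le_NS hD hs₀) h1'
  let P : Subgroup G := W ⊓ NS S
  let ω₀ : G ⧸ NS S := ((s₀ * y₁ : G) : G ⧸ NS S)
  have horb := Nat.card_congr (MulAction.orbitProdStabilizerEquivGroup ↥P ω₀)
  rw [Nat.card_prod] at horb
  have hstab : Nat.card (MulAction.stabilizer ↥P ω₀) = Nat.card (W ⊓ CS S : Subgroup G) := by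
    refine Nat.card_congr ⟨fun p => ⟨p.1.1, p.1.2.1, ?_⟩, fun z => ⟨⟨z.1, z.2.1, ?_⟩, ?_⟩, ?_, ?_⟩
    · have hp := p.2
      rw [MulAction.mem_stabilizer_iff, smul_mk_eq_iff] at hp
      exact hfree p.1.1 p.1.2 hp
    · exact hD.loc.l1.cle z.2.2
    · rw [MulAction.mem_stabilizer_iff, smul_mk_eq_iff]
      have hc : (s₀ * y₁) * z.1 = z.1 * (s₀ * y₁) := z_central hD hodd z.2.1 z.2.2 hy₀Y
      have e : (s₀ * y₁)⁻¹ * z.1 * (s₀ * y₁) = z.1 := by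
        calc (s₀ * y₁)⁻¹ * z.1 * (s₀ * y₁) = (s₀ * y₁)⁻¹ * (z.1 * (s₀ * y₁)) := by group
          _ = (s₀ * y₁)⁻¹ * ((s₀ * y₁) * z.1) := by rw [hc]
          _ = z.1 := by group
      show (s₀ * y₁)⁻¹ * z.1 * (s₀ * y₁) ∈ NS S
      rw [e]
      exact hD.loc.l1.cle z.2.2
    · intro p; rfl
    · intro z; rfl
  have hPcard : Nat.card ↥P = qm1 S * Nat.card (W ⊓ CS S : Subgroup G) := hcard
  rw [hstab, hPcard] at horb
  have hpos : 0 < Nat.card (W ⊓ CS S : Subgroup G) := Nat.card_pos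
  have hO : (MulAction.orbit ↥P ω₀).ncard = qm1 S := by
    have : Nat.card ↥(MulAction.orbit ↥P ω₀) = qm1 S := Nat.eq_of_mul_eq_mul_right hpos horb
    exact this
  -- the set of cosets outside `H`
  let Ω : Set (G ⧸ NS S) :=
    Set.range (fun s : ↥(S : Subgroup G) => ((s.1 * y₁ : G) : G ⧸ NS S))
  have hΩinj : Function.Injective
      (fun s : ↥(S : Subgroup G) => ((s.1 * y₁ : G) : G ⧸ NS S)) := by
    rintro ⟨s, hs⟩ ⟨s', hs'⟩ heq
    have heq' : ((s * y₁ : G) : G ⧸ NS S) = ((s' * y₁ : G) : G ⧸ NS S) := heq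
    rw [QuotientGroup.eq] at heq'
    have e1 : y₁⁻¹ * (s⁻¹ * s') * y₁ = (s * y₁)⁻¹ * (s' * y₁) := by group
    have e2 : s⁻¹ * s' = 1 :=
      semireg hD ((S : Subgroup G).mul_mem ((S : Subgroup G).inv_mem hs) hs') h1'
        (by rw [e1]; exact heq')
    have e3 : s' = s := (inv_mul_eq_one.mp e2).symm
    subst e3
    rfl
  have hΩcard : Ω.ncard = qm1 S + 1 := by
    rw [Set.ncard_range_of_injective hΩinj, card_S hD]
  have hΩmem : ∀ y ∈ Y, y ∉ NS S → ((y : G) : G ⧸ NS S) ∈ Ω := by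
    intro y hy hy'
    obtain ⟨s, hs, h, hh, rfl⟩ := reg hD h1 h1' hy hy'
    refine ⟨⟨s, hs⟩, ?_⟩
    show ((s * y₁ : G) : G ⧸ NS S) = ((s * y₁ * h : G) : G ⧸ NS S)
    rw [QuotientGroup.eq]
    have : (s * y₁)⁻¹ * (s * y₁ * h) = h := by group
    rw [this]; exact hh
  have hΩsmul : ∀ (p : ↥P) (ω : G ⧸ NS S), ω ∈ Ω → p • ω ∈ Ω := by
    rintro p _ ⟨⟨s, hs⟩, rfl⟩
    have : p • ((s * y₁ : G) : G ⧸ NS S) = (((p : G) * (s * y₁) : G) : G ⧸ NS S) := rfl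
    show p • ((s * y₁ : G) : G ⧸ NS S) ∈ Ω
    rw [this]
    exact hΩmem _ (Y.mul_mem (hD.le p.2.2) (sy_mem hD hs h1))
      (gy_not_mem p.2.2 (gy_not_mem (S_le_NS hD hs) h1'))
  have hOsub : MulAction.orbit ↥P ω₀ ⊆ Ω := by
    rintro _ ⟨p, rfl⟩
    exact hΩsmul p ω₀ (hΩmem _ hy₀Y hy₀H)
  have hdiff : (Ω \ MulAction.orbit ↥P ω₀).ncard = 1 := by
    rw [Set.ncard_sdiff hOsub, hΩcard, hO]; omega
  obtain ⟨a, ha⟩ := Set.ncard_eq_one.mp hdiff
  have haΩ : a ∈ Ω \ MulAction.orbit ↥P ω₀ := by rw [ha]; rfl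
  obtain ⟨⟨s, hs⟩, hsa⟩ := haΩ.1
  refine ⟨s * y₁, sy_mem hD hs h1, gy_not_mem (S_le_NS hD hs) h1', ?_⟩
  intro p hp
  have hpa : (⟨p, hp⟩ : ↥P) • a ∈ Ω \ MulAction.orbit ↥P ω₀ := by
    refine ⟨hΩsmul _ a haΩ.1, ?_⟩
    intro hmem
    apply haΩ.2
    have := MulAction.mem_orbit_of_mem_orbit (⟨p, hp⟩ : ↥P)⁻¹ hmem
    rwa [inv_smul_smul] at this
  rw [ha, Set.mem_singleton_iff] at hpa
  have hsa' : ((s * y₁ : G) : G ⧸ NS S) = a := hsa
  rw [← hsa', smul_mk_eq_iff] at hpa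
  exact hpa

theorem main : D2e.{u} := by
  intro G _ _ S Y hD W hWY hodd htrans hcard
  classical
  obtain ⟨y, hyY, hyH, hfix⟩ := exists_fixed hD hodd hcard
  obtain ⟨x', hx'W, hx'⟩ := htrans y⁻¹ (Y.inv_mem hyY)
  rw [inv_inv] at hx'
  have hxW : x'⁻¹ ∈ W := W.inv_mem hx'W
  have hxy : (x'⁻¹)⁻¹ * y ∈ NS S := by rw [inv_inv]; exact hx'
  generalize x'⁻¹ = x at hxW hxy
  have hxH : x ∉ NS S := by
    intro h
    apply hyH
    have : y = x * (x⁻¹ * y) := by group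
    rw [this]
    exact (NS S).mul_mem h hxy
  have hfx : ∀ p ∈ W ⊓ NS S, x⁻¹ * p * x ∈ W ⊓ NS S := by
    intro p hp
    refine ⟨W.mul_mem (W.mul_mem (W.inv_mem hxW) hp.1) hxW, ?_⟩
    have : x⁻¹ * p * x = (x⁻¹ * y) * (y⁻¹ * p * y) * (x⁻¹ * y)⁻¹ := by group
    rw [this]
    exact (NS S).mul_mem ((NS S).mul_mem hxy (hfix p hp)) ((NS S).inv_mem hxy)
  obtain ⟨p₀, hp₀, hp₀C⟩ : ∃ p₀ ∈ W ⊓ NS S, p₀ ∉ CS S := by
    by_contra hcon
    push Not at hcon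
    have hle : (W ⊓ NS S : Subgroup G) ≤ W ⊓ CS S := fun p hp => ⟨hp.1, hcon p hp⟩
    have hge : (W ⊓ CS S : Subgroup G) ≤ W ⊓ NS S := fun p hp => ⟨hp.1, hD.loc.l1.cle hp.2⟩
    have heq := le_antisymm hle hge
    rw [heq] at hcard
    have hpos : 0 < Nat.card (W ⊓ CS S : Subgroup G) := Nat.card_pos
    have h3 := hD.loc.three
    nlinarith
  have hx2 : x * x ∈ NS S := by
    by_contra hx2
    have hf2 : (x * x)⁻¹ * p₀ * (x * x) ∈ NS S := by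
      have : (x * x)⁻¹ * p₀ * (x * x) = x⁻¹ * (x⁻¹ * p₀ * x) * x := by group
      rw [this]
      exact (hfx _ (hfx p₀ hp₀)).2
    have h1 := fix_unique hD hp₀.2 hp₀C (hWY (W.mul_mem hxW hxW)) hx2 (hWY hxW) hxH hf2
      (hfx p₀ hp₀).2
    apply hxH
    have : x = ((x * x)⁻¹ * x)⁻¹ := by group
    rw [this]
    exact (NS S).inv_mem h1
  have ho : Odd (orderOf x) := by
    have h1 : orderOf x ∣ Nat.card W := by
      have := orderOf_dvd_natCard (⟨x, hxW⟩ : W)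
      rwa [Subgroup.orderOf_mk] at this
    exact Odd.of_dvd_nat hodd h1
  obtain ⟨k, hk⟩ := ho
  apply hxH
  have : x = (x * x) ^ (k + 1) := by
    have e : (x * x) ^ (k + 1) = x ^ (2 * k + 1) * x := by
      have h2 : 2 * (k + 1) = 2 * k + 1 + 1 := by ring
      rw [← sq, ← pow_mul, ← pow_succ, h2]
    rw [e, ← hk, pow_orderOf_eq_one, one_mul]
  rw [this]
  exact (NS S).pow_mem hx2 _

end Cfsg.Agent.Lib.Helper30.AICD2e
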