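import Mathlib
import Cfsg.Agent.Lib.Helper31.CoprimeGen
import Cfsg.Agent.Lib.Helper54.OddAutTwo
import Cfsg.Agent.Lib.Helper24.Coprime

/-!
# Transfer of "inner" coprime-action lemmas to automorphisms, via the holomorph

For a finite group `W` the holomorph `W ⋊ Aut W` realises every automorphism of `W` as a
conjugation.  We use it to restate, for automorphisms and invariant subgroups of `W`:

* `gen_restrict`: rank two coprime generation on an invariant subgroup;
* `quat_of_aut`: a 2-subgroup with at most one involution admitting a nontrivial automorphism of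
  odd order is a quaternion group of order 8;
* `card_modEq_fix`: the fixed point congruence for an automorphism of `p`-power order.
-/

set_option autoImplicit false

namespace Cfsg.Agent.Lib.Helper30.Hol

open Cfsg.Agent.Lib.Helper31.CoprimeGen

variable {W : Type*} [Group W]

/-- The holomorph of `W`. -/
abbrev Holo (W : Type*) [Group W] := W ⋊[MonoidHom.id (MulAut W)] MulAut W

instance instFiniteHolo [Finite W] : Finite (Holo W) :=
  Finite.of_equiv _ SemidirectProduct.equivProd.symm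

theorem conj_inl (φ : MulAut W) (w : W) :
    (SemidirectProduct.inr φ : Holo W) * SemidirectProduct.inl w * (SemidirectProduct.inr φ)⁻¹
      = SemidirectProduct.inl (φ w) := by
  have h := SemidirectProduct.inl_aut (φ := MonoidHom.id (MulAut W)) φ w
  rw [MonoidHom.id_apply] at h
  rw [h, map_inv]

theorem commute_inl_iff (φ : MulAut W) (w : W) :
    (SemidirectProduct.inr φ : Holo W) * SemidirectProduct.inl w
      = SemidirectProduct.inl w * SemidirectProduct.inr φ ↔ φ w = w := by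
  constructor
  · intro h
    have h2 := conj_inl φ w
    rw [h, mul_assoc, mul_inv_cancel, mul_one] at h2
    exact (SemidirectProduct.inl_injective h2).symm
  · intro h
    have h2 := conj_inl φ w
    rw [h] at h2
    calc (SemidirectProduct.inr φ : Holo W) * SemidirectProduct.inl w
        = (SemidirectProduct.inr φ * SemidirectProduct.inl w * (SemidirectProduct.inr φ)⁻¹)
            * SemidirectProduct.inr φ := by group
      _ = SemidirectProduct.inl w * SemidirectProduct.inr φ := by rw [h2]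

theorem map_inf_fix (T : Subgroup W) (φ : MulAut W) :
    T.map (SemidirectProduct.inl : W →* Holo W) ⊓
        Subgroup.centralizer {(SemidirectProduct.inr φ : Holo W)}
      = (T ⊓ fixSub φ).map (SemidirectProduct.inl : W →* Holo W) := by
  ext x
  simp only [Subgroup.mem_inf, Subgroup.mem_map, Subgroup.mem_centralizer_iff,
    Set.mem_singleton_iff, forall_eq, mem_fixSub]
  constructor
  · rintro ⟨⟨w, hw, rfl⟩, hc⟩
    exact ⟨w, ⟨hw, (commute_inl_iff φ w).1 hc⟩, rfl⟩
  · rintro ⟨w, ⟨hw, hf⟩, rfl⟩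
    exact ⟨⟨w, hw, rfl⟩, (commute_inl_iff φ w).2 hf⟩

theorem inr_mem_normalizer (T : Subgroup W) (φ : MulAut W) (hφT : ∀ x, φ x ∈ T ↔ x ∈ T) :
    (SemidirectProduct.inr φ : Holo W) ∈
      Subgroup.normalizer ((T.map (SemidirectProduct.inl : W →* Holo W) : Subgroup (Holo W)) :
        Set (Holo W)) := by
  rw [Subgroup.mem_normalizer_iff]
  intro n
  constructor
  · rintro ⟨w, hw, rfl⟩
    rw [conj_inl]
    exact ⟨φ w, (hφT w).2 hw, rfl⟩
  · rintro ⟨w, hw, hweq⟩
    refine ⟨φ⁻¹ w, ?_, ?_⟩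
    · have h1 := hφT (φ⁻¹ w)
      rw [MulAut.apply_inv_self] at h1
      exact h1.1 hw
    · have h2 := conj_inl φ (φ⁻¹ w)
      rw [MulAut.apply_inv_self] at h2
      have h3 : n = (SemidirectProduct.inr φ : Holo W)⁻¹ *
          (SemidirectProduct.inr φ * n * (SemidirectProduct.inr φ)⁻¹) *
          SemidirectProduct.inr φ := by group
      rw [h3, ← hweq, ← h2]
      group

theorem isPGroup_zpowers {G : Type*} [Group G] {p : ℕ} (a : G) (ha : a ^ p = 1) :
    IsPGroup p (Subgroup.zpowers a) := by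
  rintro ⟨g, hg⟩
  obtain ⟨k, rfl⟩ := Subgroup.mem_zpowers_iff.1 hg
  refine ⟨1, Subtype.ext ?_⟩
  simp only [pow_one, Subgroup.coe_pow, Subgroup.coe_one]
  rw [← zpow_natCast, ← zpow_mul, mul_comm, zpow_mul, zpow_natCast, ha, one_zpow]

/-- Rank two coprime generation on an invariant subgroup, for automorphisms. -/
theorem gen_restrict [Finite W] {p : ℕ} [Fact p.Prime] (T : Subgroup W)
    (hT : ¬ p ∣ Nat.card T) (α β : MulAut W) (hαβ : α * β = β * α) (hα : α ^ p = 1)
    (hβ : β ^ p = 1) (hαT : ∀ x, α x ∈ T ↔ x ∈ T) (hβT : ∀ x, β x ∈ T ↔ x ∈ T) :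
    T ≤ (T ⊓ fixSub β) ⊔ ⨆ j ∈ Finset.range p, T ⊓ fixSub (α * β ^ j) := by
  set ι : W →* Holo W := SemidirectProduct.inl with hι
  have hinj : Function.Injective ι := SemidirectProduct.inl_injective
  set a : Holo W := SemidirectProduct.inr α with ha
  set b : Holo W := SemidirectProduct.inr β with hb
  have hab : a * b = b * a := by
    rw [ha, hb, ← map_mul, ← map_mul, hαβ]
  have hap : a ^ p = 1 := by rw [ha, ← map_pow, hα, map_one]
  have hbp : b ^ p = 1 := by rw [hb, ← map_pow, hβ, map_one]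
  have hE : IsPGroup p (Subgroup.zpowers a ⊔ Subgroup.zpowers b : Subgroup (Holo W)) := by
    refine IsPGroup.to_sup_of_normal_right' (isPGroup_zpowers a hap) (isPGroup_zpowers b hbp) ?_
    rw [Subgroup.zpowers_le]
    exact Cfsg.Agent.Lib.Helper24.Coprime.mem_normalizer_zpowers_of_commute hab
  have hEX : (Subgroup.zpowers a ⊔ Subgroup.zpowers b : Subgroup (Holo W)) ≤
      Subgroup.normalizer ((T.map ι : Subgroup (Holo W)) : Set (Holo W)) := by
    refine sup_le ?_ ?_
    · rw [Subgroup.zpowers_le]; exact inr_mem_normalizer T α hαT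
    · rw [Subgroup.zpowers_le]; exact inr_mem_normalizer T β hβT
  have hX : ¬ p ∣ Nat.card (T.map ι : Subgroup (Holo W)) := by
    rw [Subgroup.card_map_of_injective hinj]; exact hT
  have key := rank_two_generation (Subgroup.zpowers a ⊔ Subgroup.zpowers b) (T.map ι) hE hX hEX
    a b (Subgroup.mem_sup_left (Subgroup.mem_zpowers a))
    (Subgroup.mem_sup_right (Subgroup.mem_zpowers b)) hab hap hbp
  have e1 : T.map ι ⊓ Subgroup.centralizer {b} = (T ⊓ fixSub β).map ι := map_inf_fix T β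
  have e2 : ∀ j : ℕ, T.map ι ⊓ Subgroup.centralizer {a * b ^ j}
      = (T ⊓ fixSub (α * β ^ j)).map ι := by
    intro j
    have : a * b ^ j = (SemidirectProduct.inr (α * β ^ j) : Holo W) := by
      rw [ha, hb, map_mul, map_pow]
    rw [this]
    exact map_inf_fix T (α * β ^ j)
  rw [e1] at key
  simp only [e2] at key
  have e3 : (T ⊓ fixSub β).map ι ⊔ ⨆ j ∈ Finset.range p, (T ⊓ fixSub (α * β ^ j)).map ι
      = ((T ⊓ fixSub β) ⊔ ⨆ j ∈ Finset.range p, T ⊓ fixSub (α * β ^ j)).map ι := by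
    rw [Subgroup.map_sup, Subgroup.map_iSup]
    congr 1
    refine iSup_congr fun j => ?_
    rw [Subgroup.map_iSup]
  rw [e3] at key
  exact (Subgroup.map_le_map_iff_of_injective hinj).1 key

/-- A 2-subgroup with at most one involution, invariant under but not centralized by an
automorphism of odd order, is a quaternion group of order 8. -/
theorem quat_of_aut [Finite W] (Q : Subgroup W) (hQ2 : IsPGroup 2 Q)
    (hUI : ∀ a ∈ Q, ∀ b ∈ Q, a ^ 2 = 1 → b ^ 2 = 1 → a ≠ 1 → b ≠ 1 → a = b)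
    (φ : MulAut W) (hφQ : ∀ q ∈ Q, φ q ∈ Q) {r : ℕ} (hr : φ ^ r = 1) (hodd : ¬ 2 ∣ r)
    (hne : ∃ q ∈ Q, φ q ≠ q) : Nat.card Q = 8 ∧ Nonempty (Q ≃* QuaternionGroup 2) := by
  set ι : W →* Holo W := SemidirectProduct.inl with hι
  have hinj : Function.Injective ι := SemidirectProduct.inl_injective
  set g : Holo W := SemidirectProduct.inr φ with hg
  have h1 : IsPGroup 2 (Q.map ι : Subgroup (Holo W)) := hQ2.map ι
  have h2 : ∀ a ∈ Q.map ι, ∀ b ∈ Q.map ι, a ^ 2 = 1 → b ^ 2 = 1 → a ≠ 1 → b ≠ 1 → a = b := by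
    rintro _ ⟨a, ha, rfl⟩ _ ⟨b, hb, rfl⟩ ha2 hb2 ha1 hb1
    have ha2' : a ^ 2 = 1 := hinj (by rw [map_pow, ha2, map_one])
    have hb2' : b ^ 2 = 1 := hinj (by rw [map_pow, hb2, map_one])
    have ha1' : a ≠ 1 := fun h => ha1 (by rw [h, map_one])
    have hb1' : b ≠ 1 := fun h => hb1 (by rw [h, map_one])
    rw [hUI a ha b hb ha2' hb2' ha1' hb1']
  have h3 : ∀ q ∈ Q.map ι, g * q * g⁻¹ ∈ Q.map ι := by
    rintro _ ⟨q, hq, rfl⟩
    rw [hg, hι, conj_inl]
    exact ⟨φ q, hφQ q hq, rfl⟩
  have h4 : g ^ r = 1 := by rw [hg, ← map_pow, hr, map_one]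
  have h5 : ∃ q ∈ Q.map ι, g * q * g⁻¹ ≠ q := by
    obtain ⟨q, hq, hne⟩ := hne
    refine ⟨ι q, ⟨q, hq, rfl⟩, ?_⟩
    rw [hg, hι, conj_inl]
    exact fun h => hne (hinj h)
  obtain ⟨hc, ⟨e⟩⟩ := Cfsg.Agent.Lib.Helper54.OddAutTwo.quaternion_of_ui (Q.map ι) h1 h2 g h3 h4
    hodd h5
  refine ⟨?_, ⟨(Q.equivMapOfInjective ι hinj).trans e⟩⟩
  rw [← hc, Subgroup.card_map_of_injective hinj]

/-- Fixed point congruence for an automorphism of `p`-power order on an invariant subgroup. -/
theorem card_modEq_fix [Finite W] {p n : ℕ} [Fact p.Prime] (T : Subgroup W) (φ : MulAut W)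
    (hφT : ∀ x ∈ T, φ x ∈ T) (hφ : φ ^ p ^ n = 1) :
    Nat.card T ≡ Nat.card (T ⊓ fixSub φ : Subgroup W) [MOD p] := by
  classical
  letI : Fintype T := Fintype.ofFinite T
  set f : Function.End T := fun t => ⟨φ t, hφT t t.2⟩ with hf
  have hpow : ∀ k : ℕ, ∀ t : T, (((f ^ k) t : T) : W) = (φ ^ k) t := by
    intro k
    induction k with
    | zero => intro t; rfl
    | succ k ih =>
      intro t
      rw [pow_succ, pow_succ]
      show (((f ^ k) (f t) : T) : W) = (φ ^ k) (φ t)
      rw [ih (f t)]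
  have hf1 : f ^ p ^ n = 1 := by
    funext t
    apply Subtype.ext
    rw [hpow, hφ]
    rfl
  have key := Equiv.Perm.card_fixedPoints_modEq (f := f) (p := p) (n := n) hf1
  have e : Function.fixedPoints f ≃ (T ⊓ fixSub φ : Subgroup W) :=
    { toFun := fun t => ⟨(t.1 : W), ⟨t.1.2, by
        have := t.2
        exact congrArg Subtype.val this⟩⟩
      invFun := fun w => ⟨⟨w.1, w.2.1⟩, by
        show f ⟨w.1, w.2.1⟩ = ⟨w.1, w.2.1⟩
        exact Subtype.ext w.2.2⟩
      left_inv := fun t => rfl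
      right_inv := fun w => rfl }
  rw [Nat.card_eq_fintype_card, ← Nat.card_congr e, Nat.card_eq_fintype_card]
  convert key

end Cfsg.Agent.Lib.Helper30.Hol
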