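import Mathlib

/-!
# Central products of quaternion-like subgroups

`QP z S`: the subgroup `S` contains the central involution `z`, all squares and commutators of
`S` lie in `{1, z}`, and the centre of `S` is contained in `{1, z}`.  The join of two elementwise
commuting subgroups with this property has it again (`QP.sup`), its elements are products
(`mem_sup_of_commute`) and its order is at most half the product of the orders (`card_sup_le`).

Also `exists_second_center`: in a finite `p`-group `T` not contained in `N`, some element of `T`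
outside `N` has all its commutators with `T` inside `N`.
-/

set_option autoImplicit false

namespace Cfsg.Agent.Lib.Helper30.QJoin

variable {W : Type*} [Group W]

/-- Quaternion-like properties of a subgroup relative to an involution `z`. -/
structure QP (z : W) (S : Subgroup W) : Prop where
  z_mem : z ∈ S
  sq : ∀ x ∈ S, x * x = 1 ∨ x * x = z
  comm : ∀ x ∈ S, ∀ y ∈ S, x * y * x⁻¹ * y⁻¹ = 1 ∨ x * y * x⁻¹ * y⁻¹ = z
  central : ∀ c ∈ S, (∀ a ∈ S, a * c = c * a) → c = 1 ∨ c = z

/-- The set of products of two elementwise commuting subgroups, as a subgroup. -/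
def prodSub (A B : Subgroup W) (h : ∀ a ∈ A, ∀ b ∈ B, a * b = b * a) : Subgroup W where
  carrier := {w | ∃ a ∈ A, ∃ b ∈ B, w = a * b}
  mul_mem' := by
    rintro _ _ ⟨a, ha, b, hb, rfl⟩ ⟨a', ha', b', hb', rfl⟩
    refine ⟨a * a', A.mul_mem ha ha', b * b', B.mul_mem hb hb', ?_⟩
    calc a * b * (a' * b') = a * (b * a') * b' := by group
      _ = a * (a' * b) * b' := by rw [h a' ha' b hb]
      _ = a * a' * (b * b') := by group
  one_mem' := ⟨1, A.one_mem, 1, B.one_mem, by simp⟩
  inv_mem' := by
    rintro _ ⟨a, ha, b, hb, rfl⟩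
    refine ⟨a⁻¹, A.inv_mem ha, b⁻¹, B.inv_mem hb, ?_⟩
    rw [mul_inv_rev, h a⁻¹ (A.inv_mem ha) b⁻¹ (B.inv_mem hb)]

theorem mem_sup_of_commute (A B : Subgroup W) (h : ∀ a ∈ A, ∀ b ∈ B, a * b = b * a) :
    ∀ w ∈ A ⊔ B, ∃ a ∈ A, ∃ b ∈ B, w = a * b := by
  have hle : A ⊔ B ≤ prodSub A B h :=
    sup_le (fun a ha => ⟨a, ha, 1, B.one_mem, by simp⟩) (fun b hb => ⟨1, A.one_mem, b, hb, by simp⟩)
  intro w hw
  exact hle hw

theorem QP.sup {z : W} (hz : ∀ g : W, g * z = z * g) (hzz : z * z = 1) {A B : Subgroup W}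
    (hA : QP z A) (hB : QP z B) (h : ∀ a ∈ A, ∀ b ∈ B, a * b = b * a) : QP z (A ⊔ B) := by
  have hdec := mem_sup_of_commute A B h
  refine ⟨Subgroup.mem_sup_left hA.z_mem, ?_, ?_, ?_⟩
  · intro w hw
    obtain ⟨a, ha, b, hb, rfl⟩ := hdec w hw
    have e : a * b * (a * b) = (a * a) * (b * b) := by
      calc a * b * (a * b) = a * (b * a) * b := by group
        _ = a * (a * b) * b := by rw [h a ha b hb]
        _ = (a * a) * (b * b) := by group
    rw [e]
    rcases hA.sq a ha with h1 | h1 <;> rcases hB.sq b hb with h2 | h2 <;> rw [h1, h2]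
    · left; simp
    · right; simp
    · right; simp
    · left; exact hzz
  · intro w hw w' hw'
    obtain ⟨a, ha, b, hb, rfl⟩ := hdec w hw
    obtain ⟨a', ha', b', hb', rfl⟩ := hdec w' hw'
    have e1 : a * b * (a' * b') = a * a' * (b * b') := by
      calc a * b * (a' * b') = a * (b * a') * b' := by group
        _ = a * (a' * b) * b' := by rw [h a' ha' b hb]
        _ = a * a' * (b * b') := by group
    have e2 : a' * b' * (a * b) = a' * a * (b' * b) := by
      calc a' * b' * (a * b) = a' * (b' * a) * b := by group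
        _ = a' * (a * b') * b := by rw [h a ha b' hb']
        _ = a' * a * (b' * b) := by group
    have hu : b * b' * (b' * b)⁻¹ ∈ B := B.mul_mem (B.mul_mem hb hb') (B.inv_mem (B.mul_mem hb' hb))
    have hv : (a' * a)⁻¹ ∈ A := A.inv_mem (A.mul_mem ha' ha)
    have e3 : a * b * (a' * b') * (a * b)⁻¹ * (a' * b')⁻¹
        = (a * a' * a⁻¹ * a'⁻¹) * (b * b' * b⁻¹ * b'⁻¹) := by
      calc a * b * (a' * b') * (a * b)⁻¹ * (a' * b')⁻¹
          = (a * b * (a' * b')) * (a' * b' * (a * b))⁻¹ := by group
        _ = (a * a' * (b * b')) * (a' * a * (b' * b))⁻¹ := by rw [e1, e2]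
        _ = a * a' * ((b * b' * (b' * b)⁻¹) * (a' * a)⁻¹) := by group
        _ = a * a' * ((a' * a)⁻¹ * (b * b' * (b' * b)⁻¹)) := by rw [h _ hv _ hu]
        _ = (a * a' * a⁻¹ * a'⁻¹) * (b * b' * b⁻¹ * b'⁻¹) := by group
    rw [e3]
    rcases hA.comm a ha a' ha' with h1 | h1 <;> rcases hB.comm b hb b' hb' with h2 | h2 <;>
      rw [h1, h2]
    · left; simp
    · right; simp
    · right; simp
    · left; exact hzz
  · intro c hc hcen
    obtain ⟨a, ha, b, hb, rfl⟩ := hdec c hc
    have ha1 : a = 1 ∨ a = z := by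
      apply hA.central a ha
      intro a' ha'
      have h1 := hcen a' (Subgroup.mem_sup_left ha')
      have h2 : a' * a * b = a * a' * b := by
        calc a' * a * b = a' * (a * b) := by group
          _ = a * b * a' := h1
          _ = a * (b * a') := by group
          _ = a * (a' * b) := by rw [h a' ha' b hb]
          _ = a * a' * b := by group
      exact mul_right_cancel h2
    have hb1 : b = 1 ∨ b = z := by
      apply hB.central b hb
      intro b' hb'
      have h1 := hcen b' (Subgroup.mem_sup_right hb')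
      have h2 : a * (b' * b) = a * (b * b') := by
        calc a * (b' * b) = (a * b') * b := by group
          _ = (b' * a) * b := by rw [h a ha b' hb']
          _ = b' * (a * b) := by group
          _ = a * b * b' := h1
          _ = a * (b * b') := by group
      exact mul_left_cancel h2
    rcases ha1 with rfl | rfl <;> rcases hb1 with rfl | rfl
    · left; simp
    · right; simp
    · right; simp
    · left; exact hzz

theorem card_sup_le [Finite W] {z : W} (hz1 : z ≠ 1) (hzz : z * z = 1) (A B : Subgroup W)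
    (hzA : z ∈ A) (hzB : z ∈ B) (h : ∀ a ∈ A, ∀ b ∈ B, a * b = b * a) :
    2 * Nat.card (A ⊔ B : Subgroup W) ≤ Nat.card A * Nat.card B := by
  classical
  have hdec := mem_sup_of_commute A B h
  choose fa hfa fb hfb hfab using hdec
  let F : (A ⊔ B : Subgroup W) × Bool → A × B := fun x =>
    if x.2 then (⟨fa x.1 x.1.2 * z, A.mul_mem (hfa x.1 x.1.2) hzA⟩,
        ⟨z * fb x.1 x.1.2, B.mul_mem hzB (hfb x.1 x.1.2)⟩)
    else (⟨fa x.1 x.1.2, hfa x.1 x.1.2⟩, ⟨fb x.1 x.1.2, hfb x.1 x.1.2⟩)
  have hprod : ∀ x : (A ⊔ B : Subgroup W) × Bool, ((F x).1 : W) * ((F x).2 : W) = (x.1 : W) := by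
    rintro ⟨w, ε⟩
    cases ε
    · simp only [F]
      exact (hfab w w.2).symm
    · simp only [F, if_true]
      show fa w w.2 * z * (z * fb w w.2) = w
      calc fa w w.2 * z * (z * fb w w.2) = fa w w.2 * (z * z) * fb w w.2 := by group
        _ = fa w w.2 * fb w w.2 := by rw [hzz, mul_one]
        _ = w := (hfab w w.2).symm
  have hinj : Function.Injective F := by
    rintro ⟨w, ε⟩ ⟨w', ε'⟩ hF
    have hw : w = w' := by
      apply Subtype.ext
      have h1 := hprod ⟨w, ε⟩
      have h2 := hprod ⟨w', ε'⟩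
      rw [hF] at h1
      exact h1.symm.trans h2
    subst hw
    have hε : ε = ε' := by
      by_contra hne
      have h1 := congrArg (fun q : A × B => (q.1 : W)) hF
      cases ε <;> cases ε' <;> simp [F] at h1 hne
      · exact hz1 h1
      · exact hz1 h1
    rw [hε]
  have hc := Nat.card_le_card_of_injective F hinj
  rw [Nat.card_prod, Nat.card_prod] at hc
  have hb : Nat.card Bool = 2 := by simp
  rw [hb] at hc
  omega

theorem exists_second_center [Finite W] {p : ℕ} [Fact p.Prime] (T : Subgroup W)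
    (hT : IsPGroup p T) (N : Subgroup W) (hNT : ¬ T ≤ N) :
    ∃ w ∈ T, w ∉ N ∧ ∀ t ∈ T, w * t * w⁻¹ * t⁻¹ ∈ N := by
  classical
  haveI : Group.IsNilpotent T := hT.isNilpotent
  obtain ⟨c, hc⟩ := Group.IsNilpotent.nilpotent (G := T)
  have hex : ∃ n, ¬ ((Subgroup.upperCentralSeries T n).map T.subtype ≤ N) := by
    refine ⟨c, fun hle => hNT fun t ht => ?_⟩
    apply hle
    refine ⟨⟨t, ht⟩, ?_, rfl⟩
    rw [hc]; exact Subgroup.mem_top _
  have hn := Nat.find_spec hex
  have hmin : ∀ m, m < Nat.find hex → (Subgroup.upperCentralSeries T m).map T.subtype ≤ N :=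
    fun m hm => not_not.mp (Nat.find_min hex hm)
  have hn0 : Nat.find hex ≠ 0 := by
    intro h0
    rw [h0, Subgroup.upperCentralSeries_zero, Subgroup.map_bot] at hn
    exact hn bot_le
  obtain ⟨m, hm⟩ := Nat.exists_eq_succ_of_ne_zero hn0
  have hle := hmin m (by omega)
  rw [hm] at hn
  obtain ⟨x, ⟨w, hw, rfl⟩, hxN⟩ := SetLike.not_le_iff_exists.mp hn
  refine ⟨w, w.2, hxN, fun t ht => ?_⟩
  have h1 := Subgroup.mem_upperCentralSeries_succ_iff.mp hw ⟨t, ht⟩
  exact hle ⟨_, h1, rfl⟩

end Cfsg.Agent.Lib.Helper30.QJoin
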