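import Mathlib
import Cfsg.Agent.Lib.Helper30.XSIso
import Cfsg.Agent.Lib.Helper90.Frattini2

set_option autoImplicit false

namespace Cfsg.Agent.Lib.Helper30.XSModel

open Cfsg.Agent.Lib.Helper93.LargeExtra2 Cfsg.Agent.Lib.Helper30.XSCount
  Cfsg.Agent.Lib.Helper30.XSIso

/-- Converse: elementwise extraspecial data on a finite non-abelian type gives an extraspecial
2-group. -/
theorem xs_extraspecial {E : Type*} [Group E] [Finite E] {z : E} (h : XS (⊤ : Subgroup E) z)
    (hsq : ∀ x : E, x * x = 1 ∨ x * x = z) (hnonab : ∃ x y : E, x * y ≠ y * x) :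
    Cfsg.IsExtraspecial 2 E := by
  have hzz := h.z_sq
  have hz1 := h.z_ne_one
  have hP : IsPGroup 2 E := by
    intro x
    refine ⟨2, ?_⟩
    have e : x ^ 2 ^ 2 = (x * x) * (x * x) := by
      norm_num
      rw [pow_succ, pow_succ, pow_succ, pow_one]
      group
    rw [e]
    rcases hsq x with h1 | h1
    · rw [h1]; simp
    · rw [h1, hzz]
  have hmem : ∀ c : E, c ∈ Subgroup.center E ↔ c = 1 ∨ c = z := by
    intro c
    rw [Subgroup.mem_center_iff]
    constructor
    · intro hc
      exact h.central c (Subgroup.mem_top _) (fun a _ => hc a)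
    · rintro (rfl | rfl)
      · intro g; simp
      · intro g; exact (h.z_comm g (Subgroup.mem_top _)).symm
  have hzcomm : ∃ x y : E, x * y * x⁻¹ * y⁻¹ = z := by
    obtain ⟨x, y, hxy⟩ := hnonab
    refine ⟨x, y, ?_⟩
    rcases h.comm x (Subgroup.mem_top _) y (Subgroup.mem_top _) with h1 | h1
    · exfalso; apply hxy
      have := congrArg (fun t => t * y * x) h1
      simpa [mul_assoc] using this
    · exact h1
  have hsqc : ∀ x : E, x ^ 2 ∈ Subgroup.center E := by
    intro x; rw [hmem, pow_two]; exact hsq x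
  have hcommc : ∀ u v : E, u * v * u⁻¹ * v⁻¹ ∈ Subgroup.center E := by
    intro u v; rw [hmem]; exact h.comm u (Subgroup.mem_top _) v (Subgroup.mem_top _)
  have hzc : z ∈ Subgroup.center E := (hmem z).mpr (Or.inr rfl)
  have hle : ∀ N : Subgroup E, z ∈ N → Subgroup.center E ≤ N := by
    intro N hz c hc
    rcases (hmem c).mp hc with rfl | rfl
    · exact N.one_mem
    · exact hz
  refine ⟨⟨hP, ?_, ?_⟩, ?_⟩
  · apply le_antisymm
    · exact Cfsg.Agent.Lib.Helper90.Frattini2.frattini_le_of_sq_comm _ hsqc hcommc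
    · apply hle
      obtain ⟨x, y, hxy⟩ := hzcomm
      rw [← hxy]
      exact Cfsg.Agent.Lib.Helper90.Frattini2.commutator_mem_frattini hP x y
  · apply le_antisymm
    · rw [commutator_eq_closure, Subgroup.closure_le]
      rintro _ ⟨u, v, rfl⟩
      rw [commutatorElement_def]
      exact hcommc u v
    · apply hle
      obtain ⟨x, y, hxy⟩ := hzcomm
      rw [← hxy, commutator_eq_closure]
      apply Subgroup.subset_closure
      exact ⟨x, y, (commutatorElement_def x y)⟩
  · rw [Nat.card_eq_two_iff]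
    refine ⟨⟨1, Subgroup.one_mem _⟩, ⟨z, hzc⟩, ?_, ?_⟩
    · intro h1; exact hz1 (congrArg Subtype.val h1).symm
    · ext c
      simp only [Set.mem_insert_iff, Set.mem_singleton_iff, Set.mem_univ, iff_true]
      rcases (hmem c).mp c.2 with h1 | h1
      · left; exact Subtype.ext h1
      · right; exact Subtype.ext h1

/-! ### The cocycle model -/

/-- The cocycle: hyperbolic on every coordinate, plus an anisotropic correction on coordinate `0`
when `ε = true`. -/
def bet (n : ℕ) (ε : Bool) (v w : Fin (n + 1) → ZMod 2 × ZMod 2) : ZMod 2 :=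
  (∑ i, (v i).2 * (w i).1) + (if ε = true then (v 0).1 * (w 0).1 + (v 0).2 * (w 0).2 else 0)

theorem bet_add_left (n : ℕ) (ε : Bool) (u v w : Fin (n + 1) → ZMod 2 × ZMod 2) :
    bet n ε (u + v) w = bet n ε u w + bet n ε v w := by
  unfold bet
  cases ε
  · simp [add_mul, Finset.sum_add_distrib]
  · simp only [Pi.add_apply, Prod.snd_add, Prod.fst_add, add_mul, Finset.sum_add_distrib, if_true]
    ring

theorem bet_add_right (n : ℕ) (ε : Bool) (u v w : Fin (n + 1) → ZMod 2 × ZMod 2) :
    bet n ε u (v + w) = bet n ε u v + bet n ε u w := by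
  unfold bet
  cases ε
  · simp [mul_add, Finset.sum_add_distrib]
  · simp only [Pi.add_apply, Prod.snd_add, Prod.fst_add, mul_add, Finset.sum_add_distrib, if_true]
    ring

theorem bet_zero_left (n : ℕ) (ε : Bool) (w : Fin (n + 1) → ZMod 2 × ZMod 2) :
    bet n ε 0 w = 0 := by
  unfold bet; simp

theorem bet_zero_right (n : ℕ) (ε : Bool) (w : Fin (n + 1) → ZMod 2 × ZMod 2) :
    bet n ε w 0 = 0 := by
  unfold bet; simp

theorem bet_symm_sum (n : ℕ) (ε : Bool) (v w : Fin (n + 1) → ZMod 2 × ZMod 2) :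
    bet n ε v w + bet n ε w v = ∑ i, ((v i).2 * (w i).1 + (w i).2 * (v i).1) := by
  unfold bet
  rw [Finset.sum_add_distrib]
  cases ε
  · simp
  · simp only [if_true]
    have h1 := CharTwo.add_self_eq_zero ((v 0).1 * (w 0).1 + (v 0).2 * (w 0).2)
    linear_combination h1

theorem v_add_self {n : ℕ} (v : Fin (n + 1) → ZMod 2 × ZMod 2) : v + v = 0 := by
  funext i
  exact Prod.ext (CharTwo.add_self_eq_zero _) (CharTwo.add_self_eq_zero _)

/-- The model: pairs `(c, v)` with the twisted multiplication. -/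
@[ext] structure Mdl (n : ℕ) (ε : Bool) where
  c : ZMod 2
  v : Fin (n + 1) → ZMod 2 × ZMod 2

namespace Mdl

variable {n : ℕ} {ε : Bool}

instance : Mul (Mdl n ε) := ⟨fun a b => ⟨a.c + b.c + bet n ε a.v b.v, a.v + b.v⟩⟩
instance : One (Mdl n ε) := ⟨⟨0, 0⟩⟩
instance : Inv (Mdl n ε) := ⟨fun a => ⟨a.c + bet n ε a.v a.v, a.v⟩⟩

theorem mul_c (a b : Mdl n ε) : (a * b).c = a.c + b.c + bet n ε a.v b.v := rfl
theorem mul_v (a b : Mdl n ε) : (a * b).v = a.v + b.v := rfl
theorem one_c : (1 : Mdl n ε).c = 0 := rfl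
theorem one_v : (1 : Mdl n ε).v = 0 := rfl
theorem inv_c (a : Mdl n ε) : a⁻¹.c = a.c + bet n ε a.v a.v := rfl
theorem inv_v (a : Mdl n ε) : a⁻¹.v = a.v := rfl

instance : Group (Mdl n ε) where
  mul_assoc a b c := by
    apply Mdl.ext
    · simp only [mul_c, mul_v, bet_add_left, bet_add_right]; ring
    · simp only [mul_v, add_assoc]
  one_mul a := by
    apply Mdl.ext
    · simp only [mul_c, one_c, one_v, bet_zero_left]; ring
    · simp only [mul_v, one_v, zero_add]
  mul_one a := by
    apply Mdl.ext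
    · simp only [mul_c, one_c, one_v, bet_zero_right]; ring
    · simp only [mul_v, one_v, add_zero]
  inv_mul_cancel a := by
    apply Mdl.ext
    · simp only [mul_c, inv_c, inv_v, one_c]
      have := CharTwo.add_self_eq_zero (a.c + bet n ε a.v a.v)
      linear_combination this
    · simp only [mul_v, inv_v, one_v]; exact v_add_self _

/-- The underlying-set equivalence. -/
def equivProd : Mdl n ε ≃ ZMod 2 × (Fin (n + 1) → ZMod 2 × ZMod 2) where
  toFun a := (a.c, a.v)
  invFun p := ⟨p.1, p.2⟩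
  left_inv _ := rfl
  right_inv _ := rfl

instance : Fintype (Mdl n ε) := Fintype.ofEquiv _ equivProd.symm

theorem card : Nat.card (Mdl n ε) = 2 ^ (2 * (n + 1) + 1) := by
  rw [Nat.card_congr equivProd, Nat.card_prod, Nat.card_pi]
  simp only [Nat.card_prod, Nat.card_zmod, Finset.prod_const, Finset.card_univ, Fintype.card_fin]
  rw [show (2 : ℕ) * 2 = 2 ^ 2 from rfl, ← pow_mul]
  ring

/-- The central involution. -/
def zz : Mdl n ε := ⟨1, 0⟩

theorem zz_mul (a : Mdl n ε) : zz * a = a * zz := by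
  apply Mdl.ext
  · simp only [mul_c, zz, bet_zero_left, bet_zero_right]; ring
  · simp only [mul_v, zz, zero_add, add_zero]

theorem zz_sq : (zz : Mdl n ε) * zz = 1 := by
  apply Mdl.ext
  · simp only [mul_c, zz, bet_zero_left, one_c, add_zero]; exact CharTwo.add_self_eq_zero 1
  · simp only [mul_v, zz, one_v, add_zero]

theorem zz_ne_one : (zz : Mdl n ε) ≠ 1 := by
  intro h
  have h1 : (1 : ZMod 2) = 0 := congrArg Mdl.c h
  exact one_ne_zero h1

theorem zmod_two_cases (t : ZMod 2) : t = 0 ∨ t = 1 := by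
  revert t; decide

theorem sq_eq (a : Mdl n ε) : a * a = 1 ∨ a * a = zz := by
  rcases zmod_two_cases (bet n ε a.v a.v) with h | h
  · left
    apply Mdl.ext
    · simp only [mul_c, one_c, h, add_zero]; exact CharTwo.add_self_eq_zero _
    · simp only [mul_v, one_v]; exact v_add_self _
  · right
    apply Mdl.ext
    · simp only [mul_c, zz, h]
      have := CharTwo.add_self_eq_zero a.c
      linear_combination this
    · simp only [mul_v, zz]; exact v_add_self _

theorem sq_eq_one_iff (a : Mdl n ε) : a * a = 1 ↔ bet n ε a.v a.v = 0 := by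
  constructor
  · intro h
    have h1 : a.c + a.c + bet n ε a.v a.v = 0 := congrArg Mdl.c h
    have h2 := CharTwo.add_self_eq_zero a.c
    linear_combination h1 - h2
  · intro h
    apply Mdl.ext
    · simp only [mul_c, one_c, h, add_zero]; exact CharTwo.add_self_eq_zero _
    · simp only [mul_v, one_v]; exact v_add_self _

theorem mul_comm_cases (a b : Mdl n ε) : a * b = b * a ∨ a * b = zz * (b * a) := by
  rcases zmod_two_cases (bet n ε a.v b.v + bet n ε b.v a.v) with h | h
  · left
    apply Mdl.ext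
    · simp only [mul_c]
      have h2 := CharTwo.add_self_eq_zero (bet n ε b.v a.v)
      linear_combination h - h2
    · simp only [mul_v, add_comm]
  · right
    apply Mdl.ext
    · simp only [mul_c, mul_v, zz, bet_zero_left]
      have h2 := CharTwo.add_self_eq_zero (bet n ε b.v a.v)
      linear_combination h - h2
    · show a.v + b.v = 0 + (b.v + a.v)
      rw [zero_add]
      exact add_comm _ _

theorem central (c : Mdl n ε) (hc : ∀ a : Mdl n ε, a * c = c * a) : c = 1 ∨ c = zz := by
  have hv : c.v = 0 := by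
    by_contra hne
    obtain ⟨i, hi⟩ : ∃ i, c.v i ≠ 0 := by
      by_contra hall
      push Not at hall
      exact hne (funext hall)
    obtain ⟨w, hw⟩ : ∃ w : ZMod 2 × ZMod 2, w.2 * (c.v i).1 + (c.v i).2 * w.1 = 1 := by
      generalize c.v i = u at hi
      revert u; decide
    have h1 := hc ⟨0, Pi.single i w⟩
    have h2 : (0 : ZMod 2) + c.c + bet n ε (Pi.single i w) c.v =
        c.c + 0 + bet n ε c.v (Pi.single i w) := congrArg Mdl.c h1
    have h3 := bet_symm_sum n ε (Pi.single i w) c.v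
    rw [Finset.sum_eq_single i] at h3
    · simp only [Pi.single_eq_same] at h3
      rw [hw] at h3
      have h4 : bet n ε (Pi.single i w) c.v = bet n ε c.v (Pi.single i w) := by
        linear_combination h2
      rw [h4, CharTwo.add_self_eq_zero] at h3
      exact zero_ne_one h3
    · intro j _ hj
      simp [Pi.single_eq_of_ne hj]
    · intro h; exact (h (Finset.mem_univ i)).elim
  rcases zmod_two_cases c.c with h | h
  · left; exact Mdl.ext h hv
  · right; exact Mdl.ext h hv

theorem xs : XS (⊤ : Subgroup (Mdl n ε)) zz where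
  z_mem := Subgroup.mem_top _
  z_ne_one := zz_ne_one
  z_sq := zz_sq
  z_comm := fun a _ => zz_mul a
  central := fun c _ hc => central c (fun a => hc a (Subgroup.mem_top _))
  comm := fun a _ b _ => by
    rcases mul_comm_cases a b with h | h
    · left; rw [h]; group
    · right; rw [h]; group

theorem nonab : ∃ x y : Mdl n ε, x * y ≠ y * x := by
  by_contra hall
  push Not at hall
  have hc := central (⟨0, Pi.single 0 (1, 0)⟩ : Mdl n ε) (fun a => hall a _)
  have hv : (Pi.single 0 (1, 0) : Fin (n + 1) → ZMod 2 × ZMod 2) ≠ 0 := by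
    intro h
    have h1 := congrFun h 0
    simp at h1
  rcases hc with h | h
  · exact hv (congrArg Mdl.v h)
  · exact hv (congrArg Mdl.v h)

theorem extraspecial : Cfsg.IsExtraspecial 2 (Mdl n ε) :=
  xs_extraspecial xs sq_eq nonab

/-! ### The squaring sum of the model -/

/-- The sign character of `ZMod 2`. -/
def chi (t : ZMod 2) : ℤ := if t = 0 then 1 else -1

theorem chi_add (s t : ZMod 2) : chi (s + t) = chi s * chi t := by
  revert s t; decide

theorem chi_sum {ι : Type*} (s : Finset ι) (g : ι → ZMod 2) :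
    chi (∑ i ∈ s, g i) = ∏ i ∈ s, chi (g i) := by
  classical
  induction s using Finset.induction_on with
  | empty => simp [chi]
  | insert a s ha ih => rw [Finset.sum_insert ha, Finset.prod_insert ha, chi_add, ih]

/-- The local quadratic form on coordinate `i`. -/
def loc (ε : Bool) (i : Fin (n + 1)) (w : ZMod 2 × ZMod 2) : ZMod 2 :=
  w.2 * w.1 + (if (ε = true ∧ i = 0) then w.1 * w.1 + w.2 * w.2 else 0)

theorem bet_self (v : Fin (n + 1) → ZMod 2 × ZMod 2) : bet n ε v v = ∑ i, loc ε i (v i) := by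
  unfold bet loc
  rw [Finset.sum_add_distrib]
  congr 1
  cases ε
  · simp
  · simp

theorem q_eq (a : Mdl n ε) : q a = chi (bet n ε a.v a.v) := by
  unfold q chi
  by_cases h : bet n ε a.v a.v = 0
  · rw [if_pos ((sq_eq_one_iff a).mpr h), if_pos h]
  · rw [if_neg (mt (sq_eq_one_iff a).mp h), if_neg h]

theorem ssum_eq : Ssum (Mdl n ε) = 2 * ∏ i : Fin (n + 1), ∑ w : ZMod 2 × ZMod 2, chi (loc ε i w) := by
  rw [Ssum_eq, Fintype.prod_sum]
  have h1 : ∑ g : Mdl n ε, q g =
      ∑ p : ZMod 2 × (Fin (n + 1) → ZMod 2 × ZMod 2), ∏ i, chi (loc ε i (p.2 i)) := by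
    apply Fintype.sum_equiv equivProd
    intro a
    rw [q_eq, bet_self, chi_sum]
    rfl
  rw [h1, Fintype.sum_prod_type]
  simp only [Finset.sum_const, Finset.card_univ, ZMod.card, nsmul_eq_mul]
  norm_num

theorem loc_sum_plain (i : Fin (n + 1)) (h : ¬ (ε = true ∧ i = 0)) :
    ∑ w : ZMod 2 × ZMod 2, chi (loc ε i w) = 2 := by
  unfold loc
  simp only [if_neg h, add_zero]
  decide

theorem loc_sum_twist :
    ∑ w : ZMod 2 × ZMod 2, chi (loc true (0 : Fin (n + 1)) w) = -2 := by
  unfold loc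
  simp only [if_true, and_self]
  decide

theorem plus_ssum : Ssum (Mdl n false) = 2 * 2 ^ (n + 1) := by
  rw [ssum_eq]
  congr 1
  rw [Finset.prod_congr rfl (fun i _ => loc_sum_plain (ε := false) i (by simp))]
  simp

theorem minus_ssum : Ssum (Mdl n true) = -(2 * 2 ^ (n + 1)) := by
  rw [ssum_eq, Fin.prod_univ_succ, loc_sum_twist]
  rw [Finset.prod_congr rfl (fun i _ => loc_sum_plain (ε := true) (Fin.succ i)
    (by simp [Fin.succ_ne_zero]))]
  simp only [Finset.prod_const, Finset.card_univ, Fintype.card_fin]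
  ring

theorem plus_pos : 0 < Ssum (Mdl n false) := by
  rw [plus_ssum]; positivity

theorem minus_neg : Ssum (Mdl n true) < 0 := by
  rw [minus_ssum]
  have : (0 : ℤ) < 2 * 2 ^ (n + 1) := by positivity
  linarith

end Mdl

/-! ### The 2-rank of an extraspecial 2-group from the sign of its squaring sum -/

universe u

theorem sSup_rank_of_pos {E : Type u} [Group E] [Finite E] (hE : Cfsg.IsExtraspecial 2 E) (n : ℕ)
    (hn : Nat.card E = 2 ^ (2 * n + 1)) (hS : 0 < Ssum E) :
    sSup {k : ℕ | ∃ A : Subgroup E, Cfsg.IsElementaryAbelian 2 A ∧ Nat.card A = 2 ^ k} = n + 1 := by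
  obtain ⟨z, m, hz, hm1, hcard, -, -, hplus⟩ := struct hE
  have hmn : m = n := by
    have h : 2 ^ (2 * m + 1) = 2 ^ (2 * n + 1) := by rw [← hcard, ← hn]
    have := Nat.pow_right_injective (le_refl 2) h
    omega
  subst hmn
  apply IsGreatest.csSup_eq
  constructor
  · obtain ⟨A, hAc, hA2, hAcard⟩ := hplus hS
    exact ⟨A, ⟨⟨⟨fun a b => Subtype.ext (hAc a a.2 b b.2)⟩⟩, hA2⟩, hAcard⟩
  · rintro k ⟨A, ⟨hAc, hA2⟩, hAcard⟩
    have hle := (rank_le hz m hcard A
      (fun a ha b hb => congrArg Subtype.val (hAc.is_comm.comm ⟨a, ha⟩ ⟨b, hb⟩)) hA2).1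
    rw [hAcard] at hle
    exact (Nat.pow_le_pow_iff_right (by norm_num)).mp hle

theorem sSup_rank_of_neg {E : Type u} [Group E] [Finite E] (hE : Cfsg.IsExtraspecial 2 E) (n : ℕ)
    (hn : Nat.card E = 2 ^ (2 * n + 1)) (hS : Ssum E < 0) :
    sSup {k : ℕ | ∃ A : Subgroup E, Cfsg.IsElementaryAbelian 2 A ∧ Nat.card A = 2 ^ k} = n := by
  obtain ⟨z, m, hz, hm1, hcard, -, hA, -⟩ := struct hE
  have hmn : m = n := by
    have h : 2 ^ (2 * m + 1) = 2 ^ (2 * n + 1) := by rw [← hcard, ← hn]
    have := Nat.pow_right_injective (le_refl 2) h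
    omega
  subst hmn
  apply IsGreatest.csSup_eq
  constructor
  · obtain ⟨A, hAc, hA2, hAcard⟩ := hA
    exact ⟨A, ⟨⟨⟨fun a b => Subtype.ext (hAc a a.2 b b.2)⟩⟩, hA2⟩, hAcard⟩
  · rintro k ⟨A, ⟨hAc, hA2⟩, hAcard⟩
    obtain ⟨hle, heq⟩ := rank_le hz m hcard A
      (fun a ha b hb => congrArg Subtype.val (hAc.is_comm.comm ⟨a, ha⟩ ⟨b, hb⟩)) hA2
    rw [hAcard] at hle heq
    have hk1 : k ≤ m + 1 := (Nat.pow_le_pow_iff_right (by norm_num)).mp hle
    have hk2 : k ≠ m + 1 := by
      intro h
      have h3 := heq (by rw [h])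
      have : (0 : ℤ) < 2 ^ (m + 1) := by positivity
      linarith
    omega

end Cfsg.Agent.Lib.Helper30.XSModel
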