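import Mathlib
import Cfsg.Prelude.Def_Transfer
import Cfsg.Agent.Lib.Helper30.Hol
import Cfsg.Agent.Lib.Helper30.QJoin
import Cfsg.Agent.Lib.Helper30.XSModel
import Cfsg.Agent.Lib.Helper30.XSIso
import Cfsg.Agent.Lib.Helper90.TTCore

/-!
# Noncyclic abelian `p`-groups of automorphisms of a 2-group fixing at most one involution

`main`: if `E ≤ Aut W` is a noncyclic abelian `p`-group (`p` odd), `W` a finite 2-group, and every
nontrivial element of `E` fixes at most one involution of `W`, then `#E = 9`, `W` is extraspecial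
of order `2^5`, `2^7` or `2^9`, and the fixed points of `E` are exactly the centre of `W`.

Proof: coprime generation by the `p + 1` fixed point subgroups of a rank two subgroup; each of
them is trivial-on-`E₀` or a quaternion group of order 8 (forcing `p = 3`); the quaternion groups
commute pairwise (second centre argument), so `W` is their central product.
-/

set_option autoImplicit false

namespace Cfsg.Agent.Lib.Helper30.AbQ

section part1


open Cfsg.Agent.Lib.Helper31.CoprimeGen Cfsg.Agent.Lib.Helper30.Hol Cfsg.Agent.Lib.Helper30.QJoin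

variable {W : Type*} [Group W]

/-- Generators of the `p + 1` subgroups of order `p` of `⟨α, β⟩`. -/
def gen (α β : MulAut W) : ℕ → MulAut W
  | 0 => β
  | (j+1) => α * β ^ j

theorem pow_fix (φ : MulAut W) (x : W) (h : φ x = x) (j : ℕ) : (φ ^ j) x = x := by
  induction j with
  | zero => rfl
  | succ j ih => rw [pow_succ, MulAut.mul_apply, h, ih]

theorem gen_fix_of (α β : MulAut W) (x : W) (hα : α x = x) (hβ : β x = x) (k : ℕ) :
    gen α β k x = x := by
  cases k with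
  | zero => exact hβ
  | succ j =>
    show (α * β ^ j) x = x
    rw [MulAut.mul_apply, pow_fix β x hβ, hα]

theorem fix_pair (α β : MulAut W) {p : ℕ} [hp : Fact p.Prime] (hβp : β ^ p = 1) {k l : ℕ}
    (hk : k ≤ p) (hl : l ≤ p) (hkl : k ≠ l) (x : W) (hkx : gen α β k x = x)
    (hlx : gen α β l x = x) : α x = x ∧ β x = x := by
  -- the case of two indices `i + 1`, `j + 1` with `i < j`
  have main : ∀ i j : ℕ, i < j → j < p → (α * β ^ i) x = x → (α * β ^ j) x = x →
      α x = x ∧ β x = x := by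
    intro i j hij hjp hi hj
    rw [MulAut.mul_apply] at hi hj
    have h1 : (β ^ i) x = (β ^ j) x := α.injective (hi.trans hj.symm)
    have h2 : (β ^ (j - i)) x = x := by
      have e : β ^ j = β ^ i * β ^ (j - i) := by rw [← pow_add]; congr 1; omega
      rw [e, MulAut.mul_apply] at h1
      exact ((β ^ i).injective h1).symm
    have hcop : Nat.Coprime (j - i) p := by
      rw [Nat.coprime_comm, hp.out.coprime_iff_not_dvd]
      intro hd
      have := Nat.le_of_dvd (by omega) hd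
      omega
    obtain ⟨m, -, hm⟩ := Nat.exists_mul_mod_eq_one_of_coprime hcop hp.out.one_lt
    have h3 : (β ^ ((j - i) * m)) x = x := by
      rw [pow_mul]; exact pow_fix _ x h2 m
    have h4 : β ^ ((j - i) * m) = β := by
      rw [pow_eq_pow_mod _ hβp, hm, pow_one]
    rw [h4] at h3
    refine ⟨?_, h3⟩
    rw [pow_fix β x h3] at hi
    exact hi
  cases k with
  | zero =>
    cases l with
    | zero => exact absurd rfl hkl
    | succ j =>
      have hβ : β x = x := hkx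
      have h1 : (α * β ^ j) x = x := hlx
      rw [MulAut.mul_apply, pow_fix β x hβ] at h1
      exact ⟨h1, hβ⟩
  | succ i =>
    cases l with
    | zero =>
      have hβ : β x = x := hlx
      have h1 : (α * β ^ i) x = x := hkx
      rw [MulAut.mul_apply, pow_fix β x hβ] at h1
      exact ⟨h1, hβ⟩
    | succ j =>
      rcases Nat.lt_or_gt_of_ne (show i ≠ j by omega) with h | h
      · exact main i j h (by omega) hkx hlx
      · exact main j i h (by omega) hlx hkx

theorem mem_zpowers_invol {z x : W} (hzz : z * z = 1) (hx : x ∈ Subgroup.zpowers z) :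
    x = 1 ∨ x = z := by
  obtain ⟨n, rfl⟩ := Subgroup.mem_zpowers_iff.1 hx
  rcases Int.even_or_odd' n with ⟨m, rfl | rfl⟩
  · left
    rw [zpow_mul, zpow_two, hzz, one_zpow]
  · right
    rw [zpow_add, zpow_mul, zpow_two, hzz, one_zpow, one_mul, zpow_one]

theorem q8_facts {Q : Type*} [Group Q] (f : Q ≃* QuaternionGroup 2) :
    (∀ x : Q, x ^ 4 = 1) ∧ (∀ x y : Q, (x * y * x⁻¹ * y⁻¹) ^ 2 = 1) ∧
    (∀ c : Q, (∀ a : Q, a * c = c * a) → c ^ 2 = 1) ∧ ∃ x y : Q, x * y ≠ y * x := by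
  have h1 : ∀ q : QuaternionGroup 2, q ^ 4 = 1 := by decide
  have h2 : ∀ q r : QuaternionGroup 2, (q * r * q⁻¹ * r⁻¹) ^ 2 = 1 := by decide
  have h3 : ∀ c : QuaternionGroup 2, (∀ a : QuaternionGroup 2, a * c = c * a) → c ^ 2 = 1 := by
    decide
  have h4 : ∃ q r : QuaternionGroup 2, q * r ≠ r * q := by decide
  refine ⟨?_, ?_, ?_, ?_⟩
  · intro x
    apply f.injective
    rw [map_pow, h1, map_one]
  · intro x y
    apply f.injective
    rw [map_pow, map_mul, map_mul, map_mul, map_inv, map_inv, h2, map_one]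
  · intro c hc
    apply f.injective
    rw [map_pow, map_one]
    apply h3
    intro a
    have := hc (f.symm a)
    have h5 := congrArg f this
    rwa [map_mul, map_mul, f.apply_symm_apply] at h5
  · obtain ⟨q, r, hqr⟩ := h4
    refine ⟨f.symm q, f.symm r, fun h => hqr ?_⟩
    have h5 := congrArg f h
    rwa [map_mul, map_mul, f.apply_symm_apply, f.apply_symm_apply] at h5

end part1

section part2


open Cfsg.Agent.Lib.Helper31.CoprimeGen Cfsg.Agent.Lib.Helper30.Hol Cfsg.Agent.Lib.Helper30.QJoin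

variable {W : Type*} [Group W]

theorem exists_ab [Finite W] {p : ℕ} [Fact p.Prime] (E : Subgroup (MulAut W))
    (hE : IsPGroup p ↥E) (hab : IsMulCommutative ↥E) (hnc : ¬ IsCyclic ↥E) :
    ∃ α β : MulAut W, α ∈ E ∧ β ∈ E ∧ α ^ p = 1 ∧ β ^ p = 1 ∧ ∀ k : ℕ, gen α β k ≠ 1 := by
  by_contra hno
  have h : ∀ a b : E, a ^ p = 1 → b ^ p = 1 → b ≠ 1 → a ∈ Subgroup.zpowers b := by
    intro a b ha hb hb1
    by_contra hmem
    apply hno
    refine ⟨a, b, a.2, b.2, ?_, ?_, ?_⟩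
    · have := congrArg Subtype.val ha
      simpa using this
    · have := congrArg Subtype.val hb
      simpa using this
    · intro k
      cases k with
      | zero =>
        show (b : MulAut W) ≠ 1
        exact fun h1 => hb1 (Subtype.ext h1)
      | succ j =>
        show (a : MulAut W) * (b : MulAut W) ^ j ≠ 1
        intro h1
        apply hmem
        have h2 : a * b ^ j = 1 := Subtype.ext (by simpa using h1)
        have h3 : a = (b ^ j)⁻¹ := eq_inv_of_mul_eq_one_left h2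
        rw [h3]
        exact Subgroup.inv_mem _ (Subgroup.pow_mem _ (Subgroup.mem_zpowers b) j)
  obtain ⟨e, he⟩ := Cfsg.Agent.Lib.Helper90.TTCore.exists_generator hE
    (fun a b => hab.is_comm.comm a b) h
  exact hnc (isCyclic_iff_exists_zpowers_eq_top.mpr ⟨e, by
    rw [eq_top_iff]; intro x _; exact he x⟩)

/-- The working context. -/
structure Ctx (E : Subgroup (MulAut W)) (p : ℕ) (α β : MulAut W) (z : W) : Prop where
  hW : IsPGroup 2 W
  comm : ∀ e ∈ E, ∀ f ∈ E, e * f = f * e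
  hα : α ∈ E
  hβ : β ∈ E
  αp : α ^ p = 1
  βp : β ^ p = 1
  gen_ne : ∀ k, gen α β k ≠ 1
  zz : z * z = 1
  z1 : z ≠ 1
  zc : ∀ g : W, g * z = z * g
  zE : ∀ e ∈ E, e z = z
  uniq : ∀ e ∈ E, e ≠ 1 → ∀ x : W, e x = x → x * x = 1 → x = 1 ∨ x = z

theorem gen_mem' (E : Subgroup (MulAut W)) {α β : MulAut W} (hα : α ∈ E) (hβ : β ∈ E) (k : ℕ) :
    gen α β k ∈ E := by
  cases k with
  | zero => exact hβ
  | succ j => exact E.mul_mem hα (E.pow_mem hβ j)

theorem gen_pow' (E : Subgroup (MulAut W)) (comm : ∀ e ∈ E, ∀ f ∈ E, e * f = f * e)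
    {α β : MulAut W} (hα : α ∈ E) (hβ : β ∈ E) {p : ℕ} (αp : α ^ p = 1) (βp : β ^ p = 1) (k : ℕ) :
    gen α β k ^ p = 1 := by
  cases k with
  | zero => exact βp
  | succ j =>
    show (α * β ^ j) ^ p = 1
    have hc : Commute α (β ^ j) := comm α hα (β ^ j) (E.pow_mem hβ j)
    rw [hc.mul_pow, αp, ← pow_mul, mul_comm, pow_mul, βp, one_pow, one_mul]

theorem not_dvd_card [Finite W] (hW : IsPGroup 2 W) {p : ℕ} [hp : Fact p.Prime] (hp2 : p ≠ 2)
    (T : Subgroup W) : ¬ p ∣ Nat.card T := by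
  obtain ⟨n, hn⟩ := (hW.to_subgroup T).exists_card_eq
  rw [hn]
  intro hd
  have h2 := hp.out.dvd_of_dvd_pow hd
  exact hp2 ((Nat.prime_dvd_prime_iff_eq hp.out Nat.prime_two).1 h2)

theorem inv_iff (E : Subgroup (MulAut W)) (S : Subgroup W) (h : ∀ e ∈ E, ∀ x ∈ S, e x ∈ S) :
    ∀ e ∈ E, ∀ x, e x ∈ S ↔ x ∈ S := by
  intro e he x
  refine ⟨fun hx => ?_, h e he x⟩
  have := h e⁻¹ (E.inv_mem he) (e x) hx
  rwa [MulAut.inv_apply_self] at this

/-- Coprime generation on an invariant subgroup. -/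
theorem generation [Finite W] (hW : IsPGroup 2 W) {p : ℕ} [hp : Fact p.Prime] (hp2 : p ≠ 2)
    (E : Subgroup (MulAut W)) (comm : ∀ e ∈ E, ∀ f ∈ E, e * f = f * e) {α β : MulAut W}
    (hα : α ∈ E) (hβ : β ∈ E) (αp : α ^ p = 1) (βp : β ^ p = 1) (T : Subgroup W)
    (hT : ∀ e ∈ E, ∀ x ∈ T, e x ∈ T) :
    T ≤ ⨆ k ∈ Finset.range (p + 1), T ⊓ fixSub (gen α β k) := by
  have h1 := gen_restrict T (not_dvd_card hW hp2 T) α β (comm α hα β hβ) αp βp
    (inv_iff E T hT α hα) (inv_iff E T hT β hβ)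
  refine h1.trans (sup_le ?_ (iSup₂_le fun j hj => ?_))
  · exact le_iSup₂_of_le 0 (Finset.mem_range.2 (Nat.succ_pos p)) le_rfl
  · exact le_iSup₂_of_le (j + 1) (Finset.mem_range.2 (by
      have := Finset.mem_range.1 hj; omega)) le_rfl

theorem exists_z [Finite W] (hW : IsPGroup 2 W) {p : ℕ} [hp : Fact p.Prime] (hp2 : p ≠ 2)
    (E : Subgroup (MulAut W)) (comm : ∀ e ∈ E, ∀ f ∈ E, e * f = f * e) {α β : MulAut W}
    (hα : α ∈ E) (hβ : β ∈ E) (αp : α ^ p = 1) (βp : β ^ p = 1) (hne : ∀ k, gen α β k ≠ 1)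
    (hfix : ∀ e ∈ E, e ≠ 1 → ∀ x y : W, orderOf x = 2 → orderOf y = 2 → e x = x → e y = y →
      x = y) :
    ∃ z : W, orderOf z = 2 ∧ (∀ g : W, g * z = z * g) ∧ ∀ e ∈ E, e z = z := by
  have hnt : Nontrivial W := by
    by_contra hn
    rw [not_nontrivial_iff_subsingleton] at hn
    apply hne 0
    ext x
    exact Subsingleton.elim _ _
  have hcen : Subgroup.center W ≠ ⊥ := by
    have := hW.center_nontrivial
    intro h
    rw [h] at this
    exact not_nontrivial _ this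
  have hinv : ∀ e ∈ E, ∀ x ∈ Subgroup.center W, e x ∈ Subgroup.center W := by
    intro e _ x hx
    rw [Subgroup.mem_center_iff] at hx ⊢
    intro g
    have h1 := hx (e⁻¹ g)
    have h2 := congrArg e h1
    rwa [map_mul, map_mul, MulAut.apply_inv_self] at h2
  have hgen := generation hW hp2 E comm hα hβ αp βp (Subgroup.center W) hinv
  have hex : ∃ k, ∃ t ∈ Subgroup.center W, t ≠ 1 ∧ gen α β k t = t := by
    by_contra hno
    push Not at hno
    apply hcen
    rw [eq_bot_iff]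
    refine hgen.trans (iSup₂_le fun k _ => ?_)
    intro t ht
    rw [Subgroup.mem_bot]
    by_contra ht1
    exact hno k t ht.1 ht1 ht.2
  obtain ⟨k, t, htc, ht1, htk⟩ := hex
  obtain ⟨m, hm⟩ := (IsPGroup.iff_orderOf.1 hW) t
  have hm0 : m ≠ 0 := by
    intro h0
    rw [h0, pow_zero, orderOf_eq_one_iff] at hm
    exact ht1 hm
  obtain ⟨m', rfl⟩ := Nat.exists_eq_succ_of_ne_zero hm0
  set z := t ^ (2 ^ m') with hz
  have hz2 : orderOf z = 2 := by
    have h1 : orderOf t ≠ 0 := by rw [hm]; positivity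
    have h2 : (2 : ℕ) ∣ orderOf t := by rw [hm, pow_succ]; exact dvd_mul_left _ _
    have h3 := orderOf_pow_orderOf_div h1 h2
    have h4 : orderOf t / 2 = 2 ^ m' := by
      rw [hm, pow_succ, Nat.mul_div_cancel _ (by norm_num)]
    rwa [h4] at h3
  have hzc : z ∈ Subgroup.center W := Subgroup.pow_mem _ htc _
  have hzk : gen α β k z = z := by rw [hz, map_pow, htk]
  have hkE := gen_mem' E hα hβ k
  refine ⟨z, hz2, fun g => (Subgroup.mem_center_iff.1 hzc g), fun e he => ?_⟩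
  apply hfix (gen α β k) hkE (hne k) (e z) z _ hz2 _ hzk
  · rw [MulEquiv.orderOf_eq]; exact hz2
  · have h1 := comm (gen α β k) hkE e he
    have h2 := congrArg (fun φ : MulAut W => φ z) h1
    simp only [MulAut.mul_apply] at h2
    rw [h2, hzk]

end part2

section part3


open Cfsg.Agent.Lib.Helper31.CoprimeGen Cfsg.Agent.Lib.Helper30.Hol Cfsg.Agent.Lib.Helper30.QJoin

variable {W : Type*} [Group W] {E : Subgroup (MulAut W)} {p : ℕ} {α β : MulAut W} {z : W}

theorem Ctx.gen_mem (h : Ctx E p α β z) (k : ℕ) : gen α β k ∈ E := gen_mem' E h.hα h.hβ k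

theorem Ctx.gen_pow (h : Ctx E p α β z) (k : ℕ) : gen α β k ^ p = 1 :=
  gen_pow' E h.comm h.hα h.hβ h.αp h.βp k

theorem Ctx.z_fix (h : Ctx E p α β z) (k : ℕ) : gen α β k z = z := h.zE _ (h.gen_mem k)

theorem Ctx.C_inv (h : Ctx E p α β z) (k : ℕ) :
    ∀ e ∈ E, ∀ x ∈ fixSub (gen α β k), e x ∈ fixSub (gen α β k) := by
  intro e he x hx
  rw [mem_fixSub] at hx ⊢
  have h1 := h.comm (gen α β k) (h.gen_mem k) e he
  have h2 := congrArg (fun φ : MulAut W => φ x) h1
  simp only [MulAut.mul_apply] at h2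
  rw [h2, hx]

theorem Ctx.orderOf_z (h : Ctx E p α β z) : orderOf z = 2 :=
  orderOf_eq_prime (by rw [pow_two]; exact h.zz) h.z1

theorem Ctx.card_zpowers (h : Ctx E p α β z) : Nat.card (Subgroup.zpowers z) = 2 := by
  rw [Nat.card_zpowers, h.orderOf_z]

theorem Ctx.quat [Finite W] [hp : Fact p.Prime] (h : Ctx E p α β z) (hp2 : p ≠ 2) {k : ℕ}
    (hk : k ≤ p) (x : W) (hx : gen α β k x = x) (hxF : ¬ (α x = x ∧ β x = x)) :
    p = 3 ∧ (∀ y, α y = y → β y = y → y = 1 ∨ y = z) ∧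
      Nat.card (fixSub (gen α β k)) = 8 ∧
      Nonempty (fixSub (gen α β k) ≃* QuaternionGroup 2) := by
  obtain ⟨l, hl, hkl⟩ : ∃ l, l ≤ p ∧ k ≠ l := by
    by_cases hk0 : k = 0
    · exact ⟨1, hp.out.one_lt.le, by omega⟩
    · exact ⟨0, Nat.zero_le _, hk0⟩
  have hlx : gen α β l x ≠ x := fun hl' => hxF (fix_pair α β h.βp hk hl hkl x hx hl')
  have hodd : ¬ 2 ∣ p := fun hd =>
    hp2 ((Nat.prime_dvd_prime_iff_eq Nat.prime_two hp.out).1 hd).symm
  have hUI : ∀ a ∈ fixSub (gen α β k), ∀ b ∈ fixSub (gen α β k), a ^ 2 = 1 → b ^ 2 = 1 →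
      a ≠ 1 → b ≠ 1 → a = b := by
    intro a ha b hb ha2 hb2 ha1 hb1
    rw [pow_two] at ha2 hb2
    rcases h.uniq _ (h.gen_mem k) (h.gen_ne k) a ha ha2 with h1 | h1
    · exact absurd h1 ha1
    rcases h.uniq _ (h.gen_mem k) (h.gen_ne k) b hb hb2 with h2 | h2
    · exact absurd h2 hb1
    rw [h1, h2]
  obtain ⟨hcard, hiso⟩ := quat_of_aut (fixSub (gen α β k)) (h.hW.to_subgroup _) hUI (gen α β l)
    (h.C_inv k _ (h.gen_mem l)) (h.gen_pow l) hodd ⟨x, hx, hlx⟩
  have hmod := card_modEq_fix (p := p) (n := 1) (fixSub (gen α β k)) (gen α β l)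
    (h.C_inv k _ (h.gen_mem l)) (by rw [pow_one]; exact h.gen_pow l)
  set F : Subgroup W := fixSub (gen α β k) ⊓ fixSub (gen α β l) with hFdef
  have hFle : F ≤ fixSub (gen α β k) := inf_le_left
  have hFne : F ≠ fixSub (gen α β k) := by
    intro heq
    have : x ∈ F := by rw [heq]; exact hx
    exact hlx this.2
  have hFdvd : Nat.card F ∣ 8 := hcard ▸ Subgroup.card_dvd_of_le hFle
  have hFlt : Nat.card F < 8 :=
    hcard ▸ Cfsg.Agent.Lib.Helper24.Coprime.card_lt_of_le_of_ne hFle hFne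
  have hzF : Subgroup.zpowers z ≤ F := by
    rw [Subgroup.zpowers_le]
    exact ⟨h.z_fix k, h.z_fix l⟩
  have hF2 : 2 ≤ Nat.card F := h.card_zpowers ▸ Subgroup.card_le_of_le hzF
  have hFcases : Nat.card F = 2 ∨ Nat.card F = 4 := by
    have h8 : Nat.card F ∈ Nat.divisors 8 := Nat.mem_divisors.2 ⟨hFdvd, by norm_num⟩
    have hd : Nat.divisors 8 = {1, 2, 4, 8} := by decide
    rw [hd] at h8
    simp only [Finset.mem_insert, Finset.mem_singleton] at h8
    omega
  rw [hcard] at hmod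
  rcases hFcases with hF | hF
  · rw [hF] at hmod
    have hd : p ∣ 6 := (Nat.modEq_iff_dvd' (by norm_num)).1 hmod.symm
    have hp3 : p = 3 := by
      have h6 : (6 : ℕ) = 2 * 3 := by norm_num
      rw [h6] at hd
      rcases (Nat.Prime.dvd_mul hp.out).1 hd with h2 | h3
      · exact absurd ((Nat.prime_dvd_prime_iff_eq hp.out Nat.prime_two).1 h2) hp2
      · exact (Nat.prime_dvd_prime_iff_eq hp.out Nat.prime_three).1 h3
    refine ⟨hp3, ?_, hcard, hiso⟩
    intro y hyα hyβ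
    have hyF : y ∈ F := ⟨gen_fix_of α β y hyα hyβ k, gen_fix_of α β y hyα hyβ l⟩
    have h1 : (⟨y, hyF⟩ : F) ^ Nat.card F = 1 := pow_card_eq_one'
    rw [hF] at h1
    have h2 : y ^ 2 = 1 := by
      have := congrArg Subtype.val h1
      simpa using this
    rw [pow_two] at h2
    exact h.uniq β h.hβ (h.gen_ne 0) y hyβ h2
  · exfalso
    rw [hF] at hmod
    have hd : p ∣ 4 := (Nat.modEq_iff_dvd' (by norm_num)).1 hmod.symm
    have h4 : (4 : ℕ) = 2 ^ 2 := by norm_num
    rw [h4] at hd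
    exact hp2 ((Nat.prime_dvd_prime_iff_eq hp.out Nat.prime_two).1 (hp.out.dvd_of_dvd_pow hd))

theorem Ctx.struct3 [Finite W] (h : Ctx E 3 α β z)
    (hF : ∀ y, α y = y → β y = y → y = 1 ∨ y = z) (k : ℕ) (hk : k ≤ 3) :
    QP z (fixSub (gen α β k)) ∧ Nat.card (fixSub (gen α β k)) ≤ 8 ∧
      ((∃ x ∈ fixSub (gen α β k), x ≠ 1 ∧ x ≠ z) →
        Nat.card (fixSub (gen α β k)) = 8 ∧
        ∃ x ∈ fixSub (gen α β k), ∃ y ∈ fixSub (gen α β k), x * y ≠ y * x) := by
  haveI : Fact (Nat.Prime 3) := ⟨Nat.prime_three⟩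
  have hzk : z ∈ fixSub (gen α β k) := h.z_fix k
  by_cases hsmall : ∀ x ∈ fixSub (gen α β k), α x = x ∧ β x = x
  · have hall : ∀ x ∈ fixSub (gen α β k), x = 1 ∨ x = z := fun x hx =>
      hF x (hsmall x hx).1 (hsmall x hx).2
    refine ⟨⟨hzk, ?_, ?_, ?_⟩, ?_, ?_⟩
    · intro x hx
      rcases hall x hx with h1 | h1
      · left; rw [h1]; simp
      · left; rw [h1]; exact h.zz
    · intro x hx y hy
      left
      rcases hall x hx with h1 | h1
      · rw [h1]; simp
      · rw [h1, ← h.zc y]; group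
    · intro c hc _
      exact hall c hc
    · have hle : fixSub (gen α β k) ≤ Subgroup.zpowers z := by
        intro x hx
        rcases hall x hx with h1 | h1
        · rw [h1]; exact Subgroup.one_mem _
        · rw [h1]; exact Subgroup.mem_zpowers z
      have := Subgroup.card_le_of_le hle
      rw [h.card_zpowers] at this
      omega
    · rintro ⟨x, hx, hx1, hxz⟩
      rcases hall x hx with h1 | h1
      · exact absurd h1 hx1
      · exact absurd h1 hxz
  · push Not at hsmall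
    obtain ⟨x, hx, hxF⟩ := hsmall
    have hxF' : ¬ (α x = x ∧ β x = x) := fun hh => hxF hh.1 hh.2
    obtain ⟨-, -, hcard, ⟨f⟩⟩ := h.quat (by norm_num) hk x hx hxF'
    obtain ⟨q1, q2, q3, q4⟩ := q8_facts f
    have hu := h.uniq _ (h.gen_mem k) (h.gen_ne k)
    refine ⟨⟨hzk, ?_, ?_, ?_⟩, hcard.le, fun _ => ⟨hcard, ?_⟩⟩
    · intro y hy
      have h1 := congrArg Subtype.val (q1 ⟨y, hy⟩)
      have h2 : y ^ 4 = 1 := by simpa using h1
      have h3 : (y * y) * (y * y) = 1 := by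
        rw [← h2]; simp only [pow_succ, pow_zero, one_mul, mul_assoc]
      exact hu (y * y) (Subgroup.mul_mem _ hy hy) h3
    · intro a ha b hb
      have h1 := congrArg Subtype.val (q2 ⟨a, ha⟩ ⟨b, hb⟩)
      have h2 : (a * b * a⁻¹ * b⁻¹) ^ 2 = 1 := by simpa using h1
      rw [pow_two] at h2
      exact hu _ (Subgroup.mul_mem _ (Subgroup.mul_mem _ (Subgroup.mul_mem _ ha hb)
        (Subgroup.inv_mem _ ha)) (Subgroup.inv_mem _ hb)) h2
    · intro c hc hcen
      have h1 := q3 ⟨c, hc⟩ (fun a => Subtype.ext (hcen a.1 a.2))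
      have h2 : c ^ 2 = 1 := by
        have := congrArg Subtype.val h1
        simpa using this
      rw [pow_two] at h2
      exact hu c hc h2
    · obtain ⟨a, b, hab⟩ := q4
      exact ⟨a.1, a.2, b.1, b.2, fun hh => hab (Subtype.ext hh)⟩

end part3

section part4


open Cfsg.Agent.Lib.Helper31.CoprimeGen Cfsg.Agent.Lib.Helper30.Hol Cfsg.Agent.Lib.Helper30.QJoin

variable {W : Type*} [Group W] {E : Subgroup (MulAut W)} {p : ℕ} {α β : MulAut W} {z : W}

/-- The elements of `T` whose commutators with `T` all lie in `{1, z}`. -/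
def cen2 (z : W) (hzc : ∀ g : W, g * z = z * g) (hzz : z * z = 1) (T : Subgroup W) :
    Subgroup W where
  carrier := {w | w ∈ T ∧ ∀ t ∈ T, w * t * w⁻¹ * t⁻¹ = 1 ∨ w * t * w⁻¹ * t⁻¹ = z}
  mul_mem' := by
    rintro w w' ⟨hw, hwc⟩ ⟨hw', hwc'⟩
    refine ⟨T.mul_mem hw hw', fun t ht => ?_⟩
    have e : w * w' * t * (w * w')⁻¹ * t⁻¹
        = w * (w' * t * w'⁻¹ * t⁻¹) * w⁻¹ * (w * t * w⁻¹ * t⁻¹) := by group
    rw [e]
    rcases hwc' t ht with h1 | h1 <;> rcases hwc t ht with h2 | h2 <;> rw [h1, h2]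
    · left; group
    · right; group
    · right
      rw [hzc w]; group
    · left
      rw [hzc w]
      calc z * w * w⁻¹ * z = z * z := by group
        _ = 1 := hzz
  one_mem' := ⟨T.one_mem, fun t _ => Or.inl (by group)⟩
  inv_mem' := by
    rintro w ⟨hw, hwc⟩
    refine ⟨T.inv_mem hw, fun t ht => ?_⟩
    have e : w⁻¹ * t * w⁻¹⁻¹ * t⁻¹ = w⁻¹ * (w * t * w⁻¹ * t⁻¹)⁻¹ * w := by group
    rw [e]
    rcases hwc t ht with h1 | h1 <;> rw [h1]
    · left; group
    · right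
      have hzi : z⁻¹ = z := inv_eq_of_mul_eq_one_left hzz
      rw [hzi, hzc w⁻¹]; group

theorem mem_cen2 {z : W} (hzc : ∀ g : W, g * z = z * g) (hzz : z * z = 1) (T : Subgroup W)
    (w : W) : w ∈ cen2 z hzc hzz T ↔
      w ∈ T ∧ ∀ t ∈ T, w * t * w⁻¹ * t⁻¹ = 1 ∨ w * t * w⁻¹ * t⁻¹ = z := Iff.rfl

theorem Ctx.pair [Finite W] (h : Ctx E 3 α β z)
    (hF : ∀ y, α y = y → β y = y → y = 1 ∨ y = z) {j l : ℕ} (hj : j ≤ 3) (hl : l ≤ 3)
    (hjl : j ≠ l)
    (hc : ∀ x ∈ fixSub (gen α β j), ∀ c ∈ fixSub (gen α β l),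
      x * c * x⁻¹ * c⁻¹ = 1 ∨ x * c * x⁻¹ * c⁻¹ = z) :
    ∀ x ∈ fixSub (gen α β j), ∀ c ∈ fixSub (gen α β l), x * c = c * x := by
  haveI : Fact (Nat.Prime 3) := ⟨Nat.prime_three⟩
  intro x hx c hcl
  set g := gen α β j with hg
  have hgE : g ∈ E := h.gen_mem j
  have hg3 : ∀ y : W, g (g (g y)) = y := by
    intro y
    have h1 := congrArg (fun φ : MulAut W => φ y) (h.gen_pow j)
    simpa [pow_succ, MulAut.mul_apply] using h1
  have hgx : g x = x := hx
  have hgz : g z = z := h.z_fix j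
  have hgc : g c ∈ fixSub (gen α β l) := h.C_inv l g hgE c hcl
  have hggc : g (g c) ∈ fixSub (gen α β l) := h.C_inv l g hgE _ hgc
  have hκg : ∀ c ∈ fixSub (gen α β l), x * g c * x⁻¹ * (g c)⁻¹ = x * c * x⁻¹ * c⁻¹ := by
    intro c hc'
    have e : x * g c * x⁻¹ * (g c)⁻¹ = g (x * c * x⁻¹ * c⁻¹) := by
      simp only [map_mul, map_inv, hgx]
    rw [e]
    rcases hc x hx c hc' with h1 | h1 <;> rw [h1]
    · exact map_one g
    · exact hgz
  have hQ := (h.struct3 hF l hl).1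
  set N := c * g c * g (g c) with hN
  have hNl : N ∈ fixSub (gen α β l) :=
    Subgroup.mul_mem _ (Subgroup.mul_mem _ hcl hgc) hggc
  have hgN : g N = (c⁻¹ * N * c⁻¹⁻¹ * N⁻¹) * N := by
    rw [hN, map_mul, map_mul, hg3 c]; group
  have hNz : N = 1 ∨ N = z := by
    have hfixN : g N = N := by
      rcases hQ.comm c⁻¹ (Subgroup.inv_mem _ hcl) N hNl with h1 | h1
      · rw [hgN, h1, one_mul]
      · exfalso
        rw [h1] at hgN
        have h2 : g (g N) = N := by
          rw [hgN, map_mul, hgz, hgN, ← mul_assoc, h.zz, one_mul]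
        have h3 := hg3 N
        rw [h2, hgN] at h3
        apply h.z1
        calc z = z * N * N⁻¹ := by group
          _ = N * N⁻¹ := by rw [h3]
          _ = 1 := by group
    obtain ⟨h1, h2⟩ := fix_pair α β h.βp hj hl hjl N hfixN hNl
    exact hF N h1 h2
  have hκN : x * N * x⁻¹ * N⁻¹ = 1 := by
    rcases hNz with h1 | h1 <;> rw [h1]
    · group
    · rw [h.zc x]; group
  have hmul : ∀ u v : W, (x * v * x⁻¹ * v⁻¹ = 1 ∨ x * v * x⁻¹ * v⁻¹ = z) →
      x * (u * v) * x⁻¹ * (u * v)⁻¹ = (x * u * x⁻¹ * u⁻¹) * (x * v * x⁻¹ * v⁻¹) := by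
    intro u v hv
    have e : x * (u * v) * x⁻¹ * (u * v)⁻¹
        = (x * u * x⁻¹ * u⁻¹) * (u * (x * v * x⁻¹ * v⁻¹) * u⁻¹) := by group
    rw [e]
    rcases hv with h1 | h1 <;> rw [h1]
    · group
    · rw [h.zc u]; group
  have hκ3 : x * N * x⁻¹ * N⁻¹ = (x * c * x⁻¹ * c⁻¹) * (x * c * x⁻¹ * c⁻¹) * (x * c * x⁻¹ * c⁻¹) := by
    have h1 := hκg c hcl
    have h2 := hκg (g c) hgc
    rw [h1] at h2
    rw [hN, hmul (c * g c) (g (g c)) (by rw [h2]; exact hc x hx c hcl),
      hmul c (g c) (by rw [h1]; exact hc x hx c hcl), h1, h2]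
  rw [hκN] at hκ3
  rcases hc x hx c hcl with h1 | h1
  · calc x * c = (x * c * x⁻¹ * c⁻¹) * c * x := by group
      _ = c * x := by rw [h1, one_mul]
  · exfalso
    rw [h1, h.zz, one_mul] at hκ3
    exact h.z1 hκ3.symm

theorem Ctx.commAll [Finite W] (h : Ctx E 3 α β z)
    (hF : ∀ y, α y = y → β y = y → y = 1 ∨ y = z) :
    ∀ k l, k ≤ 3 → l ≤ 3 → k ≠ l →
      ∀ x ∈ fixSub (gen α β k), ∀ y ∈ fixSub (gen α β l), x * y = y * x := by
  classical
  haveI : Fact (Nat.Prime 3) := ⟨Nat.prime_three⟩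
  haveI : Fact (Nat.Prime 2) := ⟨Nat.prime_two⟩
  let Good : ℕ → Prop := fun k => ∀ l, l ≤ 3 → l ≠ k →
    ∀ x ∈ fixSub (gen α β k), ∀ y ∈ fixSub (gen α β l), x * y = y * x
  suffices hgood : ∀ k, k ≤ 3 → Good k from fun k l hk hl hkl => hgood k hk l hl (Ne.symm hkl)
  by_contra hbad
  push Not at hbad
  obtain ⟨k₀, hk₀, hk₀bad⟩ := hbad
  set I : Finset ℕ := (Finset.range 4).filter (fun k => ¬ Good k) with hI
  have hk₀I : k₀ ∈ I := Finset.mem_filter.2 ⟨Finset.mem_range.2 (by omega), hk₀bad⟩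
  set T : Subgroup W := ⨆ k ∈ I, fixSub (gen α β k) with hT
  have hCT : ∀ k ∈ I, fixSub (gen α β k) ≤ T := fun k hk =>
    le_iSup₂ (f := fun k (_ : k ∈ I) => fixSub (gen α β k)) k hk
  have hTinv : ∀ e ∈ E, ∀ x ∈ T, e x ∈ T := by
    intro e he
    have : T ≤ T.comap e.toMonoidHom := by
      refine iSup₂_le fun k hk x hx => ?_
      exact hCT k hk (h.C_inv k e he x hx)
    exact fun x hx => this hx
  -- a bad index has a big fixed group
  have hbig : ∀ k, k ≤ 3 → ¬ Good k → ∃ x ∈ fixSub (gen α β k), x ≠ 1 ∧ x ≠ z := by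
    intro k _ hkb
    by_contra hno
    push Not at hno
    apply hkb
    intro l _ _ x hx y _
    by_cases hx1 : x = 1
    · rw [hx1]; simp
    · rw [hno x hx hx1]; exact (h.zc y).symm
  obtain ⟨x₀, hx₀, hx₀1, hx₀z⟩ := hbig k₀ hk₀ hk₀bad
  have hzT : z ∈ T := hCT k₀ hk₀I (h.z_fix k₀)
  have hTN : ¬ T ≤ Subgroup.zpowers z := by
    intro hle
    rcases mem_zpowers_invol h.zz (hle (hCT k₀ hk₀I hx₀)) with h1 | h1
    · exact hx₀1 h1
    · exact hx₀z h1
  obtain ⟨w, hwT, hwN, hwc⟩ := exists_second_center (p := 2) T (h.hW.to_subgroup T)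
    (Subgroup.zpowers z) hTN
  set M : Subgroup W := cen2 z h.zc h.zz T with hM
  have hwM : w ∈ M := ⟨hwT, fun t ht => mem_zpowers_invol h.zz (hwc t ht)⟩
  have hMT : M ≤ T := fun x hx => hx.1
  have hzM : z ∈ M := ⟨hzT, fun t _ => Or.inl (by rw [← h.zc t]; group)⟩
  have hMinv : ∀ e ∈ E, ∀ x ∈ M, e x ∈ M := by
    intro e he x hx
    refine ⟨hTinv e he x hx.1, fun t ht => ?_⟩
    have h1 := hx.2 (e⁻¹ t) (hTinv e⁻¹ (E.inv_mem he) t ht)
    have e1 : e x * t * (e x)⁻¹ * t⁻¹ = e (x * e⁻¹ t * x⁻¹ * (e⁻¹ t)⁻¹) := by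
      simp only [map_mul, map_inv, MulAut.apply_inv_self]
    rw [e1]
    rcases h1 with h2 | h2 <;> rw [h2]
    · left; exact map_one e
    · right; exact h.zE e he
  have hgen := generation h.hW (p := 3) (by norm_num) E h.comm h.hα h.hβ h.αp h.βp M hMinv
  have hex : ∃ j, j ≤ 3 ∧ ∃ c ∈ M ⊓ fixSub (gen α β j), c ∉ Subgroup.zpowers z := by
    by_contra hno
    push Not at hno
    apply hwN
    refine (hgen.trans (iSup₂_le fun k hk => ?_)) hwM
    intro c hc
    exact hno k (by have := Finset.mem_range.1 hk; omega) c hc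
  obtain ⟨j, hj, c, hcMj, hcN⟩ := hex
  have hc1 : c ≠ 1 := fun h1 => hcN (h1 ▸ Subgroup.one_mem _)
  have hcz : c ≠ z := fun h1 => hcN (h1 ▸ Subgroup.mem_zpowers z)
  obtain ⟨hcardj, xa, hxa, ya, hya, hxya⟩ := (h.struct3 hF j hj).2.2 ⟨c, hcMj.2, hc1, hcz⟩
  obtain ⟨l, hl, hjl⟩ : ∃ l, l ≤ 3 ∧ j ≠ l := by
    by_cases hj0 : j = 0
    · exact ⟨1, by norm_num, by omega⟩
    · exact ⟨0, Nat.zero_le _, hj0⟩
  have hinvMj : ∀ x ∈ M ⊓ fixSub (gen α β j), gen α β l x ∈ M ⊓ fixSub (gen α β j) :=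
    fun x hx => ⟨hMinv _ (h.gen_mem l) x hx.1, h.C_inv j _ (h.gen_mem l) x hx.2⟩
  have hmod := card_modEq_fix (p := 3) (n := 1) (M ⊓ fixSub (gen α β j)) (gen α β l) hinvMj
    (by rw [pow_one]; exact h.gen_pow l)
  have hfixeq : M ⊓ fixSub (gen α β j) ⊓ fixSub (gen α β l) = Subgroup.zpowers z := by
    apply le_antisymm
    · intro x hx
      obtain ⟨h1, h2⟩ := fix_pair α β h.βp hj hl hjl x hx.1.2 hx.2
      rcases hF x h1 h2 with h3 | h3
      · rw [h3]; exact Subgroup.one_mem _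
      · rw [h3]; exact Subgroup.mem_zpowers z
    · rw [Subgroup.zpowers_le]
      exact ⟨⟨hzM, h.z_fix j⟩, h.z_fix l⟩
  rw [hfixeq, h.card_zpowers] at hmod
  have hzle : Subgroup.zpowers z ≤ M ⊓ fixSub (gen α β j) := by
    rw [Subgroup.zpowers_le]; exact ⟨hzM, h.z_fix j⟩
  have hzne : Subgroup.zpowers z ≠ M ⊓ fixSub (gen α β j) := by
    intro heq
    apply hcN
    rw [heq]; exact hcMj
  have hgt : 2 < Nat.card (M ⊓ fixSub (gen α β j) : Subgroup W) :=
    h.card_zpowers ▸ Cfsg.Agent.Lib.Helper24.Coprime.card_lt_of_le_of_ne hzle hzne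
  have hdvd : Nat.card (M ⊓ fixSub (gen α β j) : Subgroup W) ∣ 8 :=
    hcardj ▸ Subgroup.card_dvd_of_le inf_le_right
  have hc8 : Nat.card (M ⊓ fixSub (gen α β j) : Subgroup W) = 8 := by
    have h8 : Nat.card (M ⊓ fixSub (gen α β j) : Subgroup W) ∈ Nat.divisors 8 :=
      Nat.mem_divisors.2 ⟨hdvd, by norm_num⟩
    have hd : Nat.divisors 8 = {1, 2, 4, 8} := by decide
    rw [hd] at h8
    simp only [Finset.mem_insert, Finset.mem_singleton] at h8
    rcases h8 with h8 | h8 | h8 | h8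
    · omega
    · omega
    · rw [h8] at hmod; exact absurd hmod (by decide)
    · exact h8
  have hCjM : fixSub (gen α β j) ≤ M := by
    have heq : M ⊓ fixSub (gen α β j) = fixSub (gen α β j) :=
      Subgroup.eq_of_le_of_card_ge inf_le_right (by rw [hc8, hcardj])
    rw [← heq]; exact inf_le_left
  have hpairT : ∀ l, l ≤ 3 → l ≠ j → fixSub (gen α β l) ≤ T →
      ∀ x ∈ fixSub (gen α β j), ∀ y ∈ fixSub (gen α β l), x * y = y * x := by
    intro l hl hlj hlT
    exact h.pair hF hj hl (Ne.symm hlj) (fun x hx c hc => (hCjM hx).2 c (hlT hc))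
  by_cases hjI : j ∈ I
  · have hjbad : ¬ Good j := (Finset.mem_filter.1 hjI).2
    apply hjbad
    intro l hl hlj x hx y hy
    by_cases hlI : l ∈ I
    · exact hpairT l hl hlj (hCT l hlI) x hx y hy
    · have hlgood : Good l := by
        by_contra hlb
        exact hlI (Finset.mem_filter.2 ⟨Finset.mem_range.2 (by omega), hlb⟩)
      exact (hlgood j hj (Ne.symm hlj) y hy x hx).symm
  · apply hxya
    have hTc : T ≤ Subgroup.centralizer {xa} := by
      refine iSup₂_le fun k hk y hy => ?_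
      have hkj : k ≠ j := fun hkj => hjI (hkj ▸ hk)
      have hk3 : k ≤ 3 := by
        have := Finset.mem_range.1 (Finset.mem_filter.1 hk).1; omega
      rw [Subgroup.mem_centralizer_iff]
      intro g hg
      rw [Set.mem_singleton_iff] at hg
      rw [hg]
      exact hpairT k hk3 hkj (hCT k hk) xa hxa y hy
    have := hTc (hMT (hCjM hya))
    rw [Subgroup.mem_centralizer_iff] at this
    exact this xa rfl

end part4

section part5


open Cfsg.Agent.Lib.Helper31.CoprimeGen Cfsg.Agent.Lib.Helper30.Hol Cfsg.Agent.Lib.Helper30.QJoin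

universe u

variable {W : Type u} [Group W]

theorem comm_sup (A B Y : Subgroup W) (hA : ∀ a ∈ A, ∀ y ∈ Y, a * y = y * a)
    (hB : ∀ b ∈ B, ∀ y ∈ Y, b * y = y * b) : ∀ w ∈ A ⊔ B, ∀ y ∈ Y, w * y = y * w := by
  have hle : A ⊔ B ≤ Subgroup.centralizer (Y : Set W) := by
    refine sup_le (fun a ha => ?_) (fun b hb => ?_)
    · rw [Subgroup.mem_centralizer_iff]
      exact fun y hy => (hA a ha y hy).symm
    · rw [Subgroup.mem_centralizer_iff]
      exact fun y hy => (hB b hb y hy).symm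
  intro w hw y hy
  exact ((Subgroup.mem_centralizer_iff.1 (hle hw)) y hy).symm

theorem main [Finite W] (hW : IsPGroup 2 W) {p : ℕ} [Fact p.Prime] (hp : p ≠ 2)
    (E : Subgroup (MulAut W)) (hE : IsPGroup p ↥E) (hab : IsMulCommutative ↥E)
    (hnc : ¬ IsCyclic ↥E)
    (hfix : ∀ e ∈ E, e ≠ 1 → ∀ x y : W, orderOf x = 2 → orderOf y = 2 → e x = x → e y = y →
      x = y) :
    Nat.card ↥E = 9 ∧ Cfsg.IsExtraspecial 2 W ∧
      (Nat.card W = 2 ^ 5 ∨ Nat.card W = 2 ^ 7 ∨ Nat.card W = 2 ^ 9) ∧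
      {x : W | ∀ e ∈ E, e x = x} = (Subgroup.center W : Set W) := by
  have comm : ∀ e ∈ E, ∀ f ∈ E, e * f = f * e := fun e he f hf =>
    congrArg Subtype.val (hab.is_comm.comm ⟨e, he⟩ ⟨f, hf⟩)
  obtain ⟨α, β, hα, hβ, αp, βp, hne⟩ := exists_ab E hE hab hnc
  obtain ⟨z, hz2, hzc, hzE⟩ := exists_z hW hp E comm hα hβ αp βp hne hfix
  have hzz : z * z = 1 := by rw [← pow_two, ← hz2]; exact pow_orderOf_eq_one z
  have hz1 : z ≠ 1 := by
    intro h; rw [h, orderOf_one] at hz2; norm_num at hz2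
  have huniq : ∀ e ∈ E, e ≠ 1 → ∀ x : W, e x = x → x * x = 1 → x = 1 ∨ x = z := by
    intro e he he1 x hx hxx
    by_cases hx1 : x = 1
    · exact Or.inl hx1
    · right
      have hx2 : orderOf x = 2 := orderOf_eq_prime (by rw [pow_two]; exact hxx) hx1
      exact hfix e he he1 x z hx2 hz2 hx (hzE e he)
  have ctx : Ctx E p α β z := ⟨hW, comm, hα, hβ, αp, βp, hne, hzz, hz1, hzc, hzE, huniq⟩
  have hgenW := generation hW hp E comm hα hβ αp βp ⊤ (fun _ _ _ _ => Subgroup.mem_top _)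
  have hex : ∃ k, k ≤ p ∧ ∃ x, gen α β k x = x ∧ ¬ (α x = x ∧ β x = x) := by
    by_contra hno
    apply hne 0
    have hle : (⊤ : Subgroup W) ≤ fixSub β := by
      refine hgenW.trans (iSup₂_le fun k hk x hx => ?_)
      by_contra hβx
      apply hno
      refine ⟨k, by have := Finset.mem_range.1 hk; omega, x, hx.2, fun hh => hβx hh.2⟩
    ext w
    exact hle (Subgroup.mem_top w)
  obtain ⟨k₁, hk₁, x₁, hx₁, hx₁F⟩ := hex
  obtain ⟨hp3, hF, -, -⟩ := ctx.quat hp hk₁ x₁ hx₁ hx₁F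
  subst hp3
  have hcomm := ctx.commAll hF
  have hS := fun k hk => ctx.struct3 hF k hk
  -- the chain of joins
  have h01 := hcomm 0 1 (by norm_num) (by norm_num) (by norm_num)
  have hQ2 : QP z (fixSub (gen α β 0) ⊔ fixSub (gen α β 1)) :=
    QP.sup hzc hzz (hS 0 (by norm_num)).1 (hS 1 (by norm_num)).1 h01
  have hc2 := comm_sup (fixSub (gen α β 0)) (fixSub (gen α β 1)) (fixSub (gen α β 2))
    (hcomm 0 2 (by norm_num) (by norm_num) (by norm_num))
    (hcomm 1 2 (by norm_num) (by norm_num) (by norm_num))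
  have hQ3 : QP z (fixSub (gen α β 0) ⊔ fixSub (gen α β 1) ⊔ fixSub (gen α β 2)) :=
    QP.sup hzc hzz hQ2 (hS 2 (by norm_num)).1 hc2
  have hc3 := comm_sup (fixSub (gen α β 0) ⊔ fixSub (gen α β 1)) (fixSub (gen α β 2))
    (fixSub (gen α β 3))
    (comm_sup (fixSub (gen α β 0)) (fixSub (gen α β 1)) (fixSub (gen α β 3))
      (hcomm 0 3 (by norm_num) (by norm_num) (by norm_num))
      (hcomm 1 3 (by norm_num) (by norm_num) (by norm_num)))
    (hcomm 2 3 (by norm_num) (by norm_num) (by norm_num))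
  have hQ4 : QP z (fixSub (gen α β 0) ⊔ fixSub (gen α β 1) ⊔ fixSub (gen α β 2)
      ⊔ fixSub (gen α β 3)) :=
    QP.sup hzc hzz hQ3 (hS 3 (by norm_num)).1 hc3
  have htop : fixSub (gen α β 0) ⊔ fixSub (gen α β 1) ⊔ fixSub (gen α β 2)
      ⊔ fixSub (gen α β 3) = ⊤ := by
    rw [eq_top_iff]
    refine hgenW.trans (iSup₂_le fun k hk => ?_)
    have hk4 : k < 4 := Finset.mem_range.1 hk
    interval_cases k
    · exact inf_le_right.trans (le_sup_left.trans (le_sup_left.trans le_sup_left))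
    · exact inf_le_right.trans (le_sup_right.trans (le_sup_left.trans le_sup_left))
    · exact inf_le_right.trans (le_sup_right.trans le_sup_left)
    · exact inf_le_right.trans le_sup_right
  have hQtop : QP z (⊤ : Subgroup W) := htop ▸ hQ4
  have hzmem : ∀ k, z ∈ fixSub (gen α β k) := fun k => ctx.z_fix k
  -- cardinality bound
  have hcardW : Nat.card W ≤ 512 := by
    have c2 := card_sup_le hz1 hzz (fixSub (gen α β 0)) (fixSub (gen α β 1)) (hzmem 0) (hzmem 1)
      h01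
    have c3 := card_sup_le hz1 hzz (fixSub (gen α β 0) ⊔ fixSub (gen α β 1))
      (fixSub (gen α β 2)) (Subgroup.mem_sup_left (hzmem 0)) (hzmem 2) hc2
    have c4 := card_sup_le hz1 hzz (fixSub (gen α β 0) ⊔ fixSub (gen α β 1) ⊔ fixSub (gen α β 2))
      (fixSub (gen α β 3)) (Subgroup.mem_sup_left (Subgroup.mem_sup_left (hzmem 0))) (hzmem 3)
      hc3
    rw [htop, Subgroup.card_top] at c4
    have b0 := (hS 0 (by norm_num)).2.1
    have b1 := (hS 1 (by norm_num)).2.1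
    have b2 := (hS 2 (by norm_num)).2.1
    have b3 := (hS 3 (by norm_num)).2.1
    have e2 : Nat.card (fixSub (gen α β 0) ⊔ fixSub (gen α β 1) : Subgroup W) ≤ 32 := by
      have := Nat.mul_le_mul b0 b1
      omega
    have e3 : Nat.card (fixSub (gen α β 0) ⊔ fixSub (gen α β 1) ⊔ fixSub (gen α β 2) :
        Subgroup W) ≤ 128 := by
      have := Nat.mul_le_mul e2 b2
      omega
    have := Nat.mul_le_mul e3 b3
    omega
  have hxs : Cfsg.Agent.Lib.Helper93.LargeExtra2.XS (⊤ : Subgroup W) z :=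
    ⟨Subgroup.mem_top z, hz1, hzz, fun a _ => (hzc a).symm,
      fun c _ hcen => hQtop.central c (Subgroup.mem_top c) (fun a _ => hcen a (Subgroup.mem_top a)),
      fun a _ b _ => hQtop.comm a (Subgroup.mem_top a) b (Subgroup.mem_top b)⟩
  have hk₁3 : k₁ ≤ 3 := hk₁
  have hx₁1 : x₁ ≠ 1 := by
    intro h1; apply hx₁F; rw [h1]; exact ⟨map_one α, map_one β⟩
  have hx₁z : x₁ ≠ z := by
    intro h1; apply hx₁F; rw [h1]; exact ⟨hzE α hα, hzE β hβ⟩
  obtain ⟨hcard₁, xa, hxa, ya, hya, hxya⟩ := (hS k₁ hk₁3).2.2 ⟨x₁, hx₁, hx₁1, hx₁z⟩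
  have hext : Cfsg.IsExtraspecial 2 W :=
    Cfsg.Agent.Lib.Helper30.XSModel.xs_extraspecial hxs
      (fun x => hQtop.sq x (Subgroup.mem_top x)) ⟨xa, ya, hxya⟩
  obtain ⟨-, m, -, hm1, hcardm, -⟩ := Cfsg.Agent.Lib.Helper30.XSIso.struct hext
  have hlow : 8 < Nat.card W := by
    have hle : Nat.card (fixSub (gen α β k₁)) ≤ Nat.card W := Subgroup.card_le_card_group _
    rcases Nat.lt_or_ge 8 (Nat.card W) with h8 | h8
    · exact h8
    · exfalso
      have heq : Nat.card (fixSub (gen α β k₁)) = Nat.card W := by omega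
      have ht := Subgroup.eq_top_of_card_eq _ heq
      apply hne k₁
      ext w
      have : w ∈ fixSub (gen α β k₁) := by rw [ht]; exact Subgroup.mem_top w
      exact this
  have hcardcases : Nat.card W = 2 ^ 5 ∨ Nat.card W = 2 ^ 7 ∨ Nat.card W = 2 ^ 9 := by
    have hm4 : m ≤ 4 := by
      by_contra hm5
      have : 2 ^ 11 ≤ 2 ^ (2 * m + 1) := Nat.pow_le_pow_right (by norm_num) (by omega)
      rw [← hcardm] at this
      norm_num at this
      omega
    have hm2 : 2 ≤ m := by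
      by_contra hlt
      have hm : m = 1 := by omega
      rw [hm] at hcardm
      norm_num at hcardm
      omega
    interval_cases m
    · left; exact hcardm
    · right; left; exact hcardm
    · right; right; exact hcardm
  -- a second large fixed group
  have hex2 : ∃ k₂, k₂ ≤ 3 ∧ k₂ ≠ k₁ ∧ ∃ x₂ ∈ fixSub (gen α β k₂), x₂ ≠ 1 ∧ x₂ ≠ z := by
    by_contra hno
    apply hne k₁
    have hle : (⊤ : Subgroup W) ≤ fixSub (gen α β k₁) := by
      refine hgenW.trans (iSup₂_le fun k hk x hx => ?_)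
      have hk3 : k ≤ 3 := by have := Finset.mem_range.1 hk; omega
      by_cases hkk : k = k₁
      · rw [← hkk]; exact hx.2
      · by_cases hx1 : x = 1
        · rw [hx1]; exact Subgroup.one_mem _
        · by_cases hxz : x = z
          · rw [hxz]; exact hzmem k₁
          · exact absurd ⟨k, hk3, hkk, x, hx.2, hx1, hxz⟩ hno
    ext w
    exact hle (Subgroup.mem_top w)
  obtain ⟨k₂, hk₂, hk₂₁, x₂, hx₂, hx₂1, hx₂z⟩ := hex2
  have hsq : ∀ k, k ≤ 3 → ∀ x ∈ fixSub (gen α β k), x ≠ 1 → x ≠ z → x * x = z := by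
    intro k hk x hx hx1 hxz
    rcases (hS k hk).1.sq x hx with h1 | h1
    · rcases huniq _ (ctx.gen_mem k) (hne k) x hx h1 with h2 | h2
      · exact absurd h2 hx1
      · exact absurd h2 hxz
    · exact h1
  have h12 : x₁ * x₂ = x₂ * x₁ := hcomm k₁ k₂ hk₁3 hk₂ (Ne.symm hk₂₁) x₁ hx₁ x₂ hx₂
  have hnotboth : ∀ y, y ∈ fixSub (gen α β k₁) → y ∈ fixSub (gen α β k₂) → y = 1 ∨ y = z := by
    intro y h1 h2
    obtain ⟨h3, h4⟩ := fix_pair α β βp hk₁3 hk₂ (Ne.symm hk₂₁) y h1 h2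
    exact hF y h3 h4
  have htriv : ∀ e ∈ E, e x₁ = x₁ → e x₂ = x₂ → e = 1 := by
    intro e he h1 h2
    by_contra he1
    have h3 : e (x₁ * x₂) = x₁ * x₂ := by rw [map_mul, h1, h2]
    have h4 : (x₁ * x₂) * (x₁ * x₂) = 1 := by
      calc (x₁ * x₂) * (x₁ * x₂) = x₁ * (x₂ * x₁) * x₂ := by group
        _ = x₁ * (x₁ * x₂) * x₂ := by rw [h12]
        _ = (x₁ * x₁) * (x₂ * x₂) := by group
        _ = 1 := by rw [hsq k₁ hk₁3 x₁ hx₁ hx₁1 hx₁z, hsq k₂ hk₂ x₂ hx₂ hx₂1 hx₂z, hzz]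
    rcases huniq e he he1 _ h3 h4 with h5 | h5
    · have h6 : x₂ = x₁⁻¹ := eq_inv_of_mul_eq_one_right h5
      rcases hnotboth x₂ (h6 ▸ Subgroup.inv_mem _ hx₁) hx₂ with h7 | h7
      · exact hx₂1 h7
      · exact hx₂z h7
    · have h6 : x₂ = x₁⁻¹ * z := by rw [← h5]; group
      rcases hnotboth x₂ (h6 ▸ Subgroup.mul_mem _ (Subgroup.inv_mem _ hx₁) (hzmem k₁)) hx₂
        with h7 | h7
      · exact hx₂1 h7
      · exact hx₂z h7
  have horb : ∀ k, k ≤ 3 → ∀ x ∈ fixSub (gen α β k), Nat.card (MulAction.orbit E x) ≤ 3 := by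
    intro k hk x hx
    obtain ⟨n, hn⟩ := hE.card_orbit x
    have hsub : (MulAction.orbit E x : Set W) ⊆ (fixSub (gen α β k) : Set W) := by
      rintro _ ⟨e, rfl⟩
      exact ctx.C_inv k e.1 e.2 x hx
    have hle : Nat.card (MulAction.orbit E x) ≤ Nat.card (fixSub (gen α β k)) :=
      Nat.card_mono (Set.toFinite _) hsub
    have h8 := (hS k hk).2.1
    rw [hn] at hle ⊢
    have hn1 : n ≤ 1 := by
      by_contra hn2
      have : 3 ^ 2 ≤ 3 ^ n := Nat.pow_le_pow_right (by norm_num) (by omega)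
      omega
    interval_cases n <;> norm_num
  have hcardE : Nat.card E ≤ 9 := by
    let F : E → MulAction.orbit E x₁ × MulAction.orbit E x₂ := fun e =>
      (⟨e • x₁, MulAction.mem_orbit _ _⟩, ⟨e • x₂, MulAction.mem_orbit _ _⟩)
    have hinj : Function.Injective F := by
      intro e e' hee
      have h1 : (e : MulAut W) x₁ = (e' : MulAut W) x₁ :=
        congrArg (fun q : MulAction.orbit E x₁ × MulAction.orbit E x₂ => (q.1 : W)) hee
      have h2 : (e : MulAut W) x₂ = (e' : MulAut W) x₂ :=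
        congrArg (fun q : MulAction.orbit E x₁ × MulAction.orbit E x₂ => (q.2 : W)) hee
      have h3 : ((e : MulAut W)⁻¹ * (e' : MulAut W)) = 1 := by
        apply htriv _ (E.mul_mem (E.inv_mem e.2) e'.2)
        · rw [MulAut.mul_apply, ← h1, MulAut.inv_apply_self]
        · rw [MulAut.mul_apply, ← h2, MulAut.inv_apply_self]
      apply Subtype.ext
      exact inv_mul_eq_one.1 h3
    have hc := Nat.card_le_card_of_injective F hinj
    rw [Nat.card_prod] at hc
    have := Nat.mul_le_mul (horb k₁ hk₁3 x₁ hx₁) (horb k₂ hk₂ x₂ hx₂)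
    omega
  have hcardE9 : Nat.card E = 9 := by
    obtain ⟨n, hn⟩ := hE.exists_card_eq
    have hn2 : 2 ≤ n := by
      by_contra hlt
      apply hnc
      have hn01 : n = 0 ∨ n = 1 := by omega
      rcases hn01 with h0 | h1
      · rw [h0, pow_zero] at hn
        haveI : Subsingleton E := (Nat.card_eq_one_iff_unique.1 hn).1
        exact isCyclic_of_subsingleton
      · rw [h1, pow_one] at hn
        exact isCyclic_of_prime_card hn
    have : 3 ^ 2 ≤ 3 ^ n := Nat.pow_le_pow_right (by norm_num) hn2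
    omega
  refine ⟨hcardE9, hext, hcardcases, ?_⟩
  ext x
  simp only [Set.mem_setOf_eq, SetLike.mem_coe, Subgroup.mem_center_iff]
  constructor
  · intro hx g
    rcases hF x (hx α hα) (hx β hβ) with h1 | h1
    · rw [h1]; simp
    · rw [h1]; exact hzc g
  · intro hx e he
    rcases hxs.central x (Subgroup.mem_top x) (fun a _ => hx a) with h1 | h1
    · rw [h1]; exact map_one e
    · rw [h1]; exact hzE e he

end part5

end Cfsg.Agent.Lib.Helper30.AbQ
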