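import Mathlib
import Cfsg.Agent.Lib.Helper26.J3Stmt
import Cfsg.Agent.Lib.Helper30.J3CON3

set_option autoImplicit false

/-!
# S3366 / CON6 (helper30): an element of `Sp(4,3)` centralizing the image of `z` in `PSp(4,3)`
is, up to sign, in the stabilizer of the first basis vector.
-/

namespace Cfsg.Agent.Lib.Helper30.J3CON6

open Cfsg Cfsg.Agent.Lib.Helper26.J3Stmt

/-- `-1` as an element of `Sp`. -/
def negOne : Sp := ⟨-1, SymplecticGroup.neg_mem (one_mem _)⟩

theorem negOne_mem_center : negOne ∈ Subgroup.center Sp := by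
  rw [Subgroup.mem_center_iff]
  intro h
  apply Subtype.ext
  rw [Submonoid.coe_mul, Submonoid.coe_mul]
  show (h : Mat) * (-1) = (-1) * (h : Mat)
  simp

theorem trace_zM : Matrix.trace zM = 1 := by
  simp [zM, Matrix.trace, Fintype.sum_sum_type, Matrix.fromBlocks]
  decide

theorem zM_mul_apply (G : Mat) (i j : Fin 2 ⊕ Fin 2) :
    (zM * G) i j = G i j + (if i = Sum.inl 0 then G (Sum.inr 0) j else 0) := by
  fin_cases i <;>
    simp [zM, Matrix.mul_apply, Fintype.sum_sum_type, Fin.sum_univ_two, Matrix.fromBlocks,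
      Matrix.one_apply]

theorem mul_zM_apply (G : Mat) (i j : Fin 2 ⊕ Fin 2) :
    (G * zM) i j = G i j + (if j = Sum.inr 0 then G i (Sum.inl 0) else 0) := by
  fin_cases j <;>
    simp [zM, Matrix.mul_apply, Fintype.sum_sum_type, Fin.sum_univ_two, Matrix.fromBlocks,
      Matrix.one_apply] <;> ring

theorem main : CON6 := by
  intro h5 z hz g hcomm
  -- the central element
  have hc : (g * z)⁻¹ * (z * g) ∈ Subgroup.center Sp := by
    apply QuotientGroup.eq.1
    rw [QuotientGroup.mk_mul, QuotientGroup.mk_mul]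
    exact hcomm
  set c : Sp := (g * z)⁻¹ * (z * g) with hcdef
  have hzg : z * g = g * z * c := by rw [hcdef]; group
  have hzgM : zM * (g : Mat) = (g : Mat) * zM * (c : Mat) := by
    have := congrArg (fun x : Sp => (x : Mat)) hzg
    simpa [Submonoid.coe_mul, hz] using this
  rcases (h5 c hc).1 with h1 | h1
  · -- commuting case
    rw [h1, mul_one] at hzgM
    have k1 := congrFun (congrFun hzgM (Sum.inl 1)) (Sum.inr 0)
    have k2 := congrFun (congrFun hzgM (Sum.inr 0)) (Sum.inr 0)
    have k3 := congrFun (congrFun hzgM (Sum.inr 1)) (Sum.inr 0)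
    have k0 := congrFun (congrFun hzgM (Sum.inl 0)) (Sum.inr 0)
    rw [zM_mul_apply, mul_zM_apply] at k0 k1 k2 k3
    simp at k0 k1 k2 k3
    have s := J3CON3.symp_entry g (Sum.inl 0) (Sum.inr 0)
    simp only [k0, k1, k2, k3] at s
    simp [Matrix.J, Matrix.fromBlocks] at s
    have hl : (g : Mat) (Sum.inl 0) (Sum.inl 0) = 1 ∨ (g : Mat) (Sum.inl 0) (Sum.inl 0) = -1 := by
      have h2 : (g : Mat) (Sum.inl 0) (Sum.inl 0) * (g : Mat) (Sum.inl 0) (Sum.inl 0) = 1 := s
      revert h2
      generalize (g : Mat) (Sum.inl 0) (Sum.inl 0) = x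
      revert x
      decide
    rcases hl with hl | hl
    · refine ⟨g, ?_, rfl⟩
      intro i
      fin_cases i
      · simpa using hl
      · simpa using k1
      · simpa using k2
      · simpa using k3
    · refine ⟨g * negOne, ?_, ?_⟩
      · intro i
        rw [Submonoid.coe_mul]
        show ((g : Mat) * (-1)) i (Sum.inl 0) = _
        rw [Matrix.mul_neg, Matrix.mul_one, Matrix.neg_apply]
        fin_cases i
        · simp [hl]
        · simp [k1]
        · simp [k2]
        · simp [k3]
      · rw [QuotientGroup.mk_mul, (QuotientGroup.eq_one_iff negOne).2 negOne_mem_center, mul_one]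
  · -- anticommuting case: impossible by the trace
    exfalso
    rw [h1] at hzgM
    have hinv : (g : Mat) * ((g⁻¹ : Sp) : Mat) = 1 := by
      have := congrArg Subtype.val (mul_inv_cancel g)
      rw [Submonoid.coe_mul] at this
      exact this
    have hinv' : ((g⁻¹ : Sp) : Mat) * (g : Mat) = 1 := by
      have := congrArg Subtype.val (inv_mul_cancel g)
      rw [Submonoid.coe_mul] at this
      exact this
    have e1 : zM = -((g : Mat) * zM * ((g⁻¹ : Sp) : Mat)) := by
      calc zM = zM * ((g : Mat) * ((g⁻¹ : Sp) : Mat)) := by rw [hinv, mul_one]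
        _ = (zM * (g : Mat)) * ((g⁻¹ : Sp) : Mat) := by rw [mul_assoc]
        _ = ((g : Mat) * zM * (-1)) * ((g⁻¹ : Sp) : Mat) := by rw [hzgM]
        _ = -((g : Mat) * zM * ((g⁻¹ : Sp) : Mat)) := by simp
    have e2 : Matrix.trace ((g : Mat) * zM * ((g⁻¹ : Sp) : Mat)) = Matrix.trace zM := by
      rw [Matrix.trace_mul_comm, ← mul_assoc, hinv', one_mul]
    have e3 := congrArg Matrix.trace e1
    rw [Matrix.trace_neg, e2, trace_zM] at e3
    revert e3
    decide

end Cfsg.Agent.Lib.Helper30.J3CON6
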