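import Mathlib
import Cfsg.Agent.Lib.Helper15.NpcStmt

set_option autoImplicit false

/-! Piece [CONG] of S3875. -/

namespace Cfsg.Agent.Lib.Helper30.NpcCONG

open Cfsg.Agent.Lib.Helper15.NpcStmt

theorem main : Cong := by
  intro p _ H _ _ hmin N hN hNbot hNmin hpN hcard hpp
  classical
  have hp : p.Prime := Fact.out
  have := hN
  obtain ⟨hnc, -, -⟩ := hmin
  -- a non-normal Sylow `p`-subgroup
  have hex : ∃ P : Sylow p H, ¬ (P : Subgroup H).Normal := by
    by_contra h
    push Not at h
    exact hnc h
  obtain ⟨P, hPn⟩ := hex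
  -- `N` is an `r`-group
  obtain ⟨r, k, hr, hk, hrk⟩ := hpp
  have hrp : r.Prime := Nat.prime_iff.mpr hr
  have : Fact r.Prime := ⟨hrp⟩
  have hNr : IsPGroup r ↥N := IsPGroup.of_card hrk.symm
  -- `N` is abelian
  have hNontriv : Nontrivial ↥N := (Subgroup.nontrivial_iff_ne_bot N).mpr hNbot
  have hcen : Subgroup.center ↥N ≠ ⊥ := (hNr.bot_lt_center).ne'
  have hZnorm : ((Subgroup.center ↥N).map N.subtype).Normal :=
    ConjAct.normal_of_characteristic_of_normal
  have hZle : (Subgroup.center ↥N).map N.subtype ≤ N := Subgroup.map_subtype_le _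
  have hZeq : (Subgroup.center ↥N).map N.subtype = N := by
    rcases hNmin _ hZnorm hZle with h | h
    · exfalso
      apply hcen
      exact (Subgroup.map_eq_bot_iff_of_injective _ N.subtype_injective).mp h
    · exact h
  have hab : ∀ a ∈ N, ∀ b ∈ N, a * b = b * a := by
    intro a ha b hb
    rw [← hZeq] at ha
    obtain ⟨z, hz, rfl⟩ := ha
    have := (Subgroup.mem_center_iff.mp hz) ⟨b, hb⟩
    have h2 := congrArg Subtype.val this
    exact h2.symm
  -- `P N = H`
  have hpP : p ∣ Nat.card (P : Subgroup H) := by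
    apply P.dvd_card_of_dvd_card
    rw [hcard]
    exact dvd_mul_right p _
  have hsup : (P : Subgroup H) ⊔ N = ⊤ := by
    apply Subgroup.eq_top_of_le_card
    have h1 : Nat.card N ∣ Nat.card ↥((P : Subgroup H) ⊔ N) :=
      Subgroup.card_dvd_of_le le_sup_right
    have h2 : p ∣ Nat.card ↥((P : Subgroup H) ⊔ N) :=
      dvd_trans hpP (Subgroup.card_dvd_of_le le_sup_left)
    have hcop : Nat.Coprime p (Nat.card N) := (Nat.Prime.coprime_iff_not_dvd hp).mpr hpN
    have h3 : p * Nat.card N ∣ Nat.card ↥((P : Subgroup H) ⊔ N) :=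
      Nat.Coprime.mul_dvd_of_dvd_of_dvd hcop h2 h1
    rw [hcard]
    exact Nat.le_of_dvd Nat.card_pos h3
  -- `C = N ∩ C(P)` is central, hence normal
  set C : Subgroup H := N ⊓ Subgroup.centralizer ((P : Subgroup H) : Set H) with hC
  have hCcent : ∀ c ∈ C, ∀ h : H, h * c = c * h := by
    intro c hc h
    have hle : (P : Subgroup H) ⊔ N ≤ Subgroup.centralizer ({c} : Set H) := by
      apply sup_le
      · intro g hg
        rw [Subgroup.mem_centralizer_iff]
        intro x hx
        rw [Set.mem_singleton_iff] at hx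
        subst hx
        exact ((Subgroup.mem_centralizer_iff.mp hc.2) g hg).symm
      · intro g hg
        rw [Subgroup.mem_centralizer_iff]
        intro x hx
        rw [Set.mem_singleton_iff] at hx
        subst hx
        exact hab x hc.1 g hg
    have hh : h ∈ Subgroup.centralizer ({c} : Set H) := hle (hsup ▸ Subgroup.mem_top h)
    exact ((Subgroup.mem_centralizer_iff.mp hh) c rfl).symm
  have hCnorm : C.Normal := by
    refine ⟨fun c hc h => ?_⟩
    rw [hCcent c hc h, mul_inv_cancel_right]
    exact hc
  have hCbot : C = ⊥ := by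
    rcases hNmin C hCnorm inf_le_left with h | h
    · exact h
    · exfalso
      apply hPn
      rw [← Subgroup.normalizer_eq_top_iff, eq_top_iff, ← hsup]
      apply sup_le Subgroup.le_normalizer
      have hNle : N ≤ Subgroup.centralizer ((P : Subgroup H) : Set H) := by
        rw [← h]; exact inf_le_right
      exact le_trans hNle (Subgroup.centralizer_le_normalizer _)
  -- the action of `P` on `N` by conjugation
  let φ : ↥(P : Subgroup H) →* MulAut ↥N :=
    (MulAut.conjNormal (H := N)).comp (P : Subgroup H).subtype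
  let _ : MulAction ↥(P : Subgroup H) ↥N := MulAction.compHom ↥N φ
  have hsmul : ∀ (g : ↥(P : Subgroup H)) (n : ↥N),
      ((g • n : ↥N) : H) = (g : H) * n * (g : H)⁻¹ := fun g n => rfl
  have hfix : MulAction.fixedPoints ↥(P : Subgroup H) ↥N = {1} := by
    ext n
    rw [MulAction.mem_fixedPoints, Set.mem_singleton_iff]
    constructor
    · intro h
      have hn : (n : H) ∈ C := by
        refine ⟨n.2, ?_⟩
        show (n : H) ∈ Subgroup.centralizer ((P : Subgroup H) : Set H)
        rw [Subgroup.mem_centralizer_iff]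
        intro g hg
        have h1 := congrArg Subtype.val (h ⟨g, hg⟩)
        rw [hsmul] at h1
        have h2 : g * (n : H) = (n : H) * g := by
          calc g * (n : H) = g * (n : H) * g⁻¹ * g := by group
            _ = (n : H) * g := by rw [h1]
        exact h2
      rw [hCbot, Subgroup.mem_bot] at hn
      exact Subtype.ext hn
    · rintro rfl g
      apply Subtype.ext
      rw [hsmul]
      simp
  have hmod := (P.isPGroup').card_modEq_card_fixedPoints (α := ↥N)
  rw [hfix] at hmod
  have h1 : Nat.card (({1} : Set ↥N)) = 1 := by simp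
  rw [h1] at hmod
  have := hmod
  unfold Nat.ModEq at this
  rw [this, Nat.mod_eq_of_lt hp.one_lt]

end Cfsg.Agent.Lib.Helper30.NpcCONG
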