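import Mathlib
import Cfsg.Agent.Lib.Helper1.PiClasses
import Cfsg.Agent.Lib.Helper30.PiHall
import Cfsg.Agent.Lib.Helper30.PiHallA
import Cfsg.Agent.Lib.Helper30.PiHallC
import Cfsg.Agent.S3897

set_option autoImplicit false

/-!
# Abelian Hall subgroups from many π-classes

`exists_fam`: if `τ` is a finite set of primes, all `≥ p`, and the number of classes of
τ-elements of `G` exceeds `|G|_τ (p² + p - 1) / p³`, then `G` has a commuting family of abelian
Sylow subgroups for the primes in `τ`.

`exists_abelian_hall`: the same for an arbitrary set `π` of primes with least member `p`: `G` has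
an abelian Hall π-subgroup.
-/

namespace Cfsg.Agent.Lib.Helper30.PiHall

open Cfsg.Agent.Lib.Helper1.PiClasses

universe u

theorem factorization_piPart {τ : Finset ℕ} (hτ : ∀ s ∈ τ, s.Prime) (n l : ℕ) :
    (piPart τ n).factorization l = if l ∈ τ then n.factorization l else 0 := by
  unfold piPart
  rw [Nat.factorization_prod (fun s hs => pow_ne_zero _ (hτ s hs).ne_zero),
    Finsupp.finsetSum_apply]
  have h1 : ∀ s ∈ τ, ((s ^ n.factorization s).factorization) l
      = if s = l then n.factorization l else 0 := by
    intro s hs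
    rw [Nat.Prime.factorization_pow (hτ s hs), Finsupp.single_apply]
    split_ifs with h
    · rw [h]
    · rfl
  rw [Finset.sum_congr rfl h1, Finset.sum_ite_eq']

theorem exists_fam (p : ℕ) (hp : 1 ≤ p) (τ : Finset ℕ) :
    ∀ (G : Type u) [Group G] [Finite G], (∀ s ∈ τ, s.Prime ∧ p ≤ s) →
      piPart τ (Nat.card G) * (p ^ 2 + p - 1) < p ^ 3 * kpi (↑τ) G →
      ∃ R : ℕ → Subgroup G, Fam τ ⊤ R := by
  induction τ using Finset.strongInduction with
  | H τ ih =>
    intro G _ _ hτ hmany
    rcases τ.eq_empty_or_nonempty with rfl | ⟨q0, hq0⟩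
    · exact ⟨fun _ => ⊥, ⟨by simp, by simp, by simp, by simp⟩⟩
    have hτp : ∀ s ∈ τ, s.Prime := fun s hs => (hτ s hs).1
    -- Step 1: the Sylow subgroups are abelian
    have hab : ∀ s ∈ τ, ∀ Q : Subgroup G, Nat.card Q = s ^ (Nat.card G).factorization s →
        ∀ x ∈ Q, ∀ y ∈ Q, x * y = y * x := by
      intro s hs Q hQc
      have hsp := hτp s hs
      have : Fact s.Prime := ⟨hsp⟩
      have h1 := kpi_le_mul_erase τ hτp hs (G := G)
      have h2 : kpi {s} G ≤ Nat.card (ConjClasses Q) := by
        have hex : ∀ c : PiCls ({s} : Set ℕ) G, ∃ x : Q,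
            ∃ hx : IsPiElt ({s} : Set ℕ) (x : G), mkPi (x : G) hx = c :=
          fun c => exists_mem_sylow (Sylow.ofCard Q hQc) c
        choose xx hxx hxx' using hex
        refine Nat.card_le_card_of_injective (fun c => ConjClasses.mk (xx c)) ?_
        intro c c' hcc
        have hcc' : ConjClasses.mk (xx c) = ConjClasses.mk (xx c') := hcc
        obtain ⟨g, hg⟩ := isConj_iff.mp (ConjClasses.mk_eq_mk_iff_isConj.mp hcc')
        rw [← hxx' c, ← hxx' c', mkPi_eq_iff]
        refine ⟨(g : G), ?_⟩
        have := congrArg Subtype.val hg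
        simpa using this
      have hm := piPart_eq_mul_erase τ hs (Nat.card G)
      have h3 : Nat.card Q * (p ^ 2 + p - 1) < p ^ 3 * Nat.card (ConjClasses Q) := by
        have h4 : piPart (τ.erase s) (Nat.card G) * (Nat.card Q * (p ^ 2 + p - 1))
            < piPart (τ.erase s) (Nat.card G) * (p ^ 3 * Nat.card (ConjClasses Q)) := by
          calc piPart (τ.erase s) (Nat.card G) * (Nat.card Q * (p ^ 2 + p - 1))
              = piPart τ (Nat.card G) * (p ^ 2 + p - 1) := by rw [hm, hQc]; ring
            _ < p ^ 3 * kpi (↑τ) G := hmany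
            _ ≤ p ^ 3 * (kpi {s} G * piPart (τ.erase s) (Nat.card G)) :=
                Nat.mul_le_mul_left _ h1
            _ ≤ p ^ 3 * (Nat.card (ConjClasses Q) * piPart (τ.erase s) (Nat.card G)) :=
                Nat.mul_le_mul_left _ (Nat.mul_le_mul_right _ h2)
            _ = piPart (τ.erase s) (Nat.card G) * (p ^ 3 * Nat.card (ConjClasses Q)) := by ring
        exact Nat.lt_of_mul_lt_mul_left h4
      have h5 := comm_of_many_classes hsp hp (hτ s hs).2 (IsPGroup.of_card hQc) h3
      intro x hx y hy
      exact congrArg Subtype.val (h5 ⟨x, hx⟩ ⟨y, hy⟩)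
    -- the induction hypothesis for `τ.erase q`
    have hIH : ∀ q ∈ τ, ∃ R : ℕ → Subgroup G, Fam (τ.erase q) ⊤ R := by
      intro q hq
      apply ih (τ.erase q) (Finset.erase_ssubset hq) G
        (fun s hs => hτ s (Finset.mem_of_mem_erase hs))
      have hqp := hτp q hq
      have h1 := kpi_insert_le' (G := G) (↑(τ.erase q) : Set ℕ) hqp
      rw [← Finset.coe_insert, Finset.insert_erase hq] at h1
      have hm := piPart_eq_mul_erase τ hq (Nat.card G)
      have h4 : q ^ (Nat.card G).factorization q
            * (piPart (τ.erase q) (Nat.card G) * (p ^ 2 + p - 1))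
          < q ^ (Nat.card G).factorization q * (p ^ 3 * kpi (↑(τ.erase q)) G) := by
        calc q ^ (Nat.card G).factorization q
              * (piPart (τ.erase q) (Nat.card G) * (p ^ 2 + p - 1))
            = piPart τ (Nat.card G) * (p ^ 2 + p - 1) := by rw [hm]; ring
          _ < p ^ 3 * kpi (↑τ) G := hmany
          _ ≤ p ^ 3 * (kpi (↑(τ.erase q)) G * q ^ (Nat.card G).factorization q) :=
              Nat.mul_le_mul_left _ h1
          _ = q ^ (Nat.card G).factorization q * (p ^ 3 * kpi (↑(τ.erase q)) G) := by ring
      exact Nat.lt_of_mul_lt_mul_left h4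
    by_cases hA : ∃ r ∈ τ, ∃ (_ : Fact r.Prime) (R0 : Sylow r G),
        Subgroup.normalizer ((R0 : Subgroup G) : Set G)
          ≤ Subgroup.centralizer ((R0 : Subgroup G) : Set G)
    · -- Case A: a normal r-complement
      obtain ⟨r, hr, hrF, R0, hN⟩ := hA
      obtain ⟨R, hR⟩ := hIH r hr
      have hK : ¬ r ∣ Nat.card (MonoidHom.transferSylow R0 hN).ker :=
        MonoidHom.not_dvd_card_ker_transferSylow R0 hN
      refine caseA τ p hp hτ hr (hab r hr) (MonoidHom.transferSylow R0 hN).ker hK R hR ?_ hmany
      intro s hs x hx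
      rw [MonoidHom.mem_ker]
      have hsp := hτp s (Finset.mem_of_mem_erase hs)
      have hsr : s ≠ r := Finset.ne_of_mem_erase hs
      have h1 : orderOf (MonoidHom.transferSylow R0 hN x) ∣ orderOf x := orderOf_map_dvd _ x
      have h2 : orderOf x ∣ s ^ (Nat.card (⊤ : Subgroup G)).factorization s := by
        rw [← hR.card s hs]
        have := orderOf_dvd_natCard (⟨x, hx⟩ : R s)
        rwa [Subgroup.orderOf_mk] at this
      have h3 : orderOf (MonoidHom.transferSylow R0 hN x) ∣ Nat.card (R0 : Subgroup G) :=
        orderOf_dvd_natCard _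
      rw [Sylow.card_eq_multiplicity] at h3
      have hcop : Nat.Coprime (s ^ (Nat.card (⊤ : Subgroup G)).factorization s)
          (r ^ (Nat.card G).factorization r) :=
        Nat.Coprime.pow _ _ ((Nat.coprime_primes hsp hrF.out).mpr hsr)
      have h4 := Nat.eq_one_of_dvd_coprimes hcop (h1.trans h2) h3
      exact orderOf_eq_one_iff.mp h4
    · -- Case C
      push Not at hA
      obtain ⟨R, hR⟩ := hIH q0 hq0
      have hqp := hτp q0 hq0
      have hqF : Fact q0.Prime := ⟨hqp⟩
      have hσp : ∀ s ∈ τ.erase q0, s.Prime := fun s hs => hτp s (Finset.mem_of_mem_erase hs)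
      refine caseC τ p hp hτ hq0 (hab q0 hq0) R hR ?_ ?_ ?_ hmany
      · -- the common normalizer is larger than the common centralizer
        rintro ⟨s, hs⟩
        by_contra hcon
        push Not at hcon
        have hsτ := Finset.mem_of_mem_erase hs
        have hsp := hτp s hsτ
        have hsF : Fact s.Prime := ⟨hsp⟩
        have hcs : Nat.card (R s) = s ^ (Nat.card G).factorization s := by
          rw [hR.card s hs, Subgroup.card_top]
        apply hA s hsτ hsF (Sylow.ofCard (R s) hcs)
        intro n hn
        have hn' : n ∈ Subgroup.normalizer ((R s : Subgroup G) : Set G) := hn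
        show n ∈ Subgroup.centralizer ((R s : Subgroup G) : Set G)
        have hA1 : Fam (τ.erase q0) (Subgroup.centralizer ((R s : Subgroup G) : Set G)) R := by
          refine hR.mono le_top ?_
          intro t ht z hz
          rw [Subgroup.mem_centralizer_iff]
          intro w hw
          exact hR.comm s hs t ht w hw z hz
        have hB1 : Fam (τ.erase q0) (Subgroup.centralizer ((R s : Subgroup G) : Set G))
            (fun t => cj n (R t)) := by
          refine (hR.conj (Subgroup.mem_top n)).mono le_top ?_
          intro t ht z hz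
          obtain ⟨w, hw, rfl⟩ := mem_cj.mp hz
          rw [Subgroup.mem_centralizer_iff]
          intro v hv
          have hv' : n⁻¹ * v * n ∈ R s := (Subgroup.mem_normalizer_iff''.mp hn' v).mp hv
          have hc := hR.comm s hs t ht _ hv' w hw
          calc v * (n * w * n⁻¹) = n * ((n⁻¹ * v * n) * w) * n⁻¹ := by group
            _ = n * (w * (n⁻¹ * v * n)) * n⁻¹ := by rw [hc]
            _ = n * w * n⁻¹ * v := by group
        obtain ⟨c, hc, hcR⟩ := fam_conj (τ.erase q0) _ _ R hB1 hA1
        have hcn : c * n ∈ NR (τ.erase q0) R := by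
          apply mem_NR_of_conj
          intro t ht y hy
          have := hcR t ht _ (conj_mem_cj (g := n) hy)
          have e : c * n * y * (c * n)⁻¹ = c * (n * y * n⁻¹) * c⁻¹ := by group
          rw [e]; exact this
        have hcnD := mem_DR.mp (hcon _ hcn) s hs
        have e : n = c⁻¹ * (c * n) := by group
        rw [e]
        exact Subgroup.mul_mem _ (Subgroup.inv_mem _ hc) hcnD
      · -- the number of classes of q-elements
        obtain ⟨P⟩ : Nonempty (Sylow q0 G) := inferInstance
        have hne := hA q0 hq0 ⟨hqp⟩ P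
        have h1 := Cfsg.Agent.S3897.card_cls_le P
        have h2 := Cfsg.Agent.S3897.count P hne
        have h3 : kpi {q0} G
            = Nat.card {c : ConjClasses G // ∀ x ∈ c.carrier, ∃ k : ℕ, orderOf x = q0 ^ k} := by
          unfold kpi PiCls
          apply Nat.card_congr
          apply Equiv.subtypeEquivRight
          intro c
          constructor
          · intro h x hx; exact (isPiElt_singleton_iff hqp).mp (h x hx)
          · intro h x hx; exact (isPiElt_singleton_iff hqp).mpr (h x hx)
        rw [h3, ← Sylow.card_eq_multiplicity P]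
        exact (Nat.mul_le_mul_left _ h1).trans h2
      · -- bad classes
        intro x hxq hxD
        by_contra hlt
        push Not at hlt
        have hvle : ∀ s, (Nat.card (Subgroup.centralizer ({x} : Set G))).factorization s
            ≤ (Nat.card G).factorization s := fun s =>
          (Nat.factorization_le_iff_dvd Nat.card_pos.ne' Nat.card_pos.ne').mpr
            (Subgroup.card_subgroup_dvd_card _) s
        by_cases hval : ∀ s ∈ τ.erase q0, (Nat.card G).factorization s
            ≤ (Nat.card (Subgroup.centralizer ({x} : Set G))).factorization s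
        · have hpp : piPart (τ.erase q0) (Nat.card (Subgroup.centralizer ({x} : Set G)))
              = piPart (τ.erase q0) (Nat.card G) := by
            unfold piPart
            apply Finset.prod_congr rfl
            intro s hs
            rw [le_antisymm (hvle s) (hval s hs)]
          rw [← hpp] at hlt
          obtain ⟨R', hR'⟩ := ih (τ.erase q0) (Finset.erase_ssubset hq0)
            (Subgroup.centralizer ({x} : Set G))
            (fun s hs => hτ s (Finset.mem_of_mem_erase hs)) hlt
          have hR'' : Fam (τ.erase q0) ⊤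
              (fun s => (R' s).map (Subgroup.centralizer ({x} : Set G)).subtype) := by
            refine ⟨hσp, fun s _ => le_top, ?_, ?_⟩
            · intro s hs
              show Nat.card ((R' s).map (Subgroup.centralizer ({x} : Set G)).subtype) = _
              rw [Subgroup.card_subtype, hR'.card s hs, Subgroup.card_top, Subgroup.card_top,
                le_antisymm (hvle s) (hval s hs)]
            · intro s hs t ht a ha b hb
              obtain ⟨a', ha', rfl⟩ := Subgroup.mem_map.mp ha
              obtain ⟨b', hb', rfl⟩ := Subgroup.mem_map.mp hb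
              have h2 := congrArg Subtype.val (hR'.comm s hs t ht a' ha' b' hb')
              simpa using h2
          obtain ⟨g, -, hgR⟩ := fam_conj (τ.erase q0) ⊤ _ R hR'' hR
          apply hxD g
          rw [mem_DR]
          intro s hs
          have heq : cj g ((R' s).map (Subgroup.centralizer ({x} : Set G)).subtype) = R s := by
            apply Subgroup.eq_of_le_of_card_ge
            · intro z hz
              obtain ⟨w, hw, rfl⟩ := mem_cj.mp hz
              exact hgR s hs w hw
            · rw [card_cj, hR''.card s hs, hR.card s hs]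
          rw [Subgroup.mem_centralizer_iff]
          intro y hy
          rw [← heq] at hy
          obtain ⟨w, hw, rfl⟩ := mem_cj.mp hy
          obtain ⟨w', hw', rfl⟩ := Subgroup.mem_map.mp hw
          have hwx : x * (w' : G) = (w' : G) * x :=
            Subgroup.mem_centralizer_iff.mp w'.2 x (Set.mem_singleton x)
          show g * (w' : G) * g⁻¹ * (g * x * g⁻¹) = g * x * g⁻¹ * (g * (w' : G) * g⁻¹)
          calc g * (w' : G) * g⁻¹ * (g * x * g⁻¹) = g * ((w' : G) * x) * g⁻¹ := by group
            _ = g * (x * (w' : G)) * g⁻¹ := by rw [hwx]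
            _ = g * x * g⁻¹ * (g * (w' : G) * g⁻¹) := by group
        · push Not at hval
          obtain ⟨s, hs, hslt⟩ := hval
          have hsp := hσp s hs
          have h1 := kpi_le_piPart (τ.erase q0) hσp (Subgroup.centralizer ({x} : Set G))
          have h2 : s * piPart (τ.erase q0) (Nat.card (Subgroup.centralizer ({x} : Set G)))
              ≤ piPart (τ.erase q0) (Nat.card G) := by
            rw [piPart_eq_mul_erase (τ.erase q0) hs
                (Nat.card (Subgroup.centralizer ({x} : Set G))),
              piPart_eq_mul_erase (τ.erase q0) hs (Nat.card G), ← mul_assoc, ← pow_succ']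
            apply Nat.mul_le_mul
            · exact Nat.pow_le_pow_right hsp.pos hslt
            · exact piPart_le_of_dvd _ (fun t ht => hσp t (Finset.mem_of_mem_erase ht))
                Nat.card_pos.ne' Nat.card_pos.ne' (Subgroup.card_subgroup_dvd_card _)
          have hps : p ≤ s := (hτ s (Finset.mem_of_mem_erase hs)).2
          have hF2 : p ^ 2 ≤ p ^ 2 + p - 1 := by omega
          have h3 : p ^ 3 * kpi (↑(τ.erase q0)) (Subgroup.centralizer ({x} : Set G))
              ≤ piPart (τ.erase q0) (Nat.card G) * (p ^ 2 + p - 1) := by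
            calc p ^ 3 * kpi (↑(τ.erase q0)) (Subgroup.centralizer ({x} : Set G))
                ≤ p ^ 3 * piPart (τ.erase q0) (Nat.card (Subgroup.centralizer ({x} : Set G))) :=
                  Nat.mul_le_mul_left _ h1
              _ = p ^ 2 * (p * piPart (τ.erase q0)
                    (Nat.card (Subgroup.centralizer ({x} : Set G)))) := by ring
              _ ≤ p ^ 2 * (s * piPart (τ.erase q0)
                    (Nat.card (Subgroup.centralizer ({x} : Set G)))) :=
                  Nat.mul_le_mul_left _ (Nat.mul_le_mul_right _ hps)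
              _ ≤ p ^ 2 * piPart (τ.erase q0) (Nat.card G) := Nat.mul_le_mul_left _ h2
              _ ≤ (p ^ 2 + p - 1) * piPart (τ.erase q0) (Nat.card G) :=
                  Nat.mul_le_mul_right _ hF2
              _ = piPart (τ.erase q0) (Nat.card G) * (p ^ 2 + p - 1) := Nat.mul_comm _ _
          exact absurd hlt (not_lt.mpr h3)

/-- many classes of π-elements force an abelian Hall π-subgroup -/
theorem exists_abelian_hall {G : Type u} [Group G] [Finite G]
    (π : Set ℕ) (hπ : ∀ q ∈ π, q.Prime) (p : ℕ) (hp : p ∈ π) (hmin : ∀ q ∈ π, p ≤ q)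
    (m : ℕ) (hm : m ∣ Nat.card G) (hmπ : ∀ q : ℕ, q.Prime → q ∣ m → q ∈ π)
    (hm' : ∀ q ∈ π, ¬ q ∣ Nat.card G / m)
    (k : ℕ) (hk : k = Nat.card {C : ConjClasses G // ∀ q : ℕ, q.Prime →
      (∃ g : G, ConjClasses.mk g = C ∧ q ∣ orderOf g) → q ∈ π})
    (hmany : m * (p ^ 2 + p - 1) < p ^ 3 * k) :
    ∃ H : Subgroup G, Nat.card H = m ∧ IsMulCommutative H := by
  classical
  have hτmem : ∀ s, s ∈ (Nat.card G).primeFactors.filter (fun q => q ∈ π)
      ↔ s.Prime ∧ s ∣ Nat.card G ∧ s ∈ π := by
    intro s
    rw [Finset.mem_filter, Nat.mem_primeFactors]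
    constructor
    · rintro ⟨⟨h1, h2, _⟩, h3⟩; exact ⟨h1, h2, h3⟩
    · rintro ⟨h1, h2, h3⟩; exact ⟨⟨h1, h2, Nat.card_pos.ne'⟩, h3⟩
  generalize (Nat.card G).primeFactors.filter (fun q => q ∈ π) = τ at hτmem
  have hτp : ∀ s ∈ τ, s.Prime := fun s hs => ((hτmem s).mp hs).1
  have hmpos : 0 < m := Nat.pos_of_dvd_of_pos hm Nat.card_pos
  have hdpos : 0 < Nat.card G / m := Nat.div_pos (Nat.le_of_dvd Nat.card_pos hm) hmpos
  have hmd : m * (Nat.card G / m) = Nat.card G := Nat.mul_div_cancel' hm
  have hmeq : piPart τ (Nat.card G) = m := by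
    apply Nat.eq_of_factorization_eq (piPart_pos τ hτp _).ne' hmpos.ne'
    intro l
    rw [factorization_piPart hτp]
    split_ifs with hl
    · have hl' := (hτmem l).mp hl
      have h0 : (Nat.card G / m).factorization l = 0 :=
        Nat.factorization_eq_zero_of_not_dvd (hm' l hl'.2.2)
      conv_lhs => rw [← hmd]
      rw [Nat.factorization_mul hmpos.ne' hdpos.ne', Finsupp.add_apply, h0, add_zero]
    · symm
      by_cases hlp : l.Prime
      · by_cases hld : l ∣ m
        · exact absurd ((hτmem l).mpr ⟨hlp, hld.trans hm, hmπ l hlp hld⟩) hl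
        · exact Nat.factorization_eq_zero_of_not_dvd hld
      · exact Nat.factorization_eq_zero_of_not_prime m hlp
  have hkeq : k = kpi (↑τ) G := by
    rw [hk]
    unfold kpi PiCls
    apply Nat.card_congr
    apply Equiv.subtypeEquivRight
    intro C
    constructor
    · intro h x hx l hl hld
      have hxC : ConjClasses.mk x = C := ConjClasses.mem_carrier_iff_mk_eq.mp hx
      rw [Finset.mem_coe, hτmem]
      exact ⟨hl, hld.trans (orderOf_dvd_natCard x), h l hl ⟨x, hxC, hld⟩⟩
    · rintro h l hl ⟨g, rfl, hld⟩
      have := h g ConjClasses.mem_carrier_mk l hl hld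
      exact ((hτmem l).mp (Finset.mem_coe.mp this)).2.2
  have hp1 : 1 ≤ p := (hπ p hp).one_lt.le
  obtain ⟨R, hR⟩ := exists_fam p hp1 τ G
    (fun s hs => ⟨hτp s hs, hmin s ((hτmem s).mp hs).2.2⟩)
    (by rw [hmeq, ← hkeq]; exact hmany)
  refine ⟨hull τ R, ?_, ⟨⟨fun a b => Subtype.ext (hR.hull_comm a.2 b.2)⟩⟩⟩
  rw [hR.card_hull, Subgroup.card_top, hmeq]

end Cfsg.Agent.Lib.Helper30.PiHall
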