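import Mathlib
import Cfsg.Agent.Lib.Helper1.PiClasses
import Cfsg.Agent.Lib.Helper30.PiHall
import Cfsg.Agent.Lib.Helper30.PiHallA

set_option autoImplicit false

/-!
# Raw counting inequality for the normal complement case

`card_inf_centralizer_conj`: `|C_P(g z g⁻¹)| = |C_P(z)|` for `g ∈ P` (any subgroup `P`).
`exists_sylow_NR`: if a commuting family for `σ` lies in a normal `r'`-subgroup, the common
normalizer of the family contains a Sylow `r`-subgroup of `G`.
`caseA_raw`: `k_τ(G) · |R1| ≤ ∑_{z ∈ hull} |C_{R1}(z)|²` for a Sylow `r`-subgroup `R1` (not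
necessarily abelian) normalizing the family.
-/

namespace Cfsg.Agent.Lib.Helper30.PiHall

open Cfsg.Agent.Lib.Helper1.PiClasses

universe u

section Raw

variable {G : Type u} [Group G]

theorem cj_inf_centralizer_le {P : Subgroup G} {g : G} (hg : g ∈ P) (z : G) :
    cj g (P ⊓ Subgroup.centralizer ({z} : Set G))
      ≤ P ⊓ Subgroup.centralizer ({g * z * g⁻¹} : Set G) := by
  intro x hx
  obtain ⟨w, hw, rfl⟩ := mem_cj.mp hx
  obtain ⟨hwP, hwc⟩ := Subgroup.mem_inf.mp hw
  refine Subgroup.mem_inf.mpr ⟨P.mul_mem (P.mul_mem hg hwP) (P.inv_mem hg), ?_⟩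
  rw [Subgroup.mem_centralizer_iff]
  intro v hv
  rw [Set.mem_singleton_iff] at hv
  rw [hv]
  have hc := Subgroup.mem_centralizer_iff.mp hwc z (Set.mem_singleton z)
  calc g * z * g⁻¹ * (g * w * g⁻¹) = g * (z * w) * g⁻¹ := by group
    _ = g * (w * z) * g⁻¹ := by rw [hc]
    _ = g * w * g⁻¹ * (g * z * g⁻¹) := by group

/-- `|C_P(g z g⁻¹)| = |C_P(z)|` for `g ∈ P` -/
theorem card_inf_centralizer_conj [Finite G] {P : Subgroup G} {g : G} (hg : g ∈ P) (z : G) :
    Nat.card (P ⊓ Subgroup.centralizer ({g * z * g⁻¹} : Set G) : Subgroup G)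
      = Nat.card (P ⊓ Subgroup.centralizer ({z} : Set G) : Subgroup G) := by
  apply le_antisymm
  · have h := cj_inf_centralizer_le (P.inv_mem hg) (g * z * g⁻¹)
    have e : g⁻¹ * (g * z * g⁻¹) * g⁻¹⁻¹ = z := by group
    rw [e] at h
    have := Subgroup.card_le_of_le h
    rwa [card_cj] at this
  · have := Subgroup.card_le_of_le (cj_inf_centralizer_le hg z)
    rwa [card_cj] at this

/-- the common normalizer of a family inside a normal `r'`-subgroup contains a Sylow
`r`-subgroup of `G` -/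
theorem exists_sylow_NR [Finite G] {σ : Finset ℕ} {R : ℕ → Subgroup G} (hR : Fam σ ⊤ R)
    (K : Subgroup G) [K.Normal] {r : ℕ} (hrp : r.Prime) (hK : ¬ r ∣ Nat.card K)
    (hRK : ∀ s ∈ σ, R s ≤ K) :
    ∃ R1 : Subgroup G, R1 ≤ NR σ R ∧ Nat.card R1 = r ^ (Nat.card G).factorization r := by
  obtain ⟨R1, hR1le, hR1c⟩ := exists_sylow_le (NR σ R) hrp
  have hval : (Nat.card (NR σ R)).factorization r = (Nat.card G).factorization r := by
    have := frattini_val hR K hK hRK ⊤ (fun s _ => le_top)
    rwa [top_inf_eq, Subgroup.card_top] at this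
  exact ⟨R1, hR1le, by rw [← hval]; exact hR1c⟩

/-- raw counting inequality of the normal complement case: `R1` is any Sylow `r`-subgroup
normalizing the family `R` for `τ \ {r}`, which lies in the normal `r'`-subgroup `K` -/
theorem caseA_raw [Fintype G] (τ : Finset ℕ) (hτ : ∀ s ∈ τ, s.Prime) {r : ℕ} (hr : r ∈ τ)
    (K : Subgroup G) [K.Normal] (hK : ¬ r ∣ Nat.card K)
    (R : ℕ → Subgroup G) (hR : Fam (τ.erase r) ⊤ R) (hRK : ∀ s ∈ τ.erase r, R s ≤ K)
    (R1 : Subgroup G) (hR1le : R1 ≤ NR (τ.erase r) R)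
    (hR1c' : Nat.card R1 = r ^ (Nat.card G).factorization r) :
    kpi (↑τ) G * r ^ (Nat.card G).factorization r
      ≤ ∑ z ∈ elts (hull (τ.erase r) R),
          Nat.card (R1 ⊓ Subgroup.centralizer ({z} : Set G) : Subgroup G)
            * Nat.card (R1 ⊓ Subgroup.centralizer ({z} : Set G) : Subgroup G) := by
  classical
  have hrp : r.Prime := hτ r hr
  have hσp : ∀ s ∈ τ.erase r, s.Prime := fun s hs => hτ s (Finset.mem_of_mem_erase hs)
  have hτσ : insert r (τ.erase r) = τ := Finset.insert_erase hr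
  have hval : (Nat.card (NR (τ.erase r) R)).factorization r = (Nat.card G).factorization r := by
    have := frattini_val hR K hK hRK ⊤ (fun s _ => le_top)
    rwa [top_inf_eq, Subgroup.card_top] at this
  have hR1c : Nat.card R1 = r ^ (Nat.card (NR (τ.erase r) R)).factorization r := by
    rw [hval]; exact hR1c'
  let _ : Fintype (PiCls (↑(τ.erase r) : Set ℕ) G) := Fintype.ofFinite _
  -- representatives
  have hreps : ∀ c : PiCls (↑(τ.erase r) : Set ℕ) G, ∃ y : G, y ∈ hull (τ.erase r) R ∧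
      (∃ h : IsPiElt (↑(τ.erase r)) y, mkPi y h = c) ∧
      (Tset {r} y).ncard ≤ Nat.card (R1 ⊓ Subgroup.centralizer ({y} : Set G) : Subgroup G) := by
    intro c
    obtain ⟨y0, hy0pi, hy0c⟩ := exists_rep c
    obtain ⟨g, -, hgy⟩ := fam_cover (τ.erase r) ⊤ R hR y0 (Subgroup.mem_top _) hy0pi
    have hypi : IsPiElt (↑(τ.erase r)) (g * y0 * g⁻¹) := isPiElt_conj g hy0pi
    have hyc : mkPi (g * y0 * g⁻¹) hypi = c := by
      rw [← hy0c, eq_comm, mkPi_eq_iff]; exact ⟨g, rfl⟩
    generalize g * y0 * g⁻¹ = y at hgy hypi hyc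
    have hRX : ∀ s ∈ τ.erase r, R s ≤ Subgroup.centralizer ({y} : Set G) := by
      intro s hs x hx
      rw [Subgroup.mem_centralizer_iff]
      intro z hz
      rw [Set.mem_singleton_iff] at hz
      rw [hz]
      exact hR.hull_comm hgy (le_hull hs hx)
    have hv := frattini_val hR K hK hRK (Subgroup.centralizer ({y} : Set G)) hRX
    obtain ⟨S, hSle, hSc⟩ :=
      exists_sylow_le (Subgroup.centralizer ({y} : Set G) ⊓ NR (τ.erase r) R) hrp
    rw [hv] at hSc
    obtain ⟨n, hn, hnS⟩ := conj_into (NR (τ.erase r) R) hrp (hSle.trans inf_le_right) hR1le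
      (IsPGroup.of_card hSc) hR1c
    refine ⟨n * y * n⁻¹, NR_conj_hull hn hgy, ⟨isPiElt_conj n hypi, ?_⟩, ?_⟩
    · rw [← hyc, eq_comm, mkPi_eq_iff]; exact ⟨n, rfl⟩
    · have h1 := (ncard_Tset_le ({r} : Set ℕ) (n * y * n⁻¹)).trans (kpi_prime_le hrp)
      have h2 : Subgroup.centralizer ({n * y * n⁻¹} : Set G)
          ≤ cj n (Subgroup.centralizer ({y} : Set G)) := by
        intro x hx
        rw [mem_cj]
        refine ⟨n⁻¹ * x * n, ?_, by group⟩
        rw [Subgroup.mem_centralizer_iff]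
        intro z hz
        rw [Set.mem_singleton_iff] at hz
        rw [hz]
        have hx' := Subgroup.mem_centralizer_iff.mp hx _ (Set.mem_singleton _)
        calc y * (n⁻¹ * x * n) = n⁻¹ * ((n * y * n⁻¹) * x) * n := by group
          _ = n⁻¹ * (x * (n * y * n⁻¹)) * n := by rw [hx']
          _ = n⁻¹ * x * n * y := by group
      have h3 : (Nat.card (Subgroup.centralizer ({n * y * n⁻¹} : Set G))).factorization r
          ≤ (Nat.card (Subgroup.centralizer ({y} : Set G))).factorization r := by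
        have hd := Subgroup.card_dvd_of_le h2
        rw [card_cj] at hd
        exact (Nat.factorization_le_iff_dvd Nat.card_pos.ne' Nat.card_pos.ne').mpr hd r
      have h4 : cj n S ≤ R1 ⊓ Subgroup.centralizer ({n * y * n⁻¹} : Set G) := by
        intro x hx
        obtain ⟨z, hz, rfl⟩ := mem_cj.mp hx
        refine Subgroup.mem_inf.mpr ⟨hnS z hz, ?_⟩
        rw [Subgroup.mem_centralizer_iff]
        intro w hw
        rw [Set.mem_singleton_iff] at hw
        rw [hw]
        have hz' := Subgroup.mem_centralizer_iff.mp (Subgroup.mem_inf.mp (hSle hz)).1 y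
          (Set.mem_singleton y)
        calc n * y * n⁻¹ * (n * z * n⁻¹) = n * (y * z) * n⁻¹ := by group
          _ = n * (z * y) * n⁻¹ := by rw [hz']
          _ = n * z * n⁻¹ * (n * y * n⁻¹) := by group
      calc (Tset {r} (n * y * n⁻¹)).ncard
          ≤ r ^ (Nat.card (Subgroup.centralizer ({n * y * n⁻¹} : Set G))).factorization r := h1
        _ ≤ r ^ (Nat.card (Subgroup.centralizer ({y} : Set G))).factorization r :=
            Nat.pow_le_pow_right hrp.pos h3
        _ = Nat.card (cj n S) := by rw [card_cj, hSc]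
        _ ≤ Nat.card (R1 ⊓ Subgroup.centralizer ({n * y * n⁻¹} : Set G) : Subgroup G) :=
            Subgroup.card_le_of_le h4
  choose yy hyyH hyyc hyyT using hreps
  have hk1 : kpi (↑τ) G
      ≤ ∑ c, Nat.card (R1 ⊓ Subgroup.centralizer ({yy c} : Set G) : Subgroup G) := by
    have h1 := kpi_le_sum_Tset (↑(τ.erase r) : Set ℕ) hrp yy hyyc
    have h2 : (insert r (↑(τ.erase r) : Set ℕ)) = ↑τ := by rw [← Finset.coe_insert, hτσ]
    rw [h2] at h1
    exact h1.trans (Finset.sum_le_sum (fun c _ => hyyT c))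
  have hk3 : (∑ c, Nat.card (R1 ⊓ Subgroup.centralizer ({yy c} : Set G) : Subgroup G))
      * r ^ (Nat.card G).factorization r
      ≤ ∑ z ∈ elts (hull (τ.erase r) R),
        Nat.card (R1 ⊓ Subgroup.centralizer ({z} : Set G) : Subgroup G)
          * Nat.card (R1 ⊓ Subgroup.centralizer ({z} : Set G) : Subgroup G) := by
    have := orbit_weighted R1 (fun g z => g * z * g⁻¹) (by intro x; simp)
      (by intro g h x; group) (elts (hull (τ.erase r) R))
      (fun z => Nat.card (R1 ⊓ Subgroup.centralizer ({z} : Set G) : Subgroup G)) yy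
      (fun c g hg => by
        show Nat.card (R1 ⊓ Subgroup.centralizer ({g * yy c * g⁻¹} : Set G) : Subgroup G) = _
        rw [card_inf_centralizer_conj hg])
      (fun c g hg => mem_elts.mpr (NR_conj_hull (hR1le hg) (hyyH c)))
      (fun c c' g hg heq => by
        obtain ⟨h1, e1⟩ := hyyc c
        obtain ⟨h2, e2⟩ := hyyc c'
        rw [← e1, ← e2, mkPi_eq_iff]
        exact ⟨g, heq⟩)
    rw [hR1c'] at this
    refine this.trans (le_of_eq (Finset.sum_congr rfl (fun z _ => by rw [stc_conj_eq])))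
  exact (Nat.mul_le_mul_right _ hk1).trans hk3

end Raw

end Cfsg.Agent.Lib.Helper30.PiHall
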