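import Mathlib
import Cfsg.Agent.Lib.Helper68.TIHall

/-!
# TI Hall subgroups in separable groups, part A

`O` is a normal subgroup of order coprime to `|H|` containing every such normal subgroup.
We prove `G = O * N_G(H)` and that `O * H` is normal.
-/

set_option autoImplicit false

namespace Cfsg.Agent.Lib.Helper30.TIHallA

open Subgroup

variable {G : Type*} [Group G]

theorem card_sup_normal (K H : Subgroup G) [K.Normal] :
    Nat.card ↥(K ⊔ H) = Nat.card K * K.relIndex H := by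
  have h1 := relIndex_mul_relIndex (⊥ : Subgroup G) K (K ⊔ H) bot_le le_sup_left
  rw [relIndex_sup_left, relIndex_bot_left, relIndex_bot_left] at h1
  exact h1.symm

theorem card_eq_inf_mul (K H : Subgroup G) :
    Nat.card H = Nat.card ↥(K ⊓ H) * K.relIndex H := by
  have h1 := relIndex_mul_relIndex (⊥ : Subgroup G) (K ⊓ H) H bot_le inf_le_right
  rw [inf_relIndex_right, relIndex_bot_left, relIndex_bot_left] at h1
  exact h1.symm

theorem card_sup_of_inf_eq_bot (K H : Subgroup G) [K.Normal] (h : K ⊓ H = ⊥) :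
    Nat.card ↥(K ⊔ H) = Nat.card K * Nat.card H := by
  rw [card_sup_normal K H]
  congr 1
  have h1 := card_eq_inf_mul K H
  rw [h] at h1
  simpa using h1.symm

/-- The largest normal subgroup of order coprime to `|H|`. -/
theorem sSup_coprime [Finite G] (H : Subgroup G) :
    (sSup {K : Subgroup G | K.Normal ∧ (Nat.card K).Coprime (Nat.card H)}).Normal ∧
    (Nat.card ↥(sSup {K : Subgroup G | K.Normal ∧ (Nat.card K).Coprime (Nat.card H)})).Coprime
      (Nat.card H) := by
  classical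
  obtain ⟨S, hS⟩ : ∃ S : Set (Subgroup G),
      S = {K : Subgroup G | K.Normal ∧ (Nat.card K).Coprime (Nat.card H)} := ⟨_, rfl⟩
  rw [← hS]
  have hbot : (⊥ : Subgroup G) ∈ S := by
    rw [hS]
    exact ⟨inferInstance, by simp⟩
  obtain ⟨K₀, hK₀, hmax⟩ := Set.exists_max_image S (fun K : Subgroup G => Nat.card K)
    (Set.toFinite S) ⟨⊥, hbot⟩
  have hK₀' : K₀.Normal ∧ (Nat.card K₀).Coprime (Nat.card H) := by rw [hS] at hK₀; exact hK₀
  have hle : ∀ K ∈ S, K ≤ K₀ := by
    intro K hK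
    have hK' : K.Normal ∧ (Nat.card K).Coprime (Nat.card H) := by rw [hS] at hK; exact hK
    haveI := hK₀'.1
    haveI := hK'.1
    have hmem : K₀ ⊔ K ∈ S := by
      rw [hS]
      refine ⟨inferInstance, ?_⟩
      rw [card_sup_normal K₀ K]
      exact Nat.Coprime.mul_left hK₀'.2
        (Nat.Coprime.coprime_dvd_left (relIndex_dvd_card K₀ K) hK'.2)
    have h1 : K₀ = K₀ ⊔ K := eq_of_le_of_card_ge le_sup_left (hmax _ hmem)
    rw [h1]
    exact le_sup_right
  have heq : sSup S = K₀ := le_antisymm (sSup_le hle) (le_sSup hK₀)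
  rw [heq]
  exact hK₀'

theorem le_sSup_coprime (H K : Subgroup G) (hK : K.Normal)
    (hc : (Nat.card K).Coprime (Nat.card H)) :
    K ≤ sSup {K : Subgroup G | K.Normal ∧ (Nat.card K).Coprime (Nat.card H)} :=
  le_sSup ⟨hK, hc⟩

/-- An element of order `p` of `B` is `B`-conjugate into `Y` when `p ∤ |B : Y ∩ B|`. -/
theorem exists_conj_mem_of_not_dvd [Finite G] (Y B : Subgroup G) (p : ℕ) [Fact p.Prime]
    (hp : ¬ p ∣ Y.relIndex B) (z : G) (hzB : z ∈ B) (hz : z ^ p = 1) :
    ∃ b ∈ B, b⁻¹ * z * b ∈ Y := by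
  classical
  obtain ⟨z', hz'⟩ : ∃ z' : B, z' = ⟨z, hzB⟩ := ⟨_, rfl⟩
  have hz'p : z' ^ p = 1 := by
    rw [hz']
    exact Subtype.ext (by simpa using hz)
  have hP : IsPGroup p (zpowers z') := by
    rintro ⟨g, hg⟩
    obtain ⟨i, rfl⟩ := mem_zpowers_iff.1 hg
    refine ⟨1, Subtype.ext ?_⟩
    show (z' ^ i) ^ p ^ 1 = 1
    rw [pow_one, ← zpow_natCast, ← zpow_mul, mul_comm, zpow_mul, zpow_natCast, hz'p, one_zpow]
  have hcard : ¬ p ∣ Nat.card (B ⧸ Y.subgroupOf B) := hp
  obtain ⟨q, hq⟩ := hP.nonempty_fixed_point_of_prime_not_dvd_card (B ⧸ Y.subgroupOf B) hcard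
  induction q using QuotientGroup.induction_on with
  | H b =>
    have h1 := hq ⟨z', mem_zpowers z'⟩
    have h2 : ((z' * b : B) : B ⧸ Y.subgroupOf B) = (b : B ⧸ Y.subgroupOf B) := h1
    rw [QuotientGroup.eq] at h2
    have h3 := (Y.subgroupOf B).inv_mem h2
    rw [mem_subgroupOf] at h3
    refine ⟨b, b.2, ?_⟩
    have h4 : (((z' * b)⁻¹ * b)⁻¹ : B) = b⁻¹ * z' * b := by group
    rw [h4, hz'] at h3
    simpa using h3

/-- `G = O * N_G(H)`. -/
theorem sup_normalizer [Finite G] (H : Subgroup G)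
    (hTI : Cfsg.IsTISubset (H : Set G))
    (hHall : (Nat.card H).Coprime (H.subgroupOf (Subgroup.normalizer (H : Set G))).index)
    (hsep : ∃ (n : ℕ) (M : Fin (n + 1) → Subgroup G), M 0 = ⊥ ∧ M (Fin.last n) = ⊤ ∧
      Monotone M ∧ (∀ i, (M i).Normal) ∧
      ∀ i : Fin n, (∀ q : ℕ, q.Prime → q ∣ (M i.castSucc).relIndex (M i.succ) → q ∣ Nat.card H) ∨
        ((M i.castSucc).relIndex (M i.succ)).Coprime (Nat.card H))
    (O : Subgroup G) (hOn : O.Normal) (hOc : (Nat.card O).Coprime (Nat.card H))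
    (hOmax : ∀ K : Subgroup G, K.Normal → (Nat.card K).Coprime (Nat.card H) → K ≤ O) :
    O ⊔ Subgroup.normalizer (H : Set G) = ⊤ := by
  classical
  obtain ⟨n, M, hM0, hMl, hmono, hMn, hfac⟩ := hsep
  by_cases htop : (⊤ : Subgroup G) ≤ O
  · exact top_le_iff.1 (htop.trans le_sup_left)
  obtain ⟨i, hi1, hi2⟩ : ∃ i : Fin n, M i.castSucc ≤ O ∧ ¬ M i.succ ≤ O := by
    by_contra hcon
    push Not at hcon
    have hall : ∀ j : Fin (n + 1), M j ≤ O := by
      intro j
      induction j using Fin.induction with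
      | zero => rw [hM0]; exact bot_le
      | succ i ih => exact hcon i ih
    exact htop (hMl ▸ hall (Fin.last n))
  obtain ⟨A, hA⟩ : ∃ A : Subgroup G, A = M i.castSucc := ⟨_, rfl⟩
  obtain ⟨B, hB⟩ : ∃ B : Subgroup G, B = M i.succ := ⟨_, rfl⟩
  rw [← hA] at hi1
  rw [← hB] at hi2
  have hAB : A ≤ B := by
    rw [hA, hB]
    exact hmono (Fin.castSucc_lt_succ).le
  haveI hBn : B.Normal := hB ▸ hMn i.succ
  have hpi : ∀ q : ℕ, q.Prime → q ∣ A.relIndex B → q ∣ Nat.card H := by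
    rcases hfac i with h | h
    · rw [hA, hB]; exact h
    · exfalso
      apply hi2
      apply hOmax B hBn
      have h1 : Nat.card A * A.relIndex B = Nat.card B := by
        have h0 := relIndex_mul_relIndex (⊥ : Subgroup G) A B bot_le hAB
        rw [relIndex_bot_left, relIndex_bot_left] at h0
        exact h0
      rw [← h1]
      refine Nat.Coprime.mul_left
        (Nat.Coprime.coprime_dvd_left (card_dvd_of_le hi1) hOc) ?_
      rw [hA, hB]; exact h
  obtain ⟨L, hL⟩ : ∃ L : Subgroup G, L = O ⊔ B := ⟨_, rfl⟩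
  haveI hLn : L.Normal := by rw [hL]; infer_instance
  obtain ⟨m, hm⟩ : ∃ m : ℕ, m = O.relIndex B := ⟨_, rfl⟩
  have hmpi : ∀ q : ℕ, q.Prime → q ∣ m → q ∣ Nat.card H := by
    intro q hq hqm
    apply hpi q hq
    rw [hm] at hqm
    exact hqm.trans (relIndex_dvd_of_le_left B hi1)
  have hLcard : Nat.card L = Nat.card O * m := by rw [hL, hm]; exact card_sup_normal O B
  have hHidx : (Nat.card H).Coprime H.index :=
    Cfsg.Agent.Lib.Helper68.TIHall.coprime_index H hTI hHall
  obtain ⟨D, hD⟩ : ∃ D : Subgroup G, D = H ⊓ L := ⟨_, rfl⟩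
  obtain ⟨t, ht⟩ : ∃ t : ℕ, t = H.relIndex L := ⟨_, rfl⟩
  have hDL : Nat.card L = Nat.card D * t := by rw [hD, ht]; exact card_eq_inf_mul H L
  have htdvd : t ∣ H.index := by
    have e1 : Nat.card ↥(L ⊔ H) = Nat.card L * L.relIndex H := card_sup_normal L H
    have e2 : Nat.card H = Nat.card ↥(L ⊓ H) * L.relIndex H := card_eq_inf_mul L H
    have e3 : Nat.card ↥(L ⊓ H) = Nat.card D := by rw [hD, inf_comm]
    have e4 : Nat.card ↥(L ⊔ H) = Nat.card H * t := by
      have hDpos : 0 < Nat.card D := Nat.card_pos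
      apply Nat.eq_of_mul_eq_mul_left hDpos
      calc Nat.card D * Nat.card ↥(L ⊔ H) = Nat.card D * (Nat.card L * L.relIndex H) := by rw [e1]
        _ = Nat.card L * (Nat.card D * L.relIndex H) := by ring
        _ = Nat.card L * Nat.card H := by rw [e2, e3]
        _ = Nat.card D * (Nat.card H * t) := by rw [hDL]; ring
    have e5 : Nat.card ↥(L ⊔ H) ∣ Nat.card G := Subgroup.card_subgroup_dvd_card _
    rw [e4, ← H.card_mul_index] at e5
    exact Nat.dvd_of_mul_dvd_mul_left Nat.card_pos e5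
  have htcop : (Nat.card H).Coprime t := Nat.Coprime.coprime_dvd_right htdvd hHidx
  have hmt : m.Coprime t := by
    apply Nat.coprime_of_dvd
    intro q hq hqm hqt
    exact hq.one_lt.ne' (Nat.eq_one_of_dvd_coprimes htcop (hmpi q hq hqm) hqt)
  have hmD : m ∣ Nat.card D := by
    have h1 : m ∣ Nat.card D * t := by
      rw [← hDL, hLcard]; exact dvd_mul_left m _
    exact hmt.dvd_of_dvd_mul_right h1
  have hOD : O ⊓ D = ⊥ := by
    apply Disjoint.eq_bot
    apply Subgroup.disjoint_of_coprime_natCard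
    refine Nat.Coprime.coprime_dvd_right (card_dvd_of_le ?_) hOc
    rw [hD]; exact inf_le_left
  have hODcard : Nat.card ↥(O ⊔ D) = Nat.card O * Nat.card D := card_sup_of_inf_eq_bot O D hOD
  have hLeq : O ⊔ D = L := by
    apply eq_of_le_of_card_ge
    · refine sup_le ?_ ?_
      · rw [hL]; exact le_sup_left
      · rw [hD]; exact inf_le_right
    · rw [hODcard, hLcard]
      exact Nat.mul_le_mul_left _ (Nat.le_of_dvd Nat.card_pos hmD)
  have hLle : L ≤ O ⊔ H := by
    rw [← hLeq, hD]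
    exact sup_le le_sup_left (inf_le_left.trans le_sup_right)
  have hDne : D ≠ ⊥ := by
    intro h0
    rw [h0, sup_bot_eq] at hLeq
    apply hi2
    rw [hLeq, hL]
    exact le_sup_right
  obtain ⟨p, hp, y, hyD, hy⟩ : ∃ p : ℕ, p.Prime ∧ ∃ y ∈ D, orderOf y = p := by
    have hcard : Nat.card D ≠ 1 := fun h => hDne (Subgroup.card_eq_one.1 h)
    obtain ⟨p, hp, hpd⟩ := Nat.exists_prime_and_dvd hcard
    haveI := Fact.mk hp
    obtain ⟨y, hy⟩ := exists_prime_orderOf_dvd_card' p hpd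
    exact ⟨p, hp, y, y.2, by rw [← hy]; exact (Subgroup.orderOf_coe y)⟩
  haveI := Fact.mk hp
  have hyH : y ∈ H := by rw [hD] at hyD; exact hyD.1
  have hyL : y ∈ L := by rw [hD] at hyD; exact hyD.2
  have hy1 : y ≠ 1 := by
    intro h
    rw [h, orderOf_one] at hy
    exact hp.ne_one hy.symm
  have hpH : p ∣ Nat.card H := by
    rw [← hy]
    exact Subgroup.orderOf_dvd_natCard H hyH
  have hOH : O ⊓ H = ⊥ := (Subgroup.disjoint_of_coprime_natCard hOc).eq_bot
  have hEcard : Nat.card ↥(O ⊔ H) = Nat.card O * Nat.card H := card_sup_of_inf_eq_bot O H hOH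
  have hrel : H.relIndex (O ⊔ H) = Nat.card O := by
    have h1 : Nat.card H * H.relIndex (O ⊔ H) = Nat.card ↥(O ⊔ H) := by
      have h0 := relIndex_mul_relIndex (⊥ : Subgroup G) H (O ⊔ H) bot_le le_sup_right
      rw [relIndex_bot_left, relIndex_bot_left] at h0
      exact h0
    rw [hEcard, mul_comm] at h1
    exact Nat.eq_of_mul_eq_mul_right Nat.card_pos h1
  have hpE : ¬ p ∣ H.relIndex (O ⊔ H) := by
    rw [hrel]
    intro h
    exact hp.one_lt.ne' (Nat.eq_one_of_dvd_coprimes hOc h hpH)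
  rw [eq_top_iff]
  intro g _
  have hzE : g * y * g⁻¹ ∈ O ⊔ H := hLle (hLn.conj_mem y hyL g)
  have hzp : (g * y * g⁻¹) ^ p = 1 := by
    rw [conj_pow, ← hy, pow_orderOf_eq_one]
    group
  obtain ⟨b, hbE, hb⟩ := exists_conj_mem_of_not_dvd H (O ⊔ H) p hpE (g * y * g⁻¹) hzE hzp
  have hbg : b⁻¹ * g ∈ normalizer (H : Set G) := by
    apply Cfsg.Agent.Lib.Helper68.TIHall.mem_normalizer_of_TI H hTI hyH hy1
    have h5 : b⁻¹ * g * y * (b⁻¹ * g)⁻¹ = b⁻¹ * (g * y * g⁻¹) * b := by group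
    rw [h5]
    exact hb
  have h6 : g = b * (b⁻¹ * g) := by group
  rw [h6]
  exact mul_mem ((sup_le le_sup_left (le_normalizer.trans le_sup_right) :
    O ⊔ H ≤ O ⊔ normalizer (H : Set G)) hbE) (mem_sup_right hbg)

/-- `O * X` is normal when `G = O * N'` with `N'` normalising `X`. -/
theorem sup_normal_of [Finite G] (X O N' : Subgroup G) [hOn : O.Normal]
    (htop : O ⊔ N' = ⊤) (hN : N' ≤ Subgroup.normalizer (X : Set G)) : (O ⊔ X).Normal := by
  rw [← Subgroup.normalizer_eq_top_iff, eq_top_iff, ← htop]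
  apply sup_le
  · exact le_sup_left.trans le_normalizer
  · intro n hn'
    have hn := hN hn'
    apply Cfsg.Agent.Lib.Helper68.TIHall.mem_normalizer_of_conj_mem
    intro x hx
    have hx' : x ∈ ((O ⊔ X : Subgroup G) : Set G) := hx
    rw [Subgroup.normal_mul] at hx'
    obtain ⟨o, ho, h, hh, rfl⟩ := Set.mem_mul.1 hx'
    have h1 : n * (o * h) * n⁻¹ = (n * o * n⁻¹) * (n * h * n⁻¹) := by group
    rw [h1]
    exact mul_mem (mem_sup_left (hOn.conj_mem o ho n))
      (mem_sup_right ((mem_normalizer_iff.1 hn h).1 hh))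

end Cfsg.Agent.Lib.Helper30.TIHallA
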