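import Mathlib
import Cfsg.Agent.Lib.Helper12.PerfD
import Cfsg.Agent.Lib.Helper54.OddAutTwo
import Cfsg.Agent.S0023
import Cfsg.Agent.S3742

/-!
# TI Hall subgroups in separable groups, part C

If a group `Q` of order coprime to `|H|` normalises a solvable group `H` having a
fixed-point-free linear representation, then commutators of elements of `Q` centralise `H`.
-/

set_option autoImplicit false

namespace Cfsg.Agent.Lib.Helper30.TIHallC

open Subgroup
open Cfsg.Agent.Lib.Helper12.FpfLin

universe u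

variable {G : Type u} [Group G]

/-- Commutators of elements normalising a cyclic subgroup centralise it. -/
theorem comm_of_cyclic (P : Subgroup G) (hP : IsCyclic P) (a b : G)
    (ha : a ∈ normalizer (P : Set G)) (hb : b ∈ normalizer (P : Set G)) :
    ∀ x ∈ P, x * (a * b * a⁻¹ * b⁻¹) = (a * b * a⁻¹ * b⁻¹) * x := by
  obtain ⟨g, hg⟩ := hP.exists_generator
  have key : ∀ c ∈ normalizer (P : Set G), ∃ i : ℤ, c⁻¹ * (g : G) * c = (g : G) ^ i := by
    intro c hc
    have h1 : c⁻¹ * (g : G) * c ∈ P := (mem_normalizer_iff''.1 hc _).1 g.2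
    obtain ⟨i, hi⟩ := mem_zpowers_iff.1 (hg ⟨_, h1⟩)
    refine ⟨i, ?_⟩
    have h2 := congrArg Subtype.val hi
    simpa using h2.symm
  obtain ⟨i, hi⟩ := key a ha
  obtain ⟨j, hj⟩ := key b hb
  have hconj : ∀ (c : G) (n : ℤ), c⁻¹ * (g : G) ^ n * c = (c⁻¹ * (g : G) * c) ^ n := by
    intro c n
    have h0 := conj_zpow (a := c⁻¹) (b := (g : G)) (i := n)
    rw [inv_inv] at h0
    exact h0.symm
  have h1 : (a * b)⁻¹ * (g : G) * (a * b) = (b * a)⁻¹ * (g : G) * (b * a) := by
    calc (a * b)⁻¹ * (g : G) * (a * b) = b⁻¹ * (a⁻¹ * (g : G) * a) * b := by group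
      _ = b⁻¹ * (g : G) ^ i * b := by rw [hi]
      _ = ((g : G) ^ j) ^ i := by rw [hconj, hj]
      _ = ((g : G) ^ i) ^ j := by rw [← zpow_mul, ← zpow_mul, mul_comm]
      _ = a⁻¹ * (g : G) ^ j * a := by rw [hconj, hi]
      _ = a⁻¹ * (b⁻¹ * (g : G) * b) * a := by rw [hj]
      _ = (b * a)⁻¹ * (g : G) * (b * a) := by group
  have h2 : (g : G) * (a * b * a⁻¹ * b⁻¹) = (a * b * a⁻¹ * b⁻¹) * (g : G) := by
    have h3 : (g : G) = (a * b) * ((b * a)⁻¹ * (g : G) * (b * a)) * (a * b)⁻¹ := by
      rw [← h1]; group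
    calc (g : G) * (a * b * a⁻¹ * b⁻¹)
        = ((a * b) * ((b * a)⁻¹ * (g : G) * (b * a)) * (a * b)⁻¹) * (a * b * a⁻¹ * b⁻¹) := by
          rw [← h3]
      _ = (a * b * a⁻¹ * b⁻¹) * (g : G) := by group
  intro x hx
  obtain ⟨n, hn⟩ := mem_zpowers_iff.1 (hg ⟨x, hx⟩)
  have hx' : x = (g : G) ^ n := by
    have h4 := congrArg Subtype.val hn
    simpa using h4.symm
  rw [hx']
  exact ((show Commute (g : G) (a * b * a⁻¹ * b⁻¹) from h2).zpow_left n).eq

/-- A group with a fixed-point-free linear representation has at most one involution. -/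
theorem invol_unique_of_fpf {H : Type*} [Group H] {r : ℕ} [Fact r.Prime] {V : Type*}
    [AddCommGroup V] [Module (ZMod r) V] [Finite V] [Nontrivial V]
    {ρ : H →* (V ≃ₗ[ZMod r] V)} (hρ : IsFpf ρ) {a b : H} (ha : a ^ 2 = 1) (hb : b ^ 2 = 1)
    (ha1 : a ≠ 1) (hb1 : b ≠ 1) : a = b := by
  have h1 := Cfsg.Agent.Lib.Helper12.QuatReg.invol_neg hρ (by rw [← pow_two]; exact ha) ha1
  have h2 := Cfsg.Agent.Lib.Helper12.QuatReg.invol_neg hρ (by rw [← pow_two]; exact hb) hb1
  obtain ⟨v, hv⟩ := exists_ne (0 : V)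
  have h3 : ρ (a * b) v = v := by
    rw [map_mul]
    show ρ a (ρ b v) = v
    rw [h2, map_neg, h1, neg_neg]
  by_contra hab
  have h4 : a * b ≠ 1 := by
    intro h
    apply hab
    calc a = a * b * b⁻¹ := by group
      _ = b⁻¹ := by rw [h]; group
      _ = b := inv_eq_of_mul_eq_one_left (by rw [← pow_two]; exact hb)
  exact hv (hρ _ h4 v h3)

theorem comm_centralizes [Finite G] (H Q : Subgroup G)
    (hQH : Q ≤ normalizer (H : Set G)) (hcop : (Nat.card Q).Coprime (Nat.card H))
    (hsol : Group.IsSolvable H) {r : ℕ} [Fact r.Prime] {V : Type*} [AddCommGroup V]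
    [Module (ZMod r) V] [Finite V] [Nontrivial V]
    (ρ : H →* (V ≃ₗ[ZMod r] V)) (hρ : IsFpf ρ) (a b : G) (ha : a ∈ Q) (hb : b ∈ Q) :
    a * b * a⁻¹ * b⁻¹ ∈ centralizer (H : Set G) := by
  classical
  obtain ⟨c, hc⟩ : ∃ c : G, c = a * b * a⁻¹ * b⁻¹ := ⟨_, rfl⟩
  rw [← hc]
  have hcQ : c ∈ Q := by
    rw [hc]
    exact Q.mul_mem (Q.mul_mem (Q.mul_mem ha hb) (Q.inv_mem ha)) (Q.inv_mem hb)
  obtain ⟨C, hC⟩ : ∃ C : Subgroup G, C = H ⊓ centralizer ({c} : Set G) := ⟨_, rfl⟩
  have hkey : ∀ (p : ℕ) [Fact p.Prime], ∃ P' : Subgroup G, P' ≤ C ∧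
      Nat.card P' = p ^ (Nat.card H).factorization p := by
    intro p hp
    obtain ⟨P, hP⟩ := Cfsg.Agent.S0023.result Q H hQH hcop (Or.inr hsol) p
    obtain ⟨P', hP'⟩ : ∃ P' : Subgroup G, P' = (P : Subgroup H).map H.subtype := ⟨_, rfl⟩
    rw [← hP'] at hP
    have hP'H : P' ≤ H := by rw [hP']; exact map_subtype_le _
    have hcard : Nat.card P' = p ^ (Nat.card H).factorization p := by
      rw [hP', card_map_of_injective H.subtype_injective, Sylow.card_eq_multiplicity]
    have hpg : IsPGroup p P' := IsPGroup.of_card hcard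
    refine ⟨P', ?_, hcard⟩
    have hgoal : ∀ x ∈ P', x * c = c * x := by
      by_cases hcyc : IsCyclic P'
      · rw [hc]; exact comm_of_cyclic P' hcyc a b (hP ha) (hP hb)
      · have hp2 : p = 2 := by
          by_contra hne
          apply hcyc
          haveI h1 : IsCyclic (P : Subgroup H) :=
            Cfsg.Agent.Lib.Helper12.PerfD.sylow_cyclic hρ hne P
          rw [hP']
          exact isCyclic_of_surjective
            ((P : Subgroup H).equivMapOfInjective H.subtype H.subtype_injective)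
            (MulEquiv.surjective _)
        subst hp2
        by_cases hall : ∀ g ∈ Q, ∀ x ∈ P', g * x * g⁻¹ = x
        · intro x hx
          have h1 := hall c hcQ x hx
          calc x * c = (c * x * c⁻¹) * c := by rw [h1]
            _ = c * x := by group
        · push Not at hall
          obtain ⟨g, hgQ, x₀, hx₀, hne⟩ := hall
          have hUI : ∀ u ∈ P', ∀ w ∈ P', u ^ 2 = 1 → w ^ 2 = 1 → u ≠ 1 → w ≠ 1 → u = w := by
            intro u hu w hw hu2 hw2 hu1 hw1
            have h0 := invol_unique_of_fpf hρ (a := ⟨u, hP'H hu⟩) (b := ⟨w, hP'H hw⟩)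
              (Subtype.ext (by simpa using hu2)) (Subtype.ext (by simpa using hw2))
              (fun h => hu1 (congrArg Subtype.val h)) (fun h => hw1 (congrArg Subtype.val h))
            exact congrArg Subtype.val h0
          have hodd : ¬ 2 ∣ Nat.card Q := by
            intro h2
            have h2H : 2 ∣ Nat.card H := by
              by_contra hn
              apply hcyc
              have h1 : Nat.card P' = 1 := by
                rw [hcard, Nat.factorization_eq_zero_of_not_dvd hn, pow_zero]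
              have hbot : P' = ⊥ := Subgroup.card_eq_one.1 h1
              rw [hbot]
              infer_instance
            exact absurd (Nat.eq_one_of_dvd_coprimes hcop h2 h2H) (by norm_num)
          have hgpow : g ^ Nat.card Q = 1 := by
            have h0 : (⟨g, hgQ⟩ : Q) ^ Nat.card Q = 1 := pow_card_eq_one'
            have h1 := congrArg Subtype.val h0
            rw [Subgroup.coe_pow, Subgroup.coe_one] at h1
            exact h1
          obtain ⟨hc8, ⟨e⟩⟩ := Cfsg.Agent.Lib.Helper54.OddAutTwo.quaternion_of_ui P' hpg hUI g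
            (fun q hq => (mem_normalizer_iff.1 (hP hgQ) q).1 hq) hgpow hodd ⟨x₀, hx₀, hne⟩
          obtain ⟨φ, hφ⟩ : ∃ φ : Q →* MulAut P',
              φ = (P'.normalizerMonoidHom).comp (inclusion hP) := ⟨_, rfl⟩
          have hcardAut : Nat.card (MulAut P') = 24 := by
            obtain ⟨e4⟩ := Cfsg.Agent.S3742.result
            rw [Nat.card_congr ((MulAut.congr e).trans e4).toEquiv, Nat.card_eq_fintype_card,
              Fintype.card_perm, Fintype.card_fin]
            rfl
          have hr1 : Nat.card φ.range ∣ 24 := hcardAut ▸ Subgroup.card_subgroup_dvd_card _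
          have hr2 : Nat.card φ.range ∣ Nat.card Q := Subgroup.card_range_dvd φ
          have hQ2 : (Nat.card Q).Coprime 2 :=
            Nat.Coprime.symm ((Nat.Prime.coprime_iff_not_dvd Nat.prime_two).2 hodd)
          have hQ8 : (Nat.card Q).Coprime 8 := by
            have h0 := Nat.Coprime.pow_right 3 hQ2
            norm_num at h0
            exact h0
          have hr3 : Nat.card φ.range ∣ 3 := by
            have h24 : (24 : ℕ) = 8 * 3 := by norm_num
            rw [h24] at hr1
            exact (Nat.Coprime.coprime_dvd_left hr2 hQ8).dvd_of_dvd_mul_left hr1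
          haveI : Fact (Nat.Prime 3) := ⟨by norm_num⟩
          haveI hcycR : IsCyclic φ.range := isCyclic_of_card_dvd_prime hr3
          have hcomm : φ ⟨a, ha⟩ * φ ⟨b, hb⟩ = φ ⟨b, hb⟩ * φ ⟨a, ha⟩ := by
            have h0 := (IsCyclic.isMulCommutative (α := φ.range)).is_comm.comm
              ⟨φ ⟨a, ha⟩, ⟨_, rfl⟩⟩ ⟨φ ⟨b, hb⟩, ⟨_, rfl⟩⟩
            exact congrArg Subtype.val h0
          have hker : φ ⟨c, hcQ⟩ = 1 := by
            have h0 : (⟨c, hcQ⟩ : Q) = ⟨a, ha⟩ * ⟨b, hb⟩ * (⟨a, ha⟩ : Q)⁻¹ * (⟨b, hb⟩ : Q)⁻¹ :=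
              Subtype.ext hc
            rw [h0, map_mul, map_mul, map_mul, map_inv, map_inv, hcomm]
            group
          have hmem : inclusion hP ⟨c, hcQ⟩ ∈ (P'.normalizerMonoidHom).ker := by
            rw [MonoidHom.mem_ker]
            rw [hφ] at hker
            exact hker
          rw [normalizerMonoidHom_ker, mem_subgroupOf] at hmem
          have hmem' : c ∈ centralizer (P' : Set G) := hmem
          intro x hx
          exact mem_centralizer_iff.1 hmem' x hx
    intro x hx
    rw [hC, Subgroup.mem_inf]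
    refine ⟨hP'H hx, ?_⟩
    rw [mem_centralizer_iff]
    intro y hy
    rw [Set.mem_singleton_iff] at hy
    rw [hy]
    exact (hgoal x hx).symm
  have hdvd : Nat.card H ∣ Nat.card C := by
    rw [Nat.dvd_iff_prime_pow_dvd_dvd]
    intro p k hp hpk
    haveI : Fact p.Prime := ⟨hp⟩
    obtain ⟨P', hP'C, hcard⟩ := hkey p
    have h2 : p ^ k ∣ Nat.card P' := by
      rw [hcard]
      apply pow_dvd_pow
      exact (hp.pow_dvd_iff_le_factorization Nat.card_pos.ne').1 hpk
    exact h2.trans (card_dvd_of_le hP'C)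
  have hCH : C = H := eq_of_le_of_card_ge (by rw [hC]; exact inf_le_left)
    (Nat.le_of_dvd Nat.card_pos hdvd)
  rw [mem_centralizer_iff]
  intro h hh
  have h1 : h ∈ C := by rw [hCH]; exact hh
  rw [hC] at h1
  have h3 := mem_centralizer_iff.1 h1.2 c (Set.mem_singleton c)
  exact h3.symm

end Cfsg.Agent.Lib.Helper30.TIHallC
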