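import Mathlib
import Cfsg.Agent.Lib.Helper88.WNStmt

set_option autoImplicit false

/-! Piece [FCEN] of S5141: for `E` invariant in `F` and `P` an `E`-centric subgroup, the image of
`P` under any map of `F` contains its centralizer in `T`. -/

namespace Cfsg.Agent.Lib.Helper30.WNFCEN

open Cfsg Cfsg.FusionSystem Cfsg.Agent.Lib.Helper88.WNStmt

universe u

theorem main : FCentric.{u} := by
  intro Ω _ S F T E hinv P hP ψ hψ
  obtain ⟨-, -, -, hfr⟩ := hinv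
  obtain ⟨α, hα, φ₀, hφ₀, hfac⟩ := hfr P hP.1 ψ hψ
  have hφT : ∀ x : P, φ₀ x ∈ T := (E.le_of_mem hφ₀).2
  have hcen := hP.2 φ₀.range ⟨φ₀, hφ₀, rfl⟩
  intro s hs
  have hsT : s ∈ T := hs.1
  have hsC : ∀ h ∈ (ψ.range : Set Ω), h * s = s * h := Subgroup.mem_centralizer_iff.1 hs.2
  obtain ⟨s', hs'⟩ : ∃ s' : T, s' = α⁻¹ ⟨s, hsT⟩ := ⟨_, rfl⟩
  have hs'c : (s' : Ω) ∈ centralizerIn T φ₀.range := by
    refine ⟨s'.2, Subgroup.mem_centralizer_iff.2 ?_⟩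
    rintro _ ⟨x, rfl⟩
    have h1 : ψ x * s = s * ψ x := hsC (ψ x) ⟨x, rfl⟩
    rw [hfac x (hφT x)] at h1
    have h2 : α ⟨φ₀ x, hφT x⟩ * ⟨s, hsT⟩ = ⟨s, hsT⟩ * α ⟨φ₀ x, hφT x⟩ := Subtype.ext h1
    have h3 := congrArg (α⁻¹ : MulAut T) h2
    rw [map_mul, map_mul, MulAut.inv_apply_self, ← hs'] at h3
    exact congrArg Subtype.val h3
  obtain ⟨x, hx⟩ := hcen hs'c
  refine ⟨x, ?_⟩
  rw [hfac x (hφT x)]
  have e : (⟨φ₀ x, hφT x⟩ : T) = s' := Subtype.ext hx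
  rw [e, hs', MulAut.apply_inv_self]

end Cfsg.Agent.Lib.Helper30.WNFCEN
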